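import Cfsg.Agent.OddHalf.DblR.FamP

/-!
# ODD, D4, row l3e (text #14806 (C)): the double over a Sylow 2-subgroup, NORM TRICK

`S` a Sylow 2-subgroup of `K` with centre `X` (a root group), `[S, S] ≤ X`; `T0` the torus of `⟨X_ρ, X_{-ρ}⟩`;
`h0 ∈ K` an element of odd order normalising `S`, centralising `X`, without fixed points on `S / X`.

* `Exist.Env.exists_v0_norm` : `y` trivial on `X` and on `S / X` with `[y, R] ≤ X`; then `v0 = (y h0)^m` centralises `S`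
  and `[v0, r] = [y, r]`;
* `NLoc` : the local situation (`Loc` with `P = Q = S`, without `B`);
* **`NLoc.exists_dw`**, **`NLoc.exists_base`** : the doubled root group;
* **`NLoc.false`** : with `KTriP`: no `g` normalising `S`, `X`, `R X` moves `R`.
-/

set_option autoImplicit false

namespace Cfsg.Agent.OddHalf.DblR

open Cfsg.Agent.Nodes.Reps

variable {G : Type*} [Group G]

namespace Exist.Env

variable {K R X S T0 : Subgroup G}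

/-- **The norm trick.** -/
theorem exists_v0_norm (E : Env K R X S S T0) (SS : ∀ s ∈ S, ∀ s' ∈ S, s * s' * s⁻¹ * s'⁻¹ ∈ X)
    {h0 : G} (h0K : h0 ∈ K) (h0S : ∀ s ∈ S, h0 * s * h0⁻¹ ∈ S) (h0X : ∀ x ∈ X, h0 * x = x * h0)
    {m : ℕ} (hm : Odd m) (h0m : h0 ^ m = 1) (h0f : ∀ s ∈ S, h0 * s * h0⁻¹ * s⁻¹ ∈ X → s ∈ X)
    {y : G} (yX : ∀ x ∈ X, y * x = x * y) (yS : ∀ s ∈ S, y * s * y⁻¹ * s⁻¹ ∈ X) (yR : ∀ r ∈ R, δ r y ∈ X)
    {b : G} (hb : b ∈ R) (yb : δ b y ≠ 1) : ∃ v0 ∈ E.V, δ b v0 ≠ 1 := by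
  have XXc : ∀ x ∈ X, ∀ s ∈ S, x * s = s * x := E.XPc
  have XS : X ≤ S := E.XP
  set a := y * h0 with ha
  have aX : ∀ x ∈ X, a * x = x * a := by
    intro x hx
    rw [ha, mul_assoc, h0X x hx, ← mul_assoc, yX x hx, mul_assoc]
  have aXn : ∀ n : ℕ, ∀ x ∈ X, a ^ n * x = x * a ^ n := fun n x hx =>
    ((show Commute a x from aX x hx).pow_left n)
  -- action of `a`
  have aS : ∀ s ∈ S, ∃ x ∈ X, a * s * a⁻¹ = x * (h0 * s * h0⁻¹) := by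
    intro s hs
    refine ⟨_, yS _ (h0S s hs), ?_⟩
    rw [ha]; group
  have h0n : ∀ n : ℕ, ∀ s ∈ S, h0 ^ n * s * (h0 ^ n)⁻¹ ∈ S := by
    intro n
    induction n with
    | zero => intro s hs; simpa using hs
    | succ n ih =>
      intro s hs
      have := h0S _ (ih s hs)
      rw [show h0 ^ (n + 1) * s * (h0 ^ (n + 1))⁻¹ = h0 * (h0 ^ n * s * (h0 ^ n)⁻¹) * h0⁻¹ by
        rw [pow_succ']; group]
      exact this
  have aSn : ∀ n : ℕ, ∀ s ∈ S, ∃ x ∈ X, a ^ n * s * (a ^ n)⁻¹ = x * (h0 ^ n * s * (h0 ^ n)⁻¹) := by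
    intro n
    induction n with
    | zero => intro s _; exact ⟨1, one_mem _, by simp⟩
    | succ n ih =>
      intro s hs
      obtain ⟨x, hx, e⟩ := ih s hs
      obtain ⟨x', hx', e'⟩ := aS _ (h0n n s hs)
      refine ⟨x * x', mul_mem hx hx', ?_⟩
      calc a ^ (n + 1) * s * (a ^ (n + 1))⁻¹ = a * (a ^ n * s * (a ^ n)⁻¹) * a⁻¹ := by rw [pow_succ']; group
        _ = (a * x) * (h0 ^ n * s * (h0 ^ n)⁻¹) * a⁻¹ := by rw [e]; group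
        _ = x * (a * (h0 ^ n * s * (h0 ^ n)⁻¹) * a⁻¹) := by rw [aX x hx]; group
        _ = x * x' * (h0 ^ (n + 1) * s * (h0 ^ (n + 1))⁻¹) := by rw [e', pow_succ']; group
  -- `v0 = a ^ m`, `θ s = v0 s v0⁻¹ s⁻¹`
  set v := a ^ m with hv
  have hθ : ∀ s ∈ S, v * s * v⁻¹ * s⁻¹ ∈ X := by
    intro s hs
    obtain ⟨x, hx, e⟩ := aSn m s hs
    rw [h0m] at e
    rw [e]
    simpa using hx
  have hvX : ∀ x ∈ X, v * x = x * v := aXn m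
  have hmul : ∀ s ∈ S, ∀ s' ∈ S, v * (s * s') * v⁻¹ * (s * s')⁻¹ = (v * s * v⁻¹ * s⁻¹) * (v * s' * v⁻¹ * s'⁻¹) := by
    intro s hs s' hs'
    have h1 := XXc _ (hθ s' hs') s hs
    calc v * (s * s') * v⁻¹ * (s * s')⁻¹ = (v * s * v⁻¹ * s⁻¹) * (s * (v * s' * v⁻¹ * s'⁻¹)) * s⁻¹ := by group
      _ = _ := by rw [← h1]; group
  -- `θ (h0 s h0⁻¹) = θ s`
  have hinv : ∀ s ∈ S, v * (h0 * s * h0⁻¹) * v⁻¹ * (h0 * s * h0⁻¹)⁻¹ = v * s * v⁻¹ * s⁻¹ := by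
    intro s hs
    obtain ⟨x, hx, e⟩ := aS s hs
    have hc : a * v = v * a := by rw [hv]; exact (Commute.refl a).pow_right m
    have hc' : a⁻¹ * v⁻¹ = v⁻¹ * a⁻¹ := by rw [← mul_inv_rev, ← mul_inv_rev, hc]
    have h1 : v * (a * s * a⁻¹) * v⁻¹ * (a * s * a⁻¹)⁻¹ = a * (v * s * v⁻¹ * s⁻¹) * a⁻¹ := by
      calc v * (a * s * a⁻¹) * v⁻¹ * (a * s * a⁻¹)⁻¹ = (v * a) * s * (a⁻¹ * v⁻¹) * (a * s * a⁻¹)⁻¹ := by group
        _ = (a * v) * s * (v⁻¹ * a⁻¹) * (a * s * a⁻¹)⁻¹ := by rw [hc', hc]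
        _ = _ := by group
    rw [aX _ (hθ s hs), mul_inv_cancel_right, e, hmul x (XS hx) _ (h0S s hs)] at h1
    rw [hvX x hx] at h1
    rw [← h1]; group
  -- the norm
  have hN : ∀ n : ℕ, ∀ s ∈ S, (s * h0) ^ n * (h0 ^ n)⁻¹ ∈ S ∧
      v * ((s * h0) ^ n * (h0 ^ n)⁻¹) * v⁻¹ * ((s * h0) ^ n * (h0 ^ n)⁻¹)⁻¹ = (v * s * v⁻¹ * s⁻¹) ^ n := by
    intro n s hs
    induction n with
    | zero => simp
    | succ n ih =>
      have e : (s * h0) ^ (n + 1) * (h0 ^ (n + 1))⁻¹ = s * (h0 * ((s * h0) ^ n * (h0 ^ n)⁻¹) * h0⁻¹) := by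
        rw [pow_succ' (s * h0), pow_succ h0 n]
        simp only [mul_inv_rev, mul_assoc]
        congr 3
        rw [← mul_inv_rev, ← mul_inv_rev, ← pow_succ, ← pow_succ']
      rw [e]
      refine ⟨mul_mem hs (h0S _ ih.1), ?_⟩
      rw [hmul s hs _ (h0S _ ih.1), hinv _ ih.1, ih.2, pow_succ']
  have hvS : ∀ s ∈ S, v * s = s * v := by
    intro s hs
    obtain ⟨h1, h2⟩ := hN m s hs
    rw [h0m, inv_one, mul_one] at h1 h2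
    -- `N = (s h0) ^ m` is fixed by `h0` modulo `X`
    have h3 : (s * h0) ^ m ∈ X := by
      apply h0f _ h1
      have e : h0 * (s * h0) ^ m * h0⁻¹ * ((s * h0) ^ m)⁻¹ = s⁻¹ * (s * h0) ^ m * s⁻¹⁻¹ * ((s * h0) ^ m)⁻¹ := by
        have key : ∀ w : G, h0 = s⁻¹ * w →
            h0 * w ^ m * h0⁻¹ * (w ^ m)⁻¹ = s⁻¹ * w ^ m * s⁻¹⁻¹ * (w ^ m)⁻¹ := by
          intro w hw
          have hc : w * w ^ m = w ^ m * w := (Commute.refl w).pow_right m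
          calc h0 * w ^ m * h0⁻¹ * (w ^ m)⁻¹ = s⁻¹ * (w * w ^ m) * w⁻¹ * s * (w ^ m)⁻¹ := by rw [hw]; group
            _ = _ := by rw [hc]; group
        exact key _ (by group)
      rw [e]
      exact SS _ (inv_mem hs) _ h1
    have h4 : v * (s * h0) ^ m * v⁻¹ * ((s * h0) ^ m)⁻¹ = 1 := by
      rw [hvX _ h3]; group
    rw [h4] at h2
    have h5 : v * s * v⁻¹ * s⁻¹ = 1 := by
      obtain ⟨k, rfl⟩ := hm
      have h6 := E.Xsq _ (hθ s hs)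
      rw [pow_succ, pow_mul, pow_two, h6, one_pow, one_mul] at h2
      exact h2.symm
    calc v * s = (v * s * v⁻¹ * s⁻¹) * s * v := by group
      _ = s * v := by rw [h5, one_mul]
  -- `[v, r] = [y, r]`
  have haδ : ∀ r ∈ R, δ r a = δ r y := by
    intro r hr
    have h1 : h0 * r = r * h0 := (E.RK r hr h0 h0K).symm
    unfold δ
    rw [ha]
    calc y * h0 * r * (y * h0)⁻¹ * r⁻¹ = y * (h0 * r) * h0⁻¹ * y⁻¹ * r⁻¹ := by group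
      _ = y * r * y⁻¹ * r⁻¹ := by rw [h1]; group
  have hvδ : ∀ r ∈ R, δ r v = δ r y := by
    intro r hr
    have h1 : a * δ r a = δ r a * a := aX _ (by rw [haδ r hr]; exact yR r hr)
    rw [hv, δ_pow h1, haδ r hr]
    obtain ⟨k, rfl⟩ := hm
    rw [pow_succ, pow_mul, pow_two, E.Xsq _ (yR r hr), one_pow, one_mul]
  exact ⟨v, ⟨hvS, fun r hr => by rw [hvδ r hr]; exact yR r hr⟩, by rw [hvδ b hb]; exact yb⟩

/-- the element `y`: trivial on `X` and on `S / X`, `[y, R] ≤ X`, `[y, R] ≠ 1` -/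
theorem exists_y [Finite G] (E : Env K R X S S T0)
    (k4 : ∀ g : G, (∀ p ∈ S, g * p * g⁻¹ ∈ S) → (∀ x ∈ X, g * x * g⁻¹ ∈ X) → ∀ h1 ∈ T0, ∃ h ∈ T0,
      (∀ p ∈ S, (g * h1 * g⁻¹) * p * (g * h1 * g⁻¹)⁻¹ * (h * p * h⁻¹)⁻¹ ∈ X) ∧
      ∀ x ∈ X, (g * h1 * g⁻¹) * x * (g * h1 * g⁻¹)⁻¹ = h * x * h⁻¹)
    {g : G} (gS : ∀ p ∈ S, g * p * g⁻¹ ∈ S) (gX : ∀ x ∈ X, g * x * g⁻¹ ∈ X)
    (gR : ∀ a ∈ R, ∃ b ∈ R, ∃ x ∈ X, g * a * g⁻¹ = b * x) (hg : ∃ a ∈ R, g * a * g⁻¹ ∉ R) :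
    ∃ y : G, (∀ x ∈ X, y * x = x * y) ∧ (∀ s ∈ S, y * s * y⁻¹ * s⁻¹ ∈ X) ∧ (∀ r ∈ R, δ r y ∈ X) ∧
      ∃ b ∈ R, δ b y ≠ 1 := by
  obtain ⟨h1, hh1, x1, hx1, hne1⟩ := E.Tne
  have hfp : ∀ y ∈ X, y ≠ 1 → h1 * y * h1⁻¹ ≠ y := fun y hy hy1 => E.fpf hh1 hx1 hne1 hy hy1
  have gX' := conj_inv_mem gX
  have gS' := conj_inv_mem gS
  obtain ⟨h, hh, hhS, hhX⟩ := k4 g gS gX h1 hh1
  set e := g * h1 * g⁻¹ with he
  obtain ⟨a, ha, haR⟩ := hg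
  obtain ⟨b, hb, x, hx, hab⟩ := gR a ha
  have hxne : x ≠ 1 := by
    rintro rfl
    rw [mul_one] at hab
    exact haR (by rw [hab]; exact hb)
  have hea : ∀ a ∈ R, e * (g * a * g⁻¹) = (g * a * g⁻¹) * e := by
    intro a ha
    have := E.TR hh1 ha
    calc e * (g * a * g⁻¹) = g * (h1 * a) * g⁻¹ := by rw [he]; group
      _ = g * (a * h1) * g⁻¹ := by rw [this]
      _ = (g * a * g⁻¹) * e := by rw [he]; group
  have heX : ∀ x ∈ X, e * x * e⁻¹ ∈ X := by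
    intro x hx
    rw [hhX x hx]
    exact E.TX h hh x hx
  have hefp : ∀ x ∈ X, x ≠ 1 → e * x * e⁻¹ ≠ x := by
    intro x hx hx1 hex
    refine hfp (g⁻¹ * x * g) (gX' x hx) ?_ ?_
    · intro h
      apply hx1
      rw [show x = g * (g⁻¹ * x * g) * g⁻¹ by group, h]; group
    · calc h1 * (g⁻¹ * x * g) * h1⁻¹ = g⁻¹ * (e * x * e⁻¹) * g := by rw [he]; group
        _ = g⁻¹ * x * g := by rw [hex]
  -- `e` does not commute with `b`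
  have heb : e * b ≠ b * e := by
    intro h
    refine hefp x hx hxne ?_
    have h1 := hea a ha
    rw [hab] at h1
    have h2 : e * x = x * e := by
      calc e * x = e * (b⁻¹ * (b * x)) := by group
        _ = (e * b⁻¹) * (b * x) := by group
        _ = (b⁻¹ * (b * e) * b⁻¹) * (b * x) := by group
        _ = (b⁻¹ * (e * b) * b⁻¹) * (b * x) := by rw [h]
        _ = b⁻¹ * (e * (b * x)) := by group
        _ = b⁻¹ * ((b * x) * e) := by rw [h1]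
        _ = x * e := by group
    rw [h2, mul_inv_cancel_right]
  -- `[e, R] ≤ X`
  have heR : ∀ r ∈ R, e * r * e⁻¹ * r⁻¹ ∈ X := by
    intro r hr
    obtain ⟨s, hs, y, hy, hrs⟩ : ∃ s ∈ R, ∃ y ∈ X, r = (g * s * g⁻¹) * y := by
      let RX : Subgroup G :=
        { carrier := {z | ∃ s ∈ R, ∃ y ∈ X, z = s * y}
          one_mem' := ⟨1, one_mem _, 1, one_mem _, by group⟩
          mul_mem' := by
            rintro _ _ ⟨s, hs, y, hy, rfl⟩ ⟨s', hs', y', hy', rfl⟩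
            refine ⟨s * s', mul_mem hs hs', y * y', mul_mem hy hy', ?_⟩
            have := E.RX hs' hy
            calc s * y * (s' * y') = s * (y * s') * y' := by group
              _ = s * (s' * y) * y' := by rw [this]
              _ = _ := by group
          inv_mem' := by
            rintro _ ⟨s, hs, y, hy, rfl⟩
            refine ⟨s⁻¹, inv_mem hs, y⁻¹, inv_mem hy, ?_⟩
            rw [mul_inv_rev, E.RX (inv_mem hs) (inv_mem hy)] }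
      have hRX : ∀ z ∈ RX, g * z * g⁻¹ ∈ RX := by
        rintro _ ⟨s, hs, y, hy, rfl⟩
        obtain ⟨b, hb, x, hx, h⟩ := gR s hs
        refine ⟨b, hb, x * (g * y * g⁻¹), mul_mem hx (gX y hy), ?_⟩
        calc g * (s * y) * g⁻¹ = (g * s * g⁻¹) * (g * y * g⁻¹) := by group
          _ = b * (x * (g * y * g⁻¹)) := by rw [h]; group
      obtain ⟨s, hs, y, hy, h⟩ := conj_inv_mem hRX r ⟨r, hr, 1, one_mem _, by group⟩
      refine ⟨s, hs, g * y * g⁻¹, gX y hy, ?_⟩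
      calc r = g * (g⁻¹ * r * g) * g⁻¹ := by group
        _ = (g * s * g⁻¹) * (g * y * g⁻¹) := by rw [h]; group
    have e1 : r = y * (g * s * g⁻¹) := by
      have : g * s * g⁻¹ = r * y⁻¹ := by rw [hrs]; group
      rw [this, ← mul_assoc, ← E.RX hr hy]; group
    have e2 := hea s hs
    have e3 : e * r * e⁻¹ * r⁻¹ = (e * y * e⁻¹) * y⁻¹ := by
      nth_rewrite 1 [e1]
      calc e * (y * (g * s * g⁻¹)) * e⁻¹ * r⁻¹ = e * y * ((g * s * g⁻¹) * e⁻¹) * r⁻¹ := by group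
        _ = e * y * (e⁻¹ * (e * (g * s * g⁻¹)) * e⁻¹) * r⁻¹ := by group
        _ = e * y * e⁻¹ * (g * s * g⁻¹) * r⁻¹ := by rw [e2]; group
        _ = (e * y * e⁻¹) * y⁻¹ := by rw [e1]; group
    rw [e3]
    exact mul_mem (heX y hy) (inv_mem hy)
  have hh' := inv_mem hh
  refine ⟨h⁻¹ * e, fun x hx => ?_, fun p hp => ?_, fun r hr => ?_, b, hb, ?_⟩
  · have := hhX x hx
    calc h⁻¹ * e * x = h⁻¹ * (e * x * e⁻¹) * e := by group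
      _ = x * (h⁻¹ * e) := by rw [this]; group
  · have h2 := E.TX _ hh' _ (hhS p hp)
    rwa [show h⁻¹ * (e * p * e⁻¹ * (h * p * h⁻¹)⁻¹) * h⁻¹⁻¹ = h⁻¹ * e * p * (h⁻¹ * e)⁻¹ * p⁻¹ by group] at h2
  · have h2 := E.TX _ hh' _ (heR r hr)
    have h3 : h⁻¹ * r * h = r := by rw [mul_assoc, E.TR hh hr, inv_mul_cancel_left]
    have h4 : δ r (h⁻¹ * e) = h⁻¹ * (e * r * e⁻¹ * r⁻¹) * h⁻¹⁻¹ := by
      unfold δ
      calc h⁻¹ * e * r * (h⁻¹ * e)⁻¹ * r⁻¹ = h⁻¹ * (e * r * e⁻¹) * h * r⁻¹ := by group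
        _ = h⁻¹ * (e * r * e⁻¹) * h * (h⁻¹ * r * h)⁻¹ := by rw [h3]
        _ = _ := by group
    rw [h4]; exact h2
  · rw [Ne, δ_eq_one_iff]
    intro h2
    apply heb
    calc e * b = h * (h⁻¹ * e * b) := by group
      _ = (h * b) * (h⁻¹ * e) := by rw [h2]; group
      _ = b * e := by rw [← E.TR hh hb]; group

end Exist.Env

/-! ### The local situation -/

/-- **The local situation** over a Sylow 2-subgroup `S` of `K` with centre `X`. -/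
structure NLoc (K R S X T0 : Subgroup G) : Prop where
  amb : Amb K R
  SK : S ≤ K
  XS : X ≤ S
  XX : ∀ x ∈ X, x * x = 1
  XZ : ∀ x ∈ X, ∀ p ∈ S, x * p = p * x
  SS : ∀ s ∈ S, ∀ s' ∈ S, s * s' * s⁻¹ * s'⁻¹ ∈ X
  TK : T0 ≤ K
  TX : ∀ h ∈ T0, ∀ x ∈ X, h * x * h⁻¹ ∈ X
  TS : ∀ h ∈ T0, ∀ p ∈ S, h * p * h⁻¹ ∈ S
  Tab : ∀ h ∈ T0, ∀ k ∈ T0, h * k = k * h
  Ttr : ∀ x ∈ X, x ≠ 1 → ∀ y ∈ X, y ≠ 1 → ∃ h ∈ T0, h * x * h⁻¹ = y
  big : ∃ x ∈ X, ∃ y ∈ X, x ≠ 1 ∧ y ≠ 1 ∧ x ≠ y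
  two : ∀ c ∈ C1 K R, IsPGroup 2 (Subgroup.zpowers c) → c ∈ R
  k3 : ∀ c : G, (∀ a ∈ R, c * a = a * c) → (∀ p ∈ S, c * p = p * c) → ∃ x ∈ X, x⁻¹ * c ∈ C1 K R
  k4 : ∀ g : G, (∀ p ∈ S, g * p * g⁻¹ ∈ S) → (∀ x ∈ X, g * x * g⁻¹ ∈ X) → ∀ h1 ∈ T0, ∃ h ∈ T0,
      (∀ p ∈ S, (g * h1 * g⁻¹) * p * (g * h1 * g⁻¹)⁻¹ * (h * p * h⁻¹)⁻¹ ∈ X) ∧
      ∀ x ∈ X, (g * h1 * g⁻¹) * x * (g * h1 * g⁻¹)⁻¹ = h * x * h⁻¹
  /-- an element of odd order centralising `X`, without fixed points on `S / X` -/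
  h0 : ∃ h0 ∈ K, (∀ s ∈ S, h0 * s * h0⁻¹ ∈ S) ∧ (∀ x ∈ X, h0 * x = x * h0) ∧ (∃ m : ℕ, Odd m ∧ h0 ^ m = 1) ∧
    ∀ s ∈ S, h0 * s * h0⁻¹ * s⁻¹ ∈ X → s ∈ X

namespace NLoc

variable {K R S X T0 : Subgroup G}

open Exist Exist.Env

theorem env (L : NLoc K R S X T0) : Env K R X S S T0 where
  RK := L.amb.comm
  Rsq := L.amb.tt
  C1R := fun c h1 h2 _ hj => L.two c (mem_C1.2 ⟨h1, h2⟩) (isPGroup_zpowers hj)
  PK := L.SK
  QP := le_rfl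
  TK := L.TK
  XP := L.XS
  Xsq := L.XX
  XPc := L.XZ
  Xc := fun x hx h => L.amb.ctr x (L.SK (L.XS hx)) h
  TX := L.TX
  TPQ := fun h hh p hp => mul_mem (L.TS h hh p hp) (inv_mem hp)
  Tc := L.Tab
  Ttr := L.Ttr
  Tne := by
    obtain ⟨x, hx, y, hy, hx1, hy1, hxy⟩ := L.big
    obtain ⟨h, hh, e⟩ := L.Ttr x hx hx1 y hy hy1
    exact ⟨h, hh, x, hx, by rw [e]; exact hxy.symm⟩
  tight := by
    intro g t ht ht1 hg h
    refine L.amb.tight ht ht1 hg fun a ha => ?_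
    have hg' : g⁻¹ * t = t * g⁻¹ := by
      calc g⁻¹ * t = g⁻¹ * (t * g) * g⁻¹ := by group
        _ = g⁻¹ * (g * t) * g⁻¹ := by rw [hg]
        _ = t * g⁻¹ := by group
    have h1 := L.amb.nor t ht ht1 g⁻¹ hg' _ (L.SK (L.XS (h a ha)))
    have h2 : br a g = (g⁻¹ * (g * a * g⁻¹ * a⁻¹) * g⁻¹⁻¹)⁻¹ := by unfold br; group
    rw [h2]
    exact inv_mem h1
  k3 := by
    intro c h1 h2
    obtain ⟨x, hx, hc⟩ := L.k3 c h2 h1
    exact ⟨x, hx, (mem_C1.1 hc).1⟩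

/-- **(EX)**: existence of the doubled root group. -/
theorem exists_dw [Finite G] (L : NLoc K R S X T0) {g : G} (gS : ∀ p ∈ S, g * p * g⁻¹ ∈ S)
    (gX : ∀ x ∈ X, g * x * g⁻¹ ∈ X)
    (gR : ∀ a ∈ R, ∃ b ∈ R, ∃ x ∈ X, g * a * g⁻¹ = b * x) (hg : ∃ a ∈ R, g * a * g⁻¹ ∉ R) :
    ∃ h0 ∈ T0, (∀ x ∈ X, x ≠ 1 → h0 * x * h0⁻¹ ≠ x) ∧ ∃ W : Subgroup G, DW K R S X W ∧ (∀ w ∈ W, w * w ∈ X) ∧
      (∀ c ∈ C1 K R, ∀ w ∈ W, w * c * w⁻¹ * c⁻¹ ∈ X) ∧ (∀ h ∈ T0, ∀ w ∈ W, h * w * h⁻¹ ∈ W) ∧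
      ∀ k ∈ K, (∃ p ∈ S, k * h0 * k⁻¹ = h0 * p) → (∀ p ∈ S, k * p * k⁻¹ ∈ S) → (∀ x ∈ X, k * x * k⁻¹ ∈ X) →
        ∀ w ∈ W, k * w * k⁻¹ ∈ W := by
  have E := L.env
  obtain ⟨k0, hk0, k0S, k0X, ⟨m, hm, k0m⟩, k0f⟩ := L.h0
  obtain ⟨y, yX, yS, yR, r, hr, yr⟩ := E.exists_y L.k4 gS gX gR hg
  obtain ⟨v0, hv0, h0⟩ := E.exists_v0_norm L.SS hk0 k0S k0X hm k0m k0f yX yS yR hr yr
  obtain ⟨h, hh, x1, hx1, hne1⟩ := E.Tne
  have hfp : ∀ y ∈ X, y ≠ 1 → h * y * h⁻¹ ≠ y := fun y hy hy1 => E.fpf hh hx1 hne1 hy hy1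
  have hR : ∃ t ∈ R, t ≠ 1 := ⟨r, hr, by
    rintro rfl
    exact h0 (δ_eq_one_iff.2 (by rw [mul_one, one_mul]))⟩
  have hall : ∀ t ∈ R, t ≠ 1 → δ t v0 ≠ 1 := fun t ht ht1 he =>
    h0 (δ_eq_one_iff.2 (E.V_comm hv0 ht ht1 (δ_eq_one_iff.1 he) r hr))
  have hbr : ∀ {t w : G}, br t w = δ t w⁻¹ := by
    intro t w; unfold br δ; group
  have hWV : ∀ w ∈ E.W hR hh, w ∈ E.V := fun w hw => E.V2_le hR (E.W_le hR hh hw)
  refine ⟨h, hh, hfp, E.W hR hh, ?_, fun w hw => (E.W_le hR hh hw).2,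
    fun c hc w hw => (E.W_le hR hh hw).1.2 c (mem_C1.1 hc), fun k hk w hw => E.W_T hR hh hk hw, ?_⟩
  · refine ⟨E.XP, E.PK, E.X_le_W hR hh, E.Xsq, fun w hw p hp => E.V_P (hWV w hw) hp, ?_, ?_, ?_, ?_⟩
    · intro t ht w hw
      rw [hbr]
      exact E.V_δ (inv_mem (hWV w hw)) ht
    · intro t ht ht1 w hw h1
      exact E.W_fix hR hh hfp hw ht ht1 h1.symm
    · intro t ht ht1 x hx
      obtain ⟨w, hw, hwx⟩ := E.W_surj hR hh hfp hv0 ht ht1 (hall t ht ht1) x hx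
      refine ⟨w, hw, ?_⟩
      rw [hbr, E.δ_inv' ht (hWV w hw), hwx, E.xx_inv hx]
    · intro c hc w hw
      have h1 : c * w * c⁻¹ = w * δ c w⁻¹ := by unfold δ; group
      rw [h1]
      exact mul_mem hw (E.X_le_W hR hh ((inv_mem (E.W_le hR hh hw) : w⁻¹ ∈ E.V2 hR).1.2 c (mem_C1.1 hc)))
  · rintro k hk ⟨p, hp, hkh⟩ hkP hkX w hw
    exact E.W_conj hR hh hk (conj_inv_mem hkP) hkX hp hkh hw

/-- **The doubled root group, invariant under `N_K(X)`.** -/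
theorem exists_base [Finite G] (L : NLoc K R S X T0) (N : NorX K S X T0) {g : G} (gS : cj g S = S) (gX : cj g X = X)
    (gR : ∀ a ∈ R, ∃ b ∈ R, ∃ x ∈ X, g * a * g⁻¹ = b * x) (hg : ∃ a ∈ R, g * a * g⁻¹ ∉ R) :
    ∃ W : Subgroup G, Base K R S X W := by
  have invX : ∀ {k x : G} {A : Subgroup G}, cj k A = A → x ∈ A → k * x * k⁻¹ ∈ A := by
    intro k x A h hx
    have := conj_mem_cj (g := k).2 hx
    rwa [h] at this
  obtain ⟨h0, hh0, -, W, D, -, -, -, hW⟩ := L.exists_dw (fun p hp => invX gS hp) (fun p hp => invX gX hp) gR hg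
  refine ⟨W, D, ?_⟩
  have key : ∀ k ∈ K, cj k X = X → cj k W ≤ W := by
    intro k hk hX w hw
    rw [mem_cj] at hw
    obtain ⟨p, hp, e⟩ := N.nh k hk hX h0 hh0
    have := hW k hk ⟨p, hp, e⟩ (fun p hp => invX (N.nP k hk hX) hp) (fun x hx => invX hX hx) _ hw
    have e2 : k * (k⁻¹ * w * k) * k⁻¹ = w := by group
    rwa [e2] at this
  intro k hk hX
  apply le_antisymm (key k hk hX)
  have hX' : cj k⁻¹ X = X := by
    conv_lhs => rw [← hX]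
    exact cj_inv_cj k X
  have := cj_mono k (key k⁻¹ (inv_mem hk) hX')
  rwa [cj_cj_inv] at this

/-- **(C) + (D)**: no `g` normalising `S`, `X`, `R X` moves `R`. -/
theorem false [Finite G] {T Xr Xs Xd Pr Ps Pd Yr Ys Y : Subgroup G} {n m : G}
    (H : KTriP K R T Xr Xs Xd Pr Ps Pd Yr Ys Y n m) (L : NLoc K R S X T0) (N : NorX K S X T0)
    {a b c : G} (ha : a ∈ K) (hb : b ∈ K) (hc : c ∈ K) (eXa : cj a X = Xr) (eXb : cj b X = Xs) (eXc : cj c X = Xd)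
    (ePa : cj a S = Pr) (ePb : cj b S = Ps) (ePc : cj c S = Pd)
    {t t' : G} (ht : t ∈ R) (ht1 : t ≠ 1) (ht' : t' ∈ R) (ht1' : t' ≠ 1) (hne : t' ≠ t)
    {g : G} (gS : cj g S = S) (gX : cj g X = X)
    (gR : ∀ a ∈ R, ∃ b ∈ R, ∃ x ∈ X, g * a * g⁻¹ = b * x) (hg : ∃ a ∈ R, g * a * g⁻¹ ∉ R) : False := by
  obtain ⟨W, B⟩ := L.exists_base N gS gX gR hg
  exact hne ((H.triP L.amb B ha hb hc eXa eXb eXc ePa ePb ePc).eq_of_ne_one ht ht1 ht' ht1')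

end NLoc

end Cfsg.Agent.OddHalf.DblR
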