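import Cfsg.Agent.OddHalf.D4.L3.FrameK
import Cfsg.Agent.StdRank2.L3Env
import Cfsg.Agent.OddHalf.DblR.FamP
import Cfsg.Agent.OddHalf.D4.L3.DblNorm

/-!
# ODD, D4, row `L₃(q)`: the normaliser of the Sylow 2-subgroup `S`, existence of the doubled root group

* `exists_maps` : an element normalising `S` acts on `S / Z`, `Z` by an autotopism of `F`;
* `T0 f` : the torus of `⟨X_ρ, X_{-ρ}⟩`;
* `exists_act` : if `g` normalises `S` and `y ∈ T0` then some `h ∈ T0` acts as `g y g⁻¹` on `S / Z` and on `Z`;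
* `nloc`, `norX` : the structures `NLoc`, `NorX` of the doubling;
* **`exists_base`** : existence of the doubled root group.
-/

set_option autoImplicit false
set_option linter.unusedSectionVars false

namespace Cfsg.Agent.OddHalf.D4.L3.Double

open Cfsg.Agent.ClassicalGeometry.AutPSL.Root Cfsg.Agent.ClassicalGeometry.AutPSL.Auto
  Cfsg.Agent.ClassicalGeometry.AutPSL.Main Cfsg.Agent.OddHalf.D4.Basic Cfsg.Agent.OddHalf.D4.L3
open Subgroup (normalizer centralizer mem_centralizer_iff mem_normalizer_iff zpowers)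
open Cfsg.Agent.OddHalf.DblR Cfsg.Agent.Nodes.Reps

variable {F : Type*} [Field F] {G : Type*} [Group G] {f : Y3 F →* G}

theorem el_mul_z (a b c c' : F) : U f a b c * U f 0 0 c' = U f a b (c + c') := by
  rw [U_mul]; congr 1 <;> ring

theorem z_mul_el (a b c c' : F) : U f 0 0 c' * U f a b c = U f a b (c + c') := by
  rw [U_mul]; congr 1 <;> ring

theorem z_comm (a b c c' : F) : U f 0 0 c' * U f a b c = U f a b c * U f 0 0 c' := by
  rw [el_mul_z, z_mul_el]

theorem z_mul (c c' : F) : U f 0 0 c * U f 0 0 c' = U f 0 0 (c + c') := by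
  rw [el_mul_z]

theorem el_eq (a b c : F) : U f a b c = U f 0 b 0 * U f a 0 0 * U f 0 0 c := by
  rw [U_mul, U_mul]; congr 1 <;> ring

theorem mul_U_inv (a b c c' : F) : U f a b c * (U f a b c')⁻¹ = U f 0 0 (c - c') := by
  rw [U_inv, U_mul]; congr 1 <;> ring

theorem z_central {z u : G} (hz : z ∈ Zf f) (hu : u ∈ Sf f) : z * u = u * z := by
  obtain ⟨c, rfl⟩ := hz
  obtain ⟨a, b, d, rfl⟩ := hu
  exact z_comm a b d c

section inj

variable (hf : Function.Injective f)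
include hf

/-- an element of `S` centralising `S` -/
theorem mem_of_central {g : G} (hg : g ∈ Sf f) (h : ∀ v ∈ Sf f, g * v = v * g) : g ∈ Zf f := by
  obtain ⟨a, b, c, rfl⟩ := hg
  have h1 := h _ (U_mem f 1 0 0)
  have h2 := h _ (U_mem f 0 1 0)
  rw [U_mul, U_mul] at h1 h2
  have h3 := (U_inj hf h1).2.2
  have h4 := (U_inj hf h2).2.2
  rw [U_mem_Z hf]
  constructor
  · linear_combination h4
  · linear_combination -h3

/-- an element normalising `S` normalises `Z` -/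
theorem conj_Zf {g : G} (hg : ∀ u ∈ Sf f, g * u * g⁻¹ ∈ Sf f) (hg' : ∀ u ∈ Sf f, g⁻¹ * u * g ∈ Sf f) :
    ∀ z ∈ Zf f, g * z * g⁻¹ ∈ Zf f := by
  intro z hz
  refine mem_of_central hf (hg z (Zf_le f hz)) fun v hv => ?_
  have h1 := z_central hz (hg' v hv)
  calc g * z * g⁻¹ * v = g * (z * (g⁻¹ * v * g)) * g⁻¹ := by group
    _ = g * ((g⁻¹ * v * g) * z) * g⁻¹ := by rw [h1]
    _ = v * (g * z * g⁻¹) := by group

variable [CharP F 2]

/-- **The action on `S / Z` and `Z`.** -/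
theorem exists_maps {n : G} (hg : ∀ u ∈ Sf f, n * u * n⁻¹ ∈ Sf f) (hg' : ∀ u ∈ Sf f, n⁻¹ * u * n ∈ Sf f) :
    ∃ φ g k : F → F,
    (∀ a b, k (a * b) = φ a * g b) ∧ k 1 ≠ 0 ∧ (∀ a b, k (a + b) = k a + k b) ∧
    (∀ a b, k a = k b → a = b) ∧
    (∀ c, n * U f 0 0 c * n⁻¹ = U f 0 0 (k c)) ∧
    ((∀ a b c, ∃ c', n * U f a b c * n⁻¹ = U f (φ a) (g b) c') ∨
      (∀ a b c, ∃ c', n * U f a b c * n⁻¹ = U f (g b) (φ a) c')) := by
  have two : (2 : F) = 0 := CharTwo.two_eq_zero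
  have H1 : ∀ a b c, ∃ p q r, n * U f a b c * n⁻¹ = U f p q r := fun a b c => hg _ (U_mem f a b c)
  have H2 : ∀ c, ∃ k, n * U f 0 0 c * n⁻¹ = U f 0 0 k := fun c => conj_Zf hf hg hg' _ (Z_mem f c)
  choose p q r hpqr using H1
  choose k hk using H2
  have zinj : ∀ {a b : F}, U f 0 0 a = U f 0 0 b → a = b := fun h => (U_inj hf h).2.2
  have hkinj : ∀ a b, k a = k b → a = b := by
    intro a b hab
    have h1 := hk a
    rw [hab, ← hk b] at h1
    exact zinj (mul_left_cancel (mul_right_cancel h1))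
  have hk0 : k 0 = 0 := by
    have h1 := hk 0
    rw [U_one, mul_one, mul_inv_cancel, ← U_one f] at h1
    exact (zinj h1).symm
  have hk1 : k 1 ≠ 0 := fun h1 => one_ne_zero (hkinj 1 0 (by rw [h1, hk0]))
  have hkadd : ∀ a b, k (a + b) = k a + k b := by
    intro a b
    apply zinj
    rw [← hk, ← z_mul, ← z_mul, ← hk a, ← hk b]
    group
  have hadd : ∀ a b a' b', p (a + a') (b + b') 0 = p a b 0 + p a' b' 0 ∧
      q (a + a') (b + b') 0 = q a b 0 + q a' b' 0 := by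
    intro a b a' b'
    have h1 : (n * U f a b 0 * n⁻¹) * (n * U f a' b' 0 * n⁻¹) =
        (n * U f (a + a') (b + b') 0 * n⁻¹) * (n * U f 0 0 (a * b') * n⁻¹) := by
      calc (n * U f a b 0 * n⁻¹) * (n * U f a' b' 0 * n⁻¹)
          = n * (U f a b 0 * U f a' b' 0) * n⁻¹ := by group
        _ = n * (U f (a + a') (b + b') 0 * U f 0 0 (a * b')) * n⁻¹ := by
            rw [U_mul, el_mul_z, add_zero]
        _ = _ := by group
    rw [hpqr, hpqr, hpqr, hk, U_mul, el_mul_z] at h1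
    have h2 := U_inj hf h1
    exact ⟨h2.1.symm, h2.2.1.symm⟩
  have hsqr : ∀ a b, a * b = 0 → p a b 0 * q a b 0 = 0 := by
    intro a b hab
    have h1 : (n * U f a b 0 * n⁻¹) * (n * U f a b 0 * n⁻¹) = 1 := by
      calc (n * U f a b 0 * n⁻¹) * (n * U f a b 0 * n⁻¹)
          = n * (U f a b 0 * U f a b 0) * n⁻¹ := by group
        _ = 1 := by
          rw [U_mul, hab, CharTwo.add_self_eq_zero, CharTwo.add_self_eq_zero, CharTwo.add_self_eq_zero, add_zero, U_one]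
          group
    rw [hpqr, U_mul, ← U_one f] at h1
    have h2 := (U_inj hf h1).2.2
    rw [CharTwo.add_self_eq_zero, zero_add] at h2
    exact h2
  have hcomm : ∀ a b, k (a * b) = p a 0 0 * q 0 b 0 + p 0 b 0 * q a 0 0 := by
    intro a b
    have h1 : (n * U f a 0 0 * n⁻¹) * (n * U f 0 b 0 * n⁻¹) =
        (n * U f 0 0 (a * b) * n⁻¹) * ((n * U f 0 b 0 * n⁻¹) * (n * U f a 0 0 * n⁻¹)) := by
      have h2 : U f a 0 0 * U f 0 b 0 = U f 0 0 (a * b) * (U f 0 b 0 * U f a 0 0) := by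
        rw [U_mul, U_mul, z_mul_el]
        congr 1 <;> ring
      calc (n * U f a 0 0 * n⁻¹) * (n * U f 0 b 0 * n⁻¹)
          = n * (U f a 0 0 * U f 0 b 0) * n⁻¹ := by group
        _ = _ := by rw [h2]; group
    rw [hpqr, hpqr, hk, U_mul, U_mul, z_mul_el] at h1
    have h3 := (U_inj hf h1).2.2
    linear_combination -h3 + (- p 0 b 0 * q a 0 0) * two
  have hf1 := Cfsg.Agent.StdRank2.L3Env.zero_or_zero (f := fun a => p a 0 0) (g := fun a => q a 0 0)
    (fun a b => by have := (hadd a 0 b 0).1; rwa [add_zero] at this)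
    (fun a b => by have := (hadd a 0 b 0).2; rwa [add_zero] at this)
    (fun a => hsqr a 0 (mul_zero a))
  have hf2 := Cfsg.Agent.StdRank2.L3Env.zero_or_zero (f := fun a => p 0 a 0) (g := fun a => q 0 a 0)
    (fun a b => by have := (hadd 0 a 0 b).1; rwa [add_zero] at this)
    (fun a b => by have := (hadd 0 a 0 b).2; rwa [add_zero] at this)
    (fun a => hsqr 0 a (zero_mul a))
  have hdec : ∀ a b c, ∃ c', n * U f a b c * n⁻¹ = U f (p a 0 0 + p 0 b 0) (q a 0 0 + q 0 b 0) c' := by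
    intro a b c
    have h4 : n * U f a b c * n⁻¹ = (n * U f 0 b 0 * n⁻¹) * (n * U f a 0 0 * n⁻¹) *
        (n * U f 0 0 c * n⁻¹) := by rw [el_eq]; group
    rw [h4, hpqr, hpqr, hk, U_mul, el_mul_z, add_comm (p 0 b 0), add_comm (q 0 b 0)]
    exact ⟨_, rfl⟩
  have hkk : k (1 * 1) ≠ 0 := by rwa [one_mul]
  rcases hf1 with hf1 | hf1 <;> rcases hf2 with hf2 | hf2
  · exfalso
    apply hkk
    rw [hcomm]
    rw [hf1, hf2, zero_mul, zero_mul, add_zero]
  · refine ⟨fun a => q a 0 0, fun b => p 0 b 0, k, ?_, hk1, hkadd, hkinj, hk, Or.inr ?_⟩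
    · intro a b
      rw [hcomm, hf1, zero_mul, zero_add, mul_comm]
    · intro a b c
      obtain ⟨c', hc'⟩ := hdec a b c
      rw [hf1, hf2, add_zero, zero_add] at hc'
      exact ⟨c', hc'⟩
  · refine ⟨fun a => p a 0 0, fun b => q 0 b 0, k, ?_, hk1, hkadd, hkinj, hk, Or.inl ?_⟩
    · intro a b
      rw [hcomm, hf2, zero_mul, add_zero]
    · intro a b c
      obtain ⟨c', hc'⟩ := hdec a b c
      rw [hf1, hf2, add_zero, zero_add] at hc'
      exact ⟨c', hc'⟩
  · exfalso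
    apply hkk
    rw [hcomm]
    rw [hf1, hf2, mul_zero, mul_zero, add_zero]

end inj

/-! ### The torus `T0` -/

variable (f) in
/-- The torus of `⟨X_ρ, X_{-ρ}⟩`. -/
def T0 : Subgroup G where
  carrier := {t | ∃ x : Fˣ, t = Tm f x 1}
  one_mem' := ⟨1, (Tm_one f).symm⟩
  mul_mem' := by
    rintro _ _ ⟨x, rfl⟩ ⟨x', rfl⟩
    exact ⟨x * x', by rw [Tm_mul, one_mul]⟩
  inv_mem' := by
    rintro _ ⟨x, rfl⟩
    exact ⟨x⁻¹, by rw [Tm_inv, inv_one]⟩

theorem mem_T0 {t : G} : t ∈ T0 f ↔ ∃ x : Fˣ, t = Tm f x 1 := Iff.rfl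

theorem T0_le : T0 f ≤ f.range := by
  rintro _ ⟨x, rfl⟩
  exact Tf_le f (Tm_mem f x 1)

theorem T0_act (x : Fˣ) (a b c : F) : Tm f x 1 * U f a b c * (Tm f x 1)⁻¹ = U f (x * a) (x * b) (x * x * c) := by
  rw [Tm_conj]
  congr 1
  · rw [inv_one, mul_one]
  · rw [one_pow, mul_one]
  · rw [mul_one, pow_two, Units.val_mul]

theorem T0_conj {t u : G} (ht : t ∈ T0 f) (hu : u ∈ Sf f) : t * u * t⁻¹ ∈ Sf f := by
  obtain ⟨x, rfl⟩ := ht
  obtain ⟨a, b, c, rfl⟩ := hu
  rw [T0_act]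
  exact U_mem f _ _ _

theorem Tm_comm (x y x' y' : Fˣ) : Tm f x y * Tm f x' y' = Tm f x' y' * Tm f x y := by
  rw [Tm_mul, Tm_mul, mul_comm x, mul_comm y]

theorem Tm_pow (x y : Fˣ) (n : ℕ) : (Tm f x y) ^ n = Tm f (x ^ n) (y ^ n) := by
  induction n with
  | zero => rw [pow_zero, pow_zero, pow_zero, Tm_one]
  | succ n ih => rw [pow_succ, ih, Tm_mul, ← pow_succ, ← pow_succ]

/-- the elements of `H` -/
theorem H_act (x : Fˣ) (a b c : F) :
    Tm f x (x⁻¹ ^ 2) * U f a b c * (Tm f x (x⁻¹ ^ 2))⁻¹ = U f ((x : F) ^ 3 * a) (((x : F) ^ 3)⁻¹ * b) c := by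
  rw [Tm_conj]
  have h1 : x * (x⁻¹ ^ 2)⁻¹ = x ^ 3 := by group
  have h2 : x * (x⁻¹ ^ 2) ^ 2 = (x ^ 3)⁻¹ := by group
  have h3 : x ^ 2 * x⁻¹ ^ 2 = 1 := by group
  rw [h1, h2, h3, Units.val_one, one_mul, Units.val_inv_eq_inv_val, Units.val_pow_eq_pow_val]

variable [CharP F 2] (hf : Function.Injective f)
include hf

/-- **The action of `n y n⁻¹`.** -/
theorem exists_act {n y : G} (hg : ∀ u ∈ Sf f, n * u * n⁻¹ ∈ Sf f) (hg' : ∀ u ∈ Sf f, n⁻¹ * u * n ∈ Sf f)
    (hy : y ∈ T0 f) : ∃ h ∈ T0 f, (∀ p ∈ Sf f, (n * y * n⁻¹) * p * (n * y * n⁻¹)⁻¹ * (h * p * h⁻¹)⁻¹ ∈ Zf f) ∧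
      ∀ z ∈ Zf f, (n * y * n⁻¹) * z * (n * y * n⁻¹)⁻¹ = h * z * h⁻¹ := by
  obtain ⟨φ, g, k, H, hk1, hkadd, hkinj, hkz, hact⟩ := exists_maps hf hg hg'
  obtain ⟨μ, rfl⟩ := hy
  have hk0 : k 0 = 0 := by
    have h1 := hkz 0
    rw [U_one, mul_one, mul_inv_cancel, ← U_one f] at h1
    exact ((U_inj hf h1).2.2).symm
  set l0 := k μ / k 1 with hl
  have hl0 : l0 ≠ 0 := by
    rw [hl]
    refine div_ne_zero (fun h0 => μ.ne_zero ?_) hk1
    exact hkinj _ 0 (by rw [h0, hk0])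
  obtain ⟨l, hll⟩ : ∃ l : Fˣ, (l : F) = l0 := ⟨Units.mk0 l0 hl0, rfl⟩
  have sem := fun x a => Cfsg.Agent.StdRank2.L3Env.semilinear H hk1 x a
  have hz : ∀ c, (n * Tm f μ 1 * n⁻¹) * U f 0 0 c * (n * Tm f μ 1 * n⁻¹)⁻¹ = U f 0 0 (l * l * c) := by
    intro c
    obtain ⟨c', hc'⟩ : ∃ c', n⁻¹ * U f 0 0 c * n = U f 0 0 c' := by
      have := conj_Zf hf (g := n⁻¹) (fun u hu => by rw [inv_inv]; exact hg' u hu)
        (fun u hu => by rw [inv_inv]; exact hg u hu) _ (Z_mem f c)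
      rw [inv_inv] at this
      exact this
    have h1 : k c' = c := by
      have e : U f 0 0 (k c') = U f 0 0 c := by
        rw [← hkz, ← hc']; group
      exact (U_inj hf e).2.2
    calc (n * Tm f μ 1 * n⁻¹) * U f 0 0 c * (n * Tm f μ 1 * n⁻¹)⁻¹ =
          n * (Tm f μ 1 * (n⁻¹ * U f 0 0 c * n) * (Tm f μ 1)⁻¹) * n⁻¹ := by group
      _ = U f 0 0 (k (μ * μ * c')) := by rw [hc', T0_act, mul_zero, hkz]
      _ = _ := by rw [mul_assoc (μ : F), (sem μ _).2.2, (sem μ _).2.2, h1, ← hl, ← hll]; congr 1; ring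
  refine ⟨Tm f l 1, ⟨l, rfl⟩, ?_, ?_⟩
  · rintro _ ⟨a, b, c, rfl⟩
    obtain ⟨a', b', c', h1⟩ := hg' _ (U_mem f a b c)
    have e1 : (n * Tm f μ 1 * n⁻¹) * U f a b c * (n * Tm f μ 1 * n⁻¹)⁻¹ =
        n * U f (μ * a') (μ * b') (μ * μ * c') * n⁻¹ := by
      rw [← T0_act, ← h1]; group
    have e2 : U f a b c = n * U f a' b' c' * n⁻¹ := by rw [← h1]; group
    have e3 : ∃ c2, (n * Tm f μ 1 * n⁻¹) * U f a b c * (n * Tm f μ 1 * n⁻¹)⁻¹ = U f (l * a) (l * b) c2 := by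
      rcases hact with hact | hact
      · obtain ⟨c1, h2⟩ := hact a' b' c'
        obtain ⟨c2, h3⟩ := hact (μ * a') (μ * b') (μ * μ * c')
        rw [← e2] at h2
        obtain ⟨ha, hb, -⟩ := U_inj hf h2
        refine ⟨c2, ?_⟩
        rw [e1, h3, (sem μ _).1, (sem μ _).2.1, ← hl, ha, hb, hll]
      · obtain ⟨c1, h2⟩ := hact a' b' c'
        obtain ⟨c2, h3⟩ := hact (μ * a') (μ * b') (μ * μ * c')
        rw [← e2] at h2
        obtain ⟨ha, hb, -⟩ := U_inj hf h2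
        refine ⟨c2, ?_⟩
        rw [e1, h3, (sem μ _).1, (sem μ _).2.1, ← hl, ha, hb, hll]
    obtain ⟨c2, e3⟩ := e3
    rw [e3, T0_act, mul_U_inv]
    exact Z_mem f _
  · rintro z ⟨c, rfl⟩
    rw [hz, T0_act, mul_zero]

/-! ### The structures -/

omit [CharP F 2] hf in
theorem cj_Tm_Sf (x y : Fˣ) : cj (Tm f x y) (Sf f) = Sf f := by
  have key : ∀ x y : Fˣ, cj (Tm f x y) (Sf f) ≤ Sf f := by
    intro x y u hu
    rw [mem_cj] at hu
    obtain ⟨a, b, c, h⟩ := hu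
    have e : u = Tm f x y * U f a b c * (Tm f x y)⁻¹ := by rw [← h]; group
    rw [e, Tm_conj]
    exact U_mem f _ _ _
  apply le_antisymm (key x y)
  have h1 := cj_mono (Tm f x y) (key x⁻¹ y⁻¹)
  rwa [← Tm_inv, cj_cj_inv] at h1

theorem cj_Sf_of_norm {k : G} (hk : k ∈ f.range) (hX : cj k (Zf f) = Zf f) :
    ∃ (x y : Fˣ) (u : G), u ∈ Sf f ∧ k = Tm f x y * u := by
  have h1 : k * U f 0 0 1 * k⁻¹ ∈ Zf f := by
    rw [← hX]
    exact conj_mem_cj.2 (Z_mem f 1)
  obtain ⟨c', h2⟩ := h1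
  obtain ⟨x, y, a, b, c, h⟩ := upper_of_norm hf hk one_ne_zero h2
  exact ⟨x, y, _, U_mem f a b c, h⟩

theorem norX : NorX f.range (Sf f) (Zf f) (T0 f) where
  nP := by
    intro k hk hX
    obtain ⟨x, y, u, hu, rfl⟩ := cj_Sf_of_norm hf hk hX
    rw [cj_mul, cj_eq_of_mem hu, cj_Tm_Sf]
  nh := by
    intro k hk hX h hh
    obtain ⟨x, y, u, hu, rfl⟩ := cj_Sf_of_norm hf hk hX
    have h1 : h⁻¹ * u * h * u⁻¹ ∈ Sf f := by
      refine mul_mem ?_ (inv_mem hu)
      have := T0_conj (inv_mem hh) hu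
      rwa [inv_inv] at this
    have h2 : Tm f x y * (h⁻¹ * u * h * u⁻¹) * (Tm f x y)⁻¹ ∈ Sf f := by
      rw [← cj_Tm_Sf (f := f) x y]
      exact conj_mem_cj.2 h1
    refine ⟨_, h2, ?_⟩
    obtain ⟨l, rfl⟩ := hh
    have h3 : Tm f x y * Tm f l 1 = Tm f l 1 * Tm f x y := Tm_comm x y l 1
    calc Tm f x y * u * Tm f l 1 * (Tm f x y * u)⁻¹
        = (Tm f x y * Tm f l 1) * ((Tm f l 1)⁻¹ * u * Tm f l 1 * u⁻¹) * (Tm f x y)⁻¹ := by group
      _ = _ := by rw [h3]; group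

variable [Finite F] {R : Subgroup G}

theorem nloc (h8 : 8 ≤ Nat.card F) (A : Amb f.range R)
    (two : ∀ c ∈ C1 f.range R, IsPGroup 2 (zpowers c) → c ∈ R) (hR : ∃ t ∈ R, t ≠ 1) [Finite G] :
    NLoc f.range R (Sf f) (Zf f) (T0 f) := by
  obtain ⟨x0, hx0⟩ := exists_cube_ne (F := F) h8
  have hx1 : (x0 : F) ^ 3 ≠ 1 := fun e => hx0 (Units.ext (by rw [Units.val_pow_eq_pow_val, e, Units.val_one]))
  have hne : ∀ {c : F}, U f 0 0 c ≠ 1 → c ≠ 0 := fun h e => h (by rw [e, U_one])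
  exact
    { amb := A
      SK := Sf_le f
      XS := Zf_le f
      XX := by
        rintro _ ⟨c, rfl⟩
        rw [z_mul, CharTwo.add_self_eq_zero, U_one]
      XZ := fun z hz u hu => z_central hz hu
      SS := by
        rintro _ ⟨a, b, c, rfl⟩ _ ⟨a', b', c', rfl⟩
        rw [comm_U]
        exact Z_mem f _
      TK := T0_le
      TX := by
        rintro _ ⟨x, rfl⟩ _ ⟨c, rfl⟩
        rw [T0_act, mul_zero]
        exact Z_mem f _
      TS := fun t ht u hu => T0_conj ht hu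
      Tab := by
        rintro _ ⟨x, rfl⟩ _ ⟨x', rfl⟩
        exact Tm_comm _ _ _ _
      Ttr := by
        rintro _ ⟨c, rfl⟩ hc _ ⟨d, rfl⟩ hd
        obtain ⟨l, hl⟩ := Cfsg.Agent.StdRank2.L3Env.exists_sq (d / c)
        have hl0 : l ≠ 0 := by
          rintro rfl
          rw [zero_mul] at hl
          exact div_ne_zero (hne hd) (hne hc) hl.symm
        refine ⟨_, ⟨Units.mk0 l hl0, rfl⟩, ?_⟩
        rw [T0_act, mul_zero, Units.val_mk0, hl, div_mul_cancel₀ _ (hne hc)]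
      big := by
        have hinj : ∀ {a b : F}, U f 0 0 a = U f 0 0 b → a = b := fun h => (U_inj hf h).2.2
        refine ⟨U f 0 0 1, Z_mem f 1, U f 0 0 x0, Z_mem f _, ?_, ?_, ?_⟩
        · intro h
          rw [← U_one f] at h
          exact one_ne_zero (hinj h)
        · intro h
          rw [← U_one f] at h
          exact x0.ne_zero (hinj h)
        · intro h
          apply hx1
          rw [← hinj h, one_pow]
      two := two
      k3 := by
        intro c hc hcS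
        obtain ⟨t, ht, ht1⟩ := hR
        have hcn : c ∈ normalizer (f.range : Set G) := by
          rw [mem_normalizer_iff]
          have h1 := A.nor t ht ht1 c (hc t ht)
          have hc' : c⁻¹ * t = t * c⁻¹ := by
            have := hc t ht
            calc c⁻¹ * t = c⁻¹ * (t * c) * c⁻¹ := by group
              _ = c⁻¹ * (c * t) * c⁻¹ := by rw [this]
              _ = t * c⁻¹ := by group
          have h2 := A.nor t ht ht1 c⁻¹ hc'
          intro k
          refine ⟨fun hk => h1 k hk, fun hk => ?_⟩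
          have := h2 _ hk
          rwa [show c⁻¹ * (c * k * c⁻¹) * c⁻¹⁻¹ = k by group] at this
        obtain ⟨d, hd⟩ := K1 hf hcn fun a b c' => hcS _ (U_mem f a b c')
        refine ⟨_, Z_mem f d, mem_C1.2 ⟨fun k hk => (mem_centralizer_iff.1 hd k hk).symm, fun a ha => ?_⟩⟩
        have h3 := A.comm a ha _ (Sf_le f (Zf_le f (inv_mem (Z_mem f d))))
        rw [mul_assoc, hc a ha, ← mul_assoc, ← h3, mul_assoc]
      k4 := by
        intro g gS gX h1 hh1
        exact exists_act hf gS (Exist.conj_inv_mem gS) hh1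
      h0 := by
        refine ⟨Tm f x0 (x0⁻¹ ^ 2), Tf_le f (Tm_mem f _ _), ?_, ?_, ⟨Nat.card F - 1, ?_, ?_⟩, ?_⟩
        · rintro _ ⟨a, b, c, rfl⟩
          rw [H_act]
          exact U_mem f _ _ _
        · rintro _ ⟨c, rfl⟩
          have := H_act (f := f) x0 0 0 c
          rw [mul_zero, mul_zero] at this
          exact mul_inv_eq_iff_eq_mul.1 this
        · have := Fintype.ofFinite F
          obtain ⟨n, hp, hn⟩ := FiniteField.card F 2
          rw [Nat.card_eq_fintype_card, hn]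
          have : 2 ∣ 2 ^ (n : ℕ) := dvd_pow_self 2 n.ne_zero
          obtain ⟨k, hk⟩ := this
          have hpos : 0 < 2 ^ (n : ℕ) := by positivity
          exact ⟨k - 1, by omega⟩
        · have := Fintype.ofFinite F
          classical
          have h1 : ∀ y : Fˣ, y ^ (Nat.card F - 1) = 1 := by
            intro y
            apply Units.ext
            rw [Units.val_pow_eq_pow_val, Nat.card_eq_fintype_card, Units.val_one]
            exact FiniteField.pow_card_sub_one_eq_one _ y.ne_zero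
          rw [Tm_pow, h1, h1, Tm_one]
        · rintro _ ⟨a, b, c, rfl⟩ h
          rw [H_act, U_inv, U_mul, U_mem_Z hf] at h
          obtain ⟨h1, h2⟩ := h
          rw [U_mem_Z hf]
          have h3 : (x0 : F) ^ 3 ≠ 0 := pow_ne_zero _ x0.ne_zero
          constructor
          · have h4 : ((x0 : F) ^ 3 - 1) * a = 0 := by linear_combination h1
            exact (mul_eq_zero.1 h4).resolve_left (sub_ne_zero.2 hx1)
          · have h4 : (((x0 : F) ^ 3)⁻¹ - 1) * b = 0 := by linear_combination h2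
            refine (mul_eq_zero.1 h4).resolve_left (sub_ne_zero.2 fun e => hx1 ?_)
            rw [← inv_inv ((x0 : F) ^ 3), e, inv_one] }

/-- **Existence of the doubled root group.** -/
theorem exists_base [Finite G] (h8 : 8 ≤ Nat.card F) (A : Amb f.range R)
    (two : ∀ c ∈ C1 f.range R, IsPGroup 2 (zpowers c) → c ∈ R) {g : G} (gS : ∀ s ∈ Sf f, g * s * g⁻¹ ∈ Sf f)
    (gR : ∀ a ∈ R, ∃ b ∈ R, ∃ z ∈ Zf f, g * a * g⁻¹ = b * z) (hg : ∃ a ∈ R, g * a * g⁻¹ ∉ R) :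
    ∃ W : Subgroup G, Base f.range R (Sf f) (Zf f) W := by
  have hR : ∃ t ∈ R, t ≠ 1 := by
    obtain ⟨a, ha, h⟩ := hg
    refine ⟨a, ha, ?_⟩
    rintro rfl
    exact h (by rw [mul_one, mul_inv_cancel]; exact one_mem _)
  have gS' := Exist.conj_inv_mem gS
  have gZ := conj_Zf hf gS gS'
  have key : ∀ {X : Subgroup G}, (∀ s ∈ X, g * s * g⁻¹ ∈ X) → cj g X = X := by
    intro X h
    have h' := Exist.conj_inv_mem h
    ext x
    rw [mem_cj]
    constructor
    · intro hx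
      have := h _ hx
      rwa [show g * (g⁻¹ * x * g) * g⁻¹ = x by group] at this
    · exact fun hx => h' x hx
  exact (nloc hf h8 A two hR).exists_base (norX hf) (key gS) (key gZ) gR hg

end Cfsg.Agent.OddHalf.D4.L3.Double
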