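import Mathlib
import Cfsg.Agent.ClassicalGeometry.AutPSL.Main

/-!
# ODD, D4, row `L_3(2^a)`: matrices

`um a b c` : the unitriangular matrix with entries `a = (0,1)`, `b = (1,2)`, `c = (0,2)`; `hm x y = diag(x, y, (xy)⁻¹)`;
`nr`, `ns` : the reflections exchanging the last two, the first two coordinates.
-/

set_option autoImplicit false
set_option linter.unusedSectionVars false

namespace Cfsg.Agent.OddHalf.D4.L3

open Cfsg.Agent.ClassicalGeometry.AutPSL.Root

variable {F : Type*} [Field F]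

/-- `SL_3` -/
abbrev SL3 (F : Type*) [Field F] := Matrix.SpecialLinearGroup (Fin 3) F
/-- `PSL_3` -/
abbrev Y3 (F : Type*) [Field F] := Matrix.ProjectiveSpecialLinearGroup (Fin 3) F

/-- unitriangular -/
def um (a b c : F) : SL3 F := ⟨!![1, a, c; 0, 1, b; 0, 0, 1], by simp [Matrix.det_fin_three]⟩
/-- torus -/
def hm (x y : Fˣ) : SL3 F := ⟨!![(x : F), 0, 0; 0, (y : F), 0; 0, 0, ((x * y)⁻¹ : Fˣ)], by
  rw [Matrix.det_fin_three]
  simp
  field_simp⟩
/-- the reflection exchanging the last two coordinates -/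
def nr : SL3 F := ⟨!![1, 0, 0; 0, 0, 1; 0, -1, 0], by simp [Matrix.det_fin_three]⟩
/-- the reflection exchanging the first two coordinates -/
def ns : SL3 F := ⟨!![0, 1, 0; -1, 0, 0; 0, 0, 1], by simp [Matrix.det_fin_three]⟩
/-- lower triangular, last two coordinates -/
def lr (t : F) : SL3 F := ⟨!![1, 0, 0; 0, 1, 0; 0, t, 1], by simp [Matrix.det_fin_three]⟩
/-- lower triangular, first two coordinates -/
def ls (t : F) : SL3 F := ⟨!![1, 0, 0; t, 1, 0; 0, 0, 1], by simp [Matrix.det_fin_three]⟩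

theorem sl3_ext {A B : SL3 F} (h : ∀ i j, A.1 i j = B.1 i j) : A = B := Subtype.ext (Matrix.ext h)

theorem um_mul (a b c a' b' c' : F) : um a b c * um a' b' c' = um (a + a') (b + b') (c + c' + a * b') := by
  apply sl3_ext
  intro i j
  rw [Matrix.SpecialLinearGroup.coe_mul, Matrix.mul_apply, Fin.sum_univ_three]
  fin_cases i <;> fin_cases j <;> simp [um] <;> ring

theorem um_zero : um (0 : F) 0 0 = 1 := by
  apply sl3_ext
  intro i j
  fin_cases i <;> fin_cases j <;> simp [um]

theorem um_inv (a b c : F) : (um a b c)⁻¹ = um (-a) (-b) (a * b - c) := by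
  rw [inv_eq_iff_mul_eq_one, um_mul, ← um_zero]
  congr 1 <;> ring

theorem hm_mul (x y x' y' : Fˣ) : hm x y * hm x' y' = hm (x * x') (y * y') := by
  apply sl3_ext
  intro i j
  rw [Matrix.SpecialLinearGroup.coe_mul, Matrix.mul_apply, Fin.sum_univ_three]
  fin_cases i <;> fin_cases j <;> simp [hm] <;> ring

theorem hm_one : hm (1 : Fˣ) 1 = 1 := by
  apply sl3_ext
  intro i j
  fin_cases i <;> fin_cases j <;> simp [hm]

theorem hm_inv (x y : Fˣ) : (hm x y)⁻¹ = hm x⁻¹ y⁻¹ := by
  rw [inv_eq_iff_mul_eq_one, hm_mul, mul_inv_cancel, mul_inv_cancel, hm_one]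

theorem hm_um (x y : Fˣ) (a b c : F) :
    hm x y * um a b c = um ((x * y⁻¹ : Fˣ) * a) ((x * y ^ 2 : Fˣ) * b) ((x ^ 2 * y : Fˣ) * c) * hm x y := by
  apply sl3_ext
  intro i j
  rw [Matrix.SpecialLinearGroup.coe_mul, Matrix.mul_apply, Fin.sum_univ_three,
    Matrix.SpecialLinearGroup.coe_mul, Matrix.mul_apply, Fin.sum_univ_three]
  fin_cases i <;> fin_cases j <;> simp [hm, um] <;> field_simp

theorem nr_um_a (a : F) : nr * um a 0 0 = um 0 0 (-a) * nr := by
  apply sl3_ext
  intro i j
  rw [Matrix.SpecialLinearGroup.coe_mul, Matrix.mul_apply, Fin.sum_univ_three,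
    Matrix.SpecialLinearGroup.coe_mul, Matrix.mul_apply, Fin.sum_univ_three]
  fin_cases i <;> fin_cases j <;> simp [nr, um]

theorem nr_um_c (c : F) : nr * um 0 0 c = um c 0 0 * nr := by
  apply sl3_ext
  intro i j
  rw [Matrix.SpecialLinearGroup.coe_mul, Matrix.mul_apply, Fin.sum_univ_three,
    Matrix.SpecialLinearGroup.coe_mul, Matrix.mul_apply, Fin.sum_univ_three]
  fin_cases i <;> fin_cases j <;> simp [nr, um]

theorem ns_um_b (b : F) : ns * um 0 b 0 = um 0 0 b * ns := by
  apply sl3_ext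
  intro i j
  rw [Matrix.SpecialLinearGroup.coe_mul, Matrix.mul_apply, Fin.sum_univ_three,
    Matrix.SpecialLinearGroup.coe_mul, Matrix.mul_apply, Fin.sum_univ_three]
  fin_cases i <;> fin_cases j <;> simp [ns, um]

theorem ns_um_c (c : F) : ns * um 0 0 c = um 0 (-c) 0 * ns := by
  apply sl3_ext
  intro i j
  rw [Matrix.SpecialLinearGroup.coe_mul, Matrix.mul_apply, Fin.sum_univ_three,
    Matrix.SpecialLinearGroup.coe_mul, Matrix.mul_apply, Fin.sum_univ_three]
  fin_cases i <;> fin_cases j <;> simp [ns, um]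

/-- the elements of the torus centralising `(1,2)` commute with `nr` -/
theorem hm_nr (x y : Fˣ) (h : x * y ^ 2 = 1) : hm x y * nr = nr * hm x y := by
  have h1 : (x : F) * (y : F) ^ 2 = 1 := by
    have := congrArg (fun z : Fˣ => (z : F)) h
    simpa using this
  have h2 : (y : F)⁻¹ * (x : F)⁻¹ = y := by
    have hx := x.ne_zero
    have hy := y.ne_zero
    field_simp
    linear_combination -h1
  apply sl3_ext
  intro i j
  rw [Matrix.SpecialLinearGroup.coe_mul, Matrix.mul_apply, Fin.sum_univ_three,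
    Matrix.SpecialLinearGroup.coe_mul, Matrix.mul_apply, Fin.sum_univ_three]
  fin_cases i <;> fin_cases j <;> simp [hm, nr, h2]

theorem hm_ns (x : Fˣ) : hm x x * ns = ns * hm x x := by
  apply sl3_ext
  intro i j
  rw [Matrix.SpecialLinearGroup.coe_mul, Matrix.mul_apply, Fin.sum_univ_three,
    Matrix.SpecialLinearGroup.coe_mul, Matrix.mul_apply, Fin.sum_univ_three]
  fin_cases i <;> fin_cases j <;> simp [hm, ns]

/-- conjugation of `(0,2)` by a lower triangular element -/
theorem lr_um (t a c : F) : lr t * um a 0 c = um (a - c * t) 0 c * lr t := by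
  apply sl3_ext
  intro i j
  rw [Matrix.SpecialLinearGroup.coe_mul, Matrix.mul_apply, Fin.sum_univ_three,
    Matrix.SpecialLinearGroup.coe_mul, Matrix.mul_apply, Fin.sum_univ_three]
  fin_cases i <;> fin_cases j <;> simp [lr, um]

theorem ls_um (t b c : F) : ls t * um 0 b c = um 0 (b + t * c) c * ls t := by
  apply sl3_ext
  intro i j
  rw [Matrix.SpecialLinearGroup.coe_mul, Matrix.mul_apply, Fin.sum_univ_three,
    Matrix.SpecialLinearGroup.coe_mul, Matrix.mul_apply, Fin.sum_univ_three]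
  fin_cases i <;> fin_cases j <;> simp [ls, um] <;> ring

/-- an upper triangular matrix -/
theorem upper_decomp (g : SL3 F) (h1 : g.1 1 0 = 0) (h2 : g.1 2 0 = 0) (h3 : g.1 2 1 = 0) :
    ∃ (x y : Fˣ) (a b c : F), g = hm x y * um a b c := by
  have hd : g.1.det = 1 := g.2
  rw [Matrix.det_fin_three, h1, h2, h3] at hd
  have hd' : g.1 0 0 * g.1 1 1 * g.1 2 2 = 1 := by
    linear_combination hd
  have hx : g.1 0 0 ≠ 0 := by
    intro h0; rw [h0, zero_mul, zero_mul] at hd'; exact zero_ne_one hd'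
  have hy : g.1 1 1 ≠ 0 := by
    intro h0; rw [h0, mul_zero, zero_mul] at hd'; exact zero_ne_one hd'
  refine ⟨Units.mk0 _ hx, Units.mk0 _ hy, (g.1 0 0)⁻¹ * g.1 0 1, (g.1 1 1)⁻¹ * g.1 1 2, (g.1 0 0)⁻¹ * g.1 0 2, ?_⟩
  apply sl3_ext
  intro i j
  rw [Matrix.SpecialLinearGroup.coe_mul, Matrix.mul_apply, Fin.sum_univ_three]
  fin_cases i <;> fin_cases j <;> simp [hm, um, h1, h2, h3, hx, hy]
  field_simp
  linear_combination hd'

theorem um_eq01 (a : F) : um a 0 0 = Matrix.SpecialLinearGroup.transvection (show (0 : Fin 3) ≠ 1 by decide) a := by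
  apply sl3_ext
  intro i j
  show _ = (1 + Matrix.single 0 1 a : Matrix (Fin 3) (Fin 3) F) i j
  fin_cases i <;> fin_cases j <;> simp [um, Matrix.single_apply]

theorem um_eq12 (a : F) : um 0 a 0 = Matrix.SpecialLinearGroup.transvection (show (1 : Fin 3) ≠ 2 by decide) a := by
  apply sl3_ext
  intro i j
  show _ = (1 + Matrix.single 1 2 a : Matrix (Fin 3) (Fin 3) F) i j
  fin_cases i <;> fin_cases j <;> simp [um, Matrix.single_apply]

theorem um_eq02 (a : F) : um 0 0 a = Matrix.SpecialLinearGroup.transvection (show (0 : Fin 3) ≠ 2 by decide) a := by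
  apply sl3_ext
  intro i j
  show _ = (1 + Matrix.single 0 2 a : Matrix (Fin 3) (Fin 3) F) i j
  fin_cases i <;> fin_cases j <;> simp [um, Matrix.single_apply]

theorem lr_eq (a : F) : lr a = Matrix.SpecialLinearGroup.transvection (show (2 : Fin 3) ≠ 1 by decide) a := by
  apply sl3_ext
  intro i j
  show _ = (1 + Matrix.single 2 1 a : Matrix (Fin 3) (Fin 3) F) i j
  fin_cases i <;> fin_cases j <;> simp [lr, Matrix.single_apply]

theorem ls_eq (a : F) : ls a = Matrix.SpecialLinearGroup.transvection (show (1 : Fin 3) ≠ 0 by decide) a := by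
  apply sl3_ext
  intro i j
  show _ = (1 + Matrix.single 1 0 a : Matrix (Fin 3) (Fin 3) F) i j
  fin_cases i <;> fin_cases j <;> simp [ls, Matrix.single_apply]

/-- the last root group is a commutator -/
theorem l20 (t : F) : Matrix.SpecialLinearGroup.transvection (show (2 : Fin 3) ≠ 0 by decide) t =
    lr t * ls 1 * lr (-t) * ls (-1) := by
  apply sl3_ext
  intro i j
  show (1 + Matrix.single 2 0 t : Matrix (Fin 3) (Fin 3) F) i j = _
  simp only [Matrix.SpecialLinearGroup.coe_mul, Matrix.mul_apply, Fin.sum_univ_three]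
  fin_cases i <;> fin_cases j <;> simp [lr, ls, Matrix.single_apply]

/-- equality in `PSL_3` of unitriangular matrices -/
theorem pr_um_inj {a b c a' b' c' : F} (h : pr (um a b c) = pr (um a' b' c')) : a = a' ∧ b = b' ∧ c = c' := by
  obtain ⟨r, hr⟩ := exists_smul_of_pr_eq h
  have h0 := congrFun (congrFun hr 0) 0
  have h1 := congrFun (congrFun hr 0) 1
  have h2 := congrFun (congrFun hr 1) 2
  have h3 := congrFun (congrFun hr 0) 2
  simp [um] at h0 h1 h2 h3
  subst h0
  exact ⟨by rw [h1, one_mul], by rw [h2, one_mul], by rw [h3, one_mul]⟩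

end Cfsg.Agent.OddHalf.D4.L3
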