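import Mathlib
import Cfsg.Agent.Schreier.ClassPSL
import Cfsg.Agent.ClassicalGeometry.AutPSL.Main
import Cfsg.Agent.ClassicalGeometry.AutPSL.SylowU
import Cfsg.Agent.LieRecognition.FieldSemilinear
import Cfsg.Agent.OddHalf.D4.L3.Mat

/-!
# ODD, D4, row `L_3(2^a)`: automorphisms of `PSL_3(F)`

* `conj_of_smul` : `A = r g`, `det g = 1`: conjugation by `A` is inner;
* `inner_of_two` : a 2-element of `PGL_3` is in `PSL_3`;
* `comm_pgl` : commutators of automorphisms are in `PGL_3`;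
* `fix_row`, `fix_col` : automorphisms trivial on one of the two elementary abelian subgroups of order `q²` of a Sylow
  2-subgroup.
-/

set_option autoImplicit false
set_option linter.unusedSectionVars false

namespace Cfsg.Agent.OddHalf.D4.L3

open Matrix Cfsg.Agent.ClassicalGeometry.AutPSL.Root Cfsg.Agent.ClassicalGeometry.AutPSL.Auto
  Cfsg.Agent.ClassicalGeometry.AutPSL.Main Cfsg.Agent.Schreier.ClassPSL
open scoped commutatorElement

variable {F : Type*} [Field F]

/-- conjugation by a multiple of a matrix of determinant 1 is inner -/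
theorem conj_of_smul {A : GL (Fin 3) F} {g : SL3 F} {r : F} (h : (A : Matrix (Fin 3) (Fin 3) F) = r • g.1) :
    lift (cj A) = MulAut.conj (pr g) := by
  apply MulEquiv.ext
  intro x
  obtain ⟨x, rfl⟩ := pr_surjective x
  rw [lift_pr, MulAut.conj_apply, ← map_inv, ← map_mul, ← map_mul]
  congr 1
  apply Subtype.ext
  rw [coe_cj]
  have hr : r ≠ 0 := by
    rintro rfl
    rw [zero_smul] at h
    have h1 : (A : Matrix (Fin 3) (Fin 3) F) * ((A⁻¹ : GL (Fin 3) F) : Matrix (Fin 3) (Fin 3) F) = 1 := by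
      rw [← Units.val_mul, mul_inv_cancel, Units.val_one]
    rw [h, zero_mul] at h1
    have := congrFun (congrFun h1 0) 0
    simp at this
  have hg : g.1 * (g⁻¹ : SL3 F).1 = 1 := by
    have : (g * g⁻¹ : SL3 F).1 = 1 := by rw [mul_inv_cancel]; rfl
    exact this
  have hinv : ((A⁻¹ : GL (Fin 3) F) : Matrix (Fin 3) (Fin 3) F) = r⁻¹ • (g⁻¹ : SL3 F).1 := by
    have h1 : (A : Matrix (Fin 3) (Fin 3) F) * (r⁻¹ • (g⁻¹ : SL3 F).1) = 1 := by
      rw [h, Matrix.smul_mul, Matrix.mul_smul, hg, smul_smul, mul_inv_cancel₀ hr, one_smul]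
    have h2 : ((A⁻¹ : GL (Fin 3) F) : Matrix (Fin 3) (Fin 3) F) * (A : Matrix (Fin 3) (Fin 3) F) = 1 := by
      rw [← Units.val_mul, inv_mul_cancel, Units.val_one]
    calc ((A⁻¹ : GL (Fin 3) F) : Matrix (Fin 3) (Fin 3) F)
        = ((A⁻¹ : GL (Fin 3) F) : Matrix (Fin 3) (Fin 3) F) *
          ((A : Matrix (Fin 3) (Fin 3) F) * (r⁻¹ • (g⁻¹ : SL3 F).1)) := by rw [h1, mul_one]
      _ = _ := by rw [← mul_assoc, h2, one_mul]
  rw [hinv, h, Matrix.smul_mul, Matrix.smul_mul, Matrix.mul_smul, smul_smul, mul_inv_cancel₀ hr, one_smul]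
  rfl

/-- the cube of an element of `PGL_3` is in `PSL_3` -/
theorem cube_inner (A : GL (Fin 3) F) : ∃ y : Y3 F, lift (cj A) ^ 3 = MulAut.conj y := by
  have hd : (A : Matrix (Fin 3) (Fin 3) F).det ≠ 0 := by
    have := A.det.ne_zero
    rwa [Matrix.GeneralLinearGroup.val_det_apply] at this
  set d := (A : Matrix (Fin 3) (Fin 3) F).det with hdd
  let g : SL3 F := ⟨d⁻¹ • ((A ^ 3 : GL (Fin 3) F) : Matrix (Fin 3) (Fin 3) F), by
    rw [Matrix.det_smul, Units.val_pow_eq_pow_val, Matrix.det_pow, ← hdd, Fintype.card_fin, ← mul_pow,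
      inv_mul_cancel₀ hd, one_pow]⟩
  refine ⟨pr g, ?_⟩
  rw [← map_pow, ← map_pow]
  apply conj_of_smul (r := d)
  show ((A ^ 3 : GL (Fin 3) F) : Matrix (Fin 3) (Fin 3) F) = d • (d⁻¹ • _)
  rw [smul_smul, mul_inv_cancel₀ hd, one_smul]

/-- the inner automorphisms -/
def Inn (Y : Type*) [Group Y] : Subgroup (MulAut Y) := (MulAut.conj : Y →* MulAut Y).range

theorem mem_Inn {Y : Type*} [Group Y] {α : MulAut Y} : α ∈ Inn Y ↔ ∃ y, α = MulAut.conj y :=
  ⟨fun ⟨y, hy⟩ => ⟨y, hy.symm⟩, fun ⟨y, hy⟩ => ⟨y, hy.symm⟩⟩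

/-- a 2-element of `PGL_3` is in `PSL_3` -/
theorem inner_of_two {A : GL (Fin 3) F} {k : ℕ} (h : lift (cj A) ^ 2 ^ k = (1 : MulAut (Y3 F))) :
    lift (cj A) ∈ Inn (Y3 F) := by
  have h3 : lift (cj A) ^ 3 ∈ Inn (Y3 F) := mem_Inn.2 (cube_inner A)
  have hc : Nat.Coprime 3 (2 ^ k) := by
    apply Nat.Coprime.pow_right
    norm_num
  have h1 : (1 : ℤ) = 3 * Nat.gcdA 3 (2 ^ k) + (2 ^ k : ℕ) * Nat.gcdB 3 (2 ^ k) := by
    have := Nat.gcd_eq_gcd_ab 3 (2 ^ k)
    rw [Nat.Coprime.gcd_eq_one hc] at this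
    exact_mod_cast this
  have h2 : lift (cj A) = (lift (cj A) ^ 3) ^ Nat.gcdA 3 (2 ^ k) := by
    calc lift (cj A) = lift (cj A) ^ (1 : ℤ) := by rw [zpow_one]
      _ = lift (cj A) ^ ((3 : ℤ) * Nat.gcdA 3 (2 ^ k) + (2 ^ k : ℕ) * Nat.gcdB 3 (2 ^ k)) := by rw [← h1]
      _ = (lift (cj A) ^ 3) ^ Nat.gcdA 3 (2 ^ k) * (lift (cj A) ^ (2 ^ k : ℕ)) ^ Nat.gcdB 3 (2 ^ k) := by
          rw [_root_.zpow_add, _root_.zpow_mul, _root_.zpow_mul]
          norm_cast
      _ = _ := by rw [h, _root_.one_zpow, mul_one]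
  rw [h2]
  exact zpow_mem h3 _

/-- Every automorphism is a product of an element of `PGL_3`, a field automorphism and possibly the inverse
transpose. -/
theorem forms [Finite F] (α : MulAut (Y3 F)) :
    (∃ (A : GL (Fin 3) F) (σ : F ≃+* F), α = lift (cj A * fld σ)) ∨
    (∃ (A : GL (Fin 3) F) (σ : F ≃+* F), α = lift (cj A * fld σ * itr)) := by
  have := Fintype.ofFinite F
  obtain ⟨p, hp⟩ := CharP.exists F
  have hprime : Fact p.Prime := ⟨CharP.char_is_prime F p⟩
  exact surj_three p le_rfl α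

/-- commutators of automorphisms are in `PGL_3` -/
theorem comm_pgl [Finite F] (α β : MulAut (Y3 F)) : ∃ A : GL (Fin 3) F, ⁅α, β⁆ = lift (cj A) := by
  let D : Subgroup (MulAut (Y3 F)) := ((cj : GL (Fin 3) F →* _).range).map lift
  have key : ∀ α : MulAut (Y3 F), ∃ d ∈ D, ∃ f : MulAut (Y3 F), (∃ σ : F ≃+* F, f = lift (fld σ) ∨ f = lift (fld σ * itr)) ∧
      α = d * f := by
    intro α
    rcases forms α with ⟨A, σ, rfl⟩ | ⟨A, σ, rfl⟩
    · exact ⟨_, ⟨_, ⟨A, rfl⟩, rfl⟩, _, ⟨σ, Or.inl rfl⟩, by rw [map_mul]⟩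
    · exact ⟨_, ⟨_, ⟨A, rfl⟩, rfl⟩, _, ⟨σ, Or.inr rfl⟩, by rw [mul_assoc, map_mul]⟩
  have hff := fun σ τ : F ≃+* F => fld_comm (ι := Fin 3) σ τ
  have hif := fun σ : F ≃+* F => itr_mul_fld (ι := Fin 3) σ
  have hlm : ∀ a b : MulAut (SL3 F), lift (a * b) = lift a * lift b := fun a b => map_mul lift a b
  have hnorm : ∀ f : MulAut (Y3 F), (∃ σ : F ≃+* F, f = lift (fld σ) ∨ f = lift (fld σ * itr)) →
      ∀ d ∈ D, f * d * f⁻¹ ∈ D := by
    rintro f ⟨σ, rfl | rfl⟩ _ ⟨x, hx, rfl⟩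
    · rw [← map_inv, ← map_mul, ← map_mul]
      exact ⟨_, cj_norm_fld σ hx, rfl⟩
    · rw [← map_inv, ← map_mul, ← map_mul]
      refine ⟨_, ?_, rfl⟩
      have h1 : fld σ * itr * x * (fld σ * itr)⁻¹ = fld σ * (itr * x * itr⁻¹) * (fld σ)⁻¹ := by
        group
      rw [h1]
      exact cj_norm_fld σ (cj_norm_itr hx)
  have hcomm : ∀ f g : MulAut (Y3 F), (∃ σ : F ≃+* F, f = lift (fld σ) ∨ f = lift (fld σ * itr)) →
      (∃ σ : F ≃+* F, g = lift (fld σ) ∨ g = lift (fld σ * itr)) → f * g = g * f := by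
    rintro f g ⟨σ, rfl | rfl⟩ ⟨τ, rfl | rfl⟩
    · rw [← hlm, ← hlm, hff]
    · rw [← hlm, ← hlm, ← mul_assoc, hff, mul_assoc, mul_assoc, hif]
    · rw [← hlm, ← hlm, mul_assoc, hif, ← mul_assoc, hff, mul_assoc]
    · rw [← hlm, ← hlm]
      congr 1
      calc fld σ * itr * (fld τ * itr) = fld σ * (itr * fld τ) * itr := by group
        _ = fld σ * fld τ * (itr * itr) := by rw [hif]; group
        _ = fld τ * fld σ * (itr * itr) := by rw [hff]
        _ = fld τ * (fld σ * itr) * itr := by group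
        _ = fld τ * (itr * fld σ) * itr := by rw [hif]
        _ = _ := by group
  obtain ⟨d, hd, f, hf, rfl⟩ := key α
  obtain ⟨e, he, g, hg, rfl⟩ := key β
  have h1 : ⁅d * f, e * g⁆ ∈ D := by
    have e1 : ⁅d * f, e * g⁆ = d * (f * e * f⁻¹) * (g * d⁻¹ * g⁻¹) * e⁻¹ := by
      rw [commutatorElement_def]
      have h2 : f * g = g * f := hcomm f g hf hg
      calc d * f * (e * g) * (d * f)⁻¹ * (e * g)⁻¹
          = d * (f * e * f⁻¹) * ((f * g) * f⁻¹ * d⁻¹ * g⁻¹) * e⁻¹ := by group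
        _ = d * (f * e * f⁻¹) * ((g * f) * f⁻¹ * d⁻¹ * g⁻¹) * e⁻¹ := by rw [h2]
        _ = d * (f * e * f⁻¹) * (g * d⁻¹ * g⁻¹) * e⁻¹ := by group
    rw [e1]
    exact mul_mem (mul_mem (mul_mem hd (hnorm f hf e he)) (hnorm g hg _ (inv_mem hd))) (inv_mem he)
  obtain ⟨_, ⟨A, rfl⟩, h2⟩ := h1
  exact ⟨A, h2.symm⟩

/-! ### Automorphisms and root elements -/

theorem eqA {A : GL (Fin 3) F} {σ : F ≃+* F} {i j k l : Fin 3} {hij : i ≠ j} {hkl : k ≠ l} {s t : F}
    (h : lift (cj A * fld σ) (pr (Matrix.SpecialLinearGroup.transvection hij s)) =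
      pr (Matrix.SpecialLinearGroup.transvection hkl t)) :
    (A : Matrix (Fin 3) (Fin 3) F) * single i j (σ s) = single k l t * (A : Matrix (Fin 3) (Fin 3) F) := by
  rw [lift_pr, MulAut.mul_apply, fld_transvection] at h
  exact cj_transvection_eq h

theorem eqB {A : GL (Fin 3) F} {σ : F ≃+* F} {i j k l : Fin 3} {hij : i ≠ j} {hkl : k ≠ l} {s t : F}
    (h : lift (cj A * fld σ * itr) (pr (Matrix.SpecialLinearGroup.transvection hij s)) =
      pr (Matrix.SpecialLinearGroup.transvection hkl t)) :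
    (A : Matrix (Fin 3) (Fin 3) F) * single j i (-(σ s)) = single k l t * (A : Matrix (Fin 3) (Fin 3) F) := by
  rw [lift_pr, MulAut.mul_apply, itr_transvection, MulAut.mul_apply, fld_transvection, map_neg] at h
  exact cj_transvection_eq h

theorem col_ne (A : GL (Fin 3) F) (j : Fin 3) : ¬ ∀ i, (A : Matrix (Fin 3) (Fin 3) F) i j = 0 := by
  intro h
  have h1 : ((A⁻¹ : GL (Fin 3) F) : Matrix (Fin 3) (Fin 3) F) * (A : Matrix (Fin 3) (Fin 3) F) = 1 := by
    rw [← Units.val_mul, inv_mul_cancel, Units.val_one]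
  have h2 := congrFun (congrFun h1 j) j
  rw [Matrix.mul_apply] at h2
  simp [h] at h2

theorem row_ne (A : GL (Fin 3) F) (i : Fin 3) : ¬ ∀ j, (A : Matrix (Fin 3) (Fin 3) F) i j = 0 := by
  intro h
  have h1 : (A : Matrix (Fin 3) (Fin 3) F) * ((A⁻¹ : GL (Fin 3) F) : Matrix (Fin 3) (Fin 3) F) = 1 := by
    rw [← Units.val_mul, mul_inv_cancel, Units.val_one]
  have h2 := congrFun (congrFun h1 i) i
  rw [Matrix.mul_apply] at h2
  simp [h] at h2

/-- entries of the equation `A e_ij s = e_kl t A` -/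
theorem ent {M : Matrix (Fin 3) (Fin 3) F} {i j k l : Fin 3} {s t : F} (h : M * single i j s = single k l t * M)
    (r c : Fin 3) : (if j = c then M r i * s else 0) = (if k = r then t * M l c else 0) := by
  have h1 := congrFun (congrFun h r) c
  rw [Matrix.mul_apply, Matrix.mul_apply] at h1
  simp only [Matrix.single_apply] at h1
  rw [Finset.sum_eq_single i, Finset.sum_eq_single l] at h1
  · by_cases hj : j = c <;> by_cases hk : k = r <;> simp [hj, hk] at h1 ⊢ <;> exact h1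
  · intro b _ hb
    rw [if_neg (fun h => hb h.2.symm), zero_mul]
  · intro h4; exact absurd (Finset.mem_univ _) h4
  · intro b _ hb
    rw [if_neg (fun h => hb h.1.symm), mul_zero]
  · intro h4; exact absurd (Finset.mem_univ _) h4

/-- an automorphism trivial on the first row -/
theorem fix_row [Finite F] {α : MulAut (Y3 F)} (h1 : ∀ a, α (pr (um a 0 0)) = pr (um a 0 0))
    (h2 : ∀ c, α (pr (um 0 0 c)) = pr (um 0 0 c)) : ∃ a c : F, α = MulAut.conj (pr (um a 0 c)) := by
  rcases forms α with ⟨A, σ, rfl⟩ | ⟨A, σ, rfl⟩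
  · have e1 : ∀ a, (A : Matrix (Fin 3) (Fin 3) F) * single 0 1 (σ a) = single 0 1 a * (A : Matrix (Fin 3) (Fin 3) F) := by
      intro a
      have := h1 a
      rw [um_eq01] at this
      exact eqA this
    have e2 : ∀ a, (A : Matrix (Fin 3) (Fin 3) F) * single 0 2 (σ a) = single 0 2 a * (A : Matrix (Fin 3) (Fin 3) F) := by
      intro a
      have := h2 a
      rw [um_eq02] at this
      exact eqA this
    have a10 := ent (e1 1) 0 0
    have b1 := ent (e1 1) 0 1
    have b2 := ent (e1 1) 0 2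
    have b3 := ent (e1 1) 1 1
    have b4 := ent (e1 1) 2 1
    have c1 := ent (e2 1) 0 1
    have c2 := ent (e2 1) 0 2
    simp only [map_one, mul_one, one_mul, if_true, if_false, reduceIte, Fin.isValue, one_ne_zero, zero_ne_one,
      reduceCtorEq, show (1 : Fin 3) ≠ 2 by decide, show (2 : Fin 3) ≠ 1 by decide, show (0 : Fin 3) ≠ 2 by decide,
      show (2 : Fin 3) ≠ 0 by decide] at a10 b1 b2 b3 b4 c1 c2
    have h00 : (A : Matrix (Fin 3) (Fin 3) F) 0 0 ≠ 0 := by
      intro h0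
      apply col_ne A 0
      intro i
      fin_cases i
      · exact h0
      · exact b3
      · exact b4
    have hσ : σ = 1 := by
      apply RingEquiv.ext
      intro x
      have := ent (e1 x) 0 1
      simp only [if_true, reduceIte] at this
      rw [← b1, mul_comm] at this
      exact mul_right_cancel₀ h00 this
    refine ⟨((A : Matrix (Fin 3) (Fin 3) F) 0 0)⁻¹ * (A : Matrix (Fin 3) (Fin 3) F) 0 1,
      ((A : Matrix (Fin 3) (Fin 3) F) 0 0)⁻¹ * (A : Matrix (Fin 3) (Fin 3) F) 0 2, ?_⟩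
    rw [hσ, map_one, mul_one]
    apply conj_of_smul (r := (A : Matrix (Fin 3) (Fin 3) F) 0 0)
    ext i j
    fin_cases i <;> fin_cases j <;> simp [um, h00, ← a10, b3, b4, ← b2, ← c1] 
    · exact b1.symm
    · exact c2.symm
  · exfalso
    have e1 := eqB (by have := h1 1; rw [um_eq01] at this; exact this)
    have e2 := eqB (by have := h2 1; rw [um_eq02] at this; exact this)
    have x1 := ent e1 1 0
    have x2 := ent e1 2 0
    have y1 := ent e2 1 0
    have y2 := ent e2 2 0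
    simp only [map_one, mul_one, mul_neg, one_mul, if_true, if_false, Fin.isValue, one_ne_zero, zero_ne_one,
      show (0 : Fin 3) ≠ 2 by decide, show (2 : Fin 3) ≠ 0 by decide, neg_eq_zero] at x1 x2 y1 y2
    have hd : (A : Matrix (Fin 3) (Fin 3) F).det ≠ 0 := by
      have := A.det.ne_zero
      rwa [Matrix.GeneralLinearGroup.val_det_apply] at this
    apply hd
    rw [Matrix.det_fin_three, x1, x2, y1, y2]
    ring

/-- an automorphism trivial on the last column -/
theorem fix_col [Finite F] {α : MulAut (Y3 F)} (h1 : ∀ a, α (pr (um 0 a 0)) = pr (um 0 a 0))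
    (h2 : ∀ c, α (pr (um 0 0 c)) = pr (um 0 0 c)) : ∃ b c : F, α = MulAut.conj (pr (um 0 b c)) := by
  rcases forms α with ⟨A, σ, rfl⟩ | ⟨A, σ, rfl⟩
  · have e1 : ∀ a, (A : Matrix (Fin 3) (Fin 3) F) * single 1 2 (σ a) = single 1 2 a * (A : Matrix (Fin 3) (Fin 3) F) := by
      intro a
      have := h1 a
      rw [um_eq12] at this
      exact eqA this
    have e2 : ∀ a, (A : Matrix (Fin 3) (Fin 3) F) * single 0 2 (σ a) = single 0 2 a * (A : Matrix (Fin 3) (Fin 3) F) := by
      intro a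
      have := h2 a
      rw [um_eq02] at this
      exact eqA this
    have a01 := ent (e1 1) 0 2
    have b1 := ent (e1 1) 1 2
    have b2 := ent (e1 1) 1 0
    have b3 := ent (e1 1) 1 1
    have b4 := ent (e1 1) 2 2
    have c1 := ent (e2 1) 1 2
    have c2 := ent (e2 1) 0 2
    have c3 := ent (e2 1) 0 0
    have c4 := ent (e2 1) 0 1
    simp only [map_one, mul_one, one_mul, if_true, if_false, Fin.isValue, one_ne_zero, zero_ne_one,
      show (1 : Fin 3) ≠ 2 by decide, show (2 : Fin 3) ≠ 1 by decide, show (0 : Fin 3) ≠ 2 by decide,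
      show (2 : Fin 3) ≠ 0 by decide] at a01 b1 b2 b3 b4 c1 c2 c3 c4
    have h22 : (A : Matrix (Fin 3) (Fin 3) F) 2 2 ≠ 0 := by
      intro h0
      apply row_ne A 2
      intro i
      fin_cases i
      · exact c3.symm
      · exact c4.symm
      · exact h0
    have hσ : σ = 1 := by
      apply RingEquiv.ext
      intro x
      have := ent (e1 x) 1 2
      simp only [if_true] at this
      rw [b1, mul_comm] at this
      exact mul_right_cancel₀ h22 this
    refine ⟨((A : Matrix (Fin 3) (Fin 3) F) 2 2)⁻¹ * (A : Matrix (Fin 3) (Fin 3) F) 1 2,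
      ((A : Matrix (Fin 3) (Fin 3) F) 2 2)⁻¹ * (A : Matrix (Fin 3) (Fin 3) F) 0 2, ?_⟩
    rw [hσ, map_one, mul_one]
    apply conj_of_smul (r := (A : Matrix (Fin 3) (Fin 3) F) 2 2)
    ext i j
    fin_cases i <;> fin_cases j <;> simp [um, h22, b1, c2, a01, c1, ← c3, ← c4]
  · exfalso
    have e1 := eqB (by have := h1 1; rw [um_eq12] at this; exact this)
    have e2 := eqB (by have := h2 1; rw [um_eq02] at this; exact this)
    have x1 := ent e1 0 1
    have x2 := ent e1 2 1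
    have y1 := ent e2 1 0
    have y2 := ent e2 2 0
    simp only [map_one, mul_one, mul_neg, one_mul, if_true, if_false, Fin.isValue, one_ne_zero, zero_ne_one,
      show (1 : Fin 3) ≠ 2 by decide, show (0 : Fin 3) ≠ 2 by decide, show (2 : Fin 3) ≠ 0 by decide,
      neg_eq_zero] at x1 x2 y1 y2
    apply col_ne A 2
    intro i
    fin_cases i
    · exact x1
    · exact y1
    · exact y2

theorem ne_zero_of {α : MulAut (Y3 F)} {c κ : F} (hc : c ≠ 0) (h : α (pr (um 0 0 c)) = pr (um 0 0 κ)) : κ ≠ 0 := by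
  rintro rfl
  apply hc
  rw [um_zero, map_one, ← map_one α] at h
  have h1 := α.injective h
  rw [← map_one (pr (ι := Fin 3) (F := F)), ← um_zero] at h1
  exact (pr_um_inj h1).2.2

/-- the action on the centre of the Sylow subgroup is semilinear; if it is trivial there is no field part -/
theorem sem [Finite F] {α : MulAut (Y3 F)} (h : ∀ c, ∃ c', α (pr (um 0 0 c)) = pr (um 0 0 c')) :
    ∃ (κ : F) (σ : F ≃+* F), κ ≠ 0 ∧ (∀ c, α (pr (um 0 0 c)) = pr (um 0 0 (κ * σ c))) ∧
      (∃ A : GL (Fin 3) F, α = lift (cj A * fld σ) ∨ α = lift (cj A * fld σ * itr)) := by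
  rcases forms α with ⟨A, σ, rfl⟩ | ⟨A, σ, rfl⟩
  · obtain ⟨κ, hκ⟩ := h 1
    have hκ0 := ne_zero_of one_ne_zero hκ
    refine ⟨κ, σ, hκ0, ?_, A, Or.inl rfl⟩
    intro c
    obtain ⟨c', hc⟩ := h c
    rw [hc]
    congr 2
    rw [um_eq02, um_eq02] at hκ hc
    have e1 := eqA hκ
    have e2 := eqA hc
    obtain ⟨j, hj⟩ : ∃ j, (A : Matrix (Fin 3) (Fin 3) F) 2 j ≠ 0 := by
      by_contra hcon
      push Not at hcon
      exact row_ne A 2 hcon
    have f1 := ent e1 0 j
    have f2 := ent e2 0 j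
    simp only [map_one, mul_one, if_true] at f1 f2
    by_cases h2 : 2 = j
    · rw [if_pos h2] at f1 f2
      rw [f1] at f2
      apply mul_right_cancel₀ hj
      rw [← f2]; ring
    · exfalso
      rw [if_neg h2] at f1 f2
      exact mul_ne_zero hκ0 hj f1.symm
  · obtain ⟨κ, hκ⟩ := h 1
    have hκ0 := ne_zero_of one_ne_zero hκ
    refine ⟨κ, σ, hκ0, ?_, A, Or.inr rfl⟩
    intro c
    obtain ⟨c', hc⟩ := h c
    rw [hc]
    congr 2
    rw [um_eq02, um_eq02] at hκ hc
    have e1 := eqB hκ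
    have e2 := eqB hc
    obtain ⟨j, hj⟩ : ∃ j, (A : Matrix (Fin 3) (Fin 3) F) 2 j ≠ 0 := by
      by_contra hcon
      push Not at hcon
      exact row_ne A 2 hcon
    have f1 := ent e1 0 j
    have f2 := ent e2 0 j
    simp only [map_one, mul_one, if_true] at f1 f2
    by_cases h2 : 0 = j
    · rw [if_pos h2] at f1 f2
      apply mul_right_cancel₀ hj
      linear_combination -f2 + (σ c) * f1
    · exfalso
      rw [if_neg h2] at f1 f2
      exact mul_ne_zero hκ0 hj f1.symm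

/-- at most one field automorphism of order 2 -/
theorem fld_invol [Finite F] {σ τ : F ≃+* F} (hs : σ * σ = 1) (ht : τ * τ = 1) : σ = 1 ∨ τ = 1 ∨ σ * τ = 1 := by
  have hc : IsCyclic (F ≃+* F) := Cfsg.Agent.LieRecognition.FieldSemilinear.isCyclic_ringAut F
  have : Finite (F ≃+* F) := Finite.of_injective (fun e : F ≃+* F => (e : F → F)) (fun a b h => RingEquiv.ext (congrFun h))
  by_contra hcon
  push Not at hcon
  obtain ⟨h1, h2, h3⟩ := hcon
  have hst : σ ≠ τ := by
    rintro rfl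
    exact h3 hs
  have := Fintype.ofFinite (F ≃+* F)
  classical
  have h4 := IsCyclic.card_pow_eq_one_le (α := F ≃+* F) (n := 2) two_pos
  have h5 : ({1, σ, τ} : Finset (F ≃+* F)) ⊆ Finset.univ.filter fun a => a ^ 2 = 1 := by
    intro a ha
    rw [Finset.mem_filter]
    refine ⟨Finset.mem_univ _, ?_⟩
    simp only [Finset.mem_insert, Finset.mem_singleton] at ha
    rcases ha with rfl | rfl | rfl
    · exact one_pow 2
    · rw [pow_two]; exact hs
    · rw [pow_two]; exact ht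
  have h6 := (Finset.card_le_card h5).trans h4
  rw [Finset.card_insert_of_notMem, Finset.card_insert_of_notMem, Finset.card_singleton] at h6
  · omega
  · simpa using hst
  · simp only [Finset.mem_insert, Finset.mem_singleton, not_or]
    exact ⟨fun h => h1 h.symm, fun h => h2 h.symm⟩

/-- **(V)** -/
theorem no_four [Finite F] [CharP F 2] {a b : MulAut (Y3 F)} (ha : a * a = 1) (hb : b * b = 1) (hab : a * b = b * a)
    (na : a ∉ Inn (Y3 F)) (nb : b ∉ Inn (Y3 F)) (nab : a * b ∉ Inn (Y3 F))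
    (za : ∀ c, ∃ c', a (pr (um 0 0 c)) = pr (um 0 0 c')) (zb : ∀ c, ∃ c', b (pr (um 0 0 c)) = pr (um 0 0 c'))
    (hc : ∀ v, v = a ∨ v = b ∨ v = a * b → (∀ c, v (pr (um 0 0 c)) = pr (um 0 0 c)) →
      (∀ c, a (pr (um 0 0 c)) = pr (um 0 0 c)) ∧ ∀ c, b (pr (um 0 0 c)) = pr (um 0 0 c)) : False := by
  -- an involution with trivial field part centralises
  have one_of : ∀ v : MulAut (Y3 F), v * v = 1 → ∀ (κ : F) (σ : F ≃+* F),
      (∀ c, v (pr (um 0 0 c)) = pr (um 0 0 (κ * σ c))) → (σ * σ = 1 ∧ (σ = 1 → ∀ c, v (pr (um 0 0 c)) = pr (um 0 0 c))) := by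
    intro v hv κ σ h
    have h1 : ∀ c, κ * σ (κ * σ c) = c := by
      intro c
      have h2 : v (v (pr (um 0 0 c))) = pr (um 0 0 c) := by
        rw [← MulAut.mul_apply, hv, MulAut.one_apply]
      rw [h, h] at h2
      exact (pr_um_inj h2).2.2
    have h2 := h1 1
    rw [map_one, mul_one] at h2
    refine ⟨?_, ?_⟩
    · apply RingEquiv.ext
      intro c
      have h3 := h1 c
      rw [map_mul, ← mul_assoc, h2, one_mul] at h3
      exact h3
    · rintro rfl c
      have h3 : κ * κ = 1 := h2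
      have h4 : (κ + 1) * (κ + 1) = 0 := by
        have h5 : (2 : F) = 0 := CharTwo.two_eq_zero
        linear_combination h3 + κ * h5 + h5
      have h5 : κ + 1 = 0 := mul_self_eq_zero.1 h4
      have h6 : κ = 1 := by
        have := CharTwo.add_eq_zero.1 h5
        exact this
      rw [h, h6, one_mul]
      rfl
  obtain ⟨κ, σ, hκ, ea, A, fa⟩ := sem za
  obtain ⟨μ, τ, hμ, eb, B, fb⟩ := sem zb
  have hzab : ∀ c, (a * b) (pr (um 0 0 c)) = pr (um 0 0 ((κ * σ μ) * (σ * τ) c)) := by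
    intro c
    rw [MulAut.mul_apply, eb, ea, map_mul]
    congr 2
    show _ = κ * σ μ * σ (τ c)
    ring
  have habab : a * b * (a * b) = 1 := by
    calc a * b * (a * b) = a * (b * a) * b := by group
      _ = a * (a * b) * b := by rw [hab]
      _ = (a * a) * (b * b) := by group
      _ = 1 := by rw [ha, hb, one_mul]
  obtain ⟨sa, ca⟩ := one_of a ha κ σ ea
  obtain ⟨sb, cb⟩ := one_of b hb μ τ eb
  obtain ⟨-, cab⟩ := one_of _ habab _ _ hzab
  have hall : (∀ c, a (pr (um 0 0 c)) = pr (um 0 0 c)) ∧ ∀ c, b (pr (um 0 0 c)) = pr (um 0 0 c) := by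
    rcases fld_invol sa sb with h | h | h
    · exact hc a (Or.inl rfl) (ca h)
    · exact hc b (Or.inr (Or.inl rfl)) (cb h)
    · exact hc _ (Or.inr (Or.inr rfl)) (cab h)
  obtain ⟨ha1, hb1⟩ := hall
  have triv : ∀ (v : MulAut (Y3 F)) (κ : F) (σ : F ≃+* F), (∀ c, v (pr (um 0 0 c)) = pr (um 0 0 (κ * σ c))) →
      (∀ c, v (pr (um 0 0 c)) = pr (um 0 0 c)) → σ = 1 := by
    intro v κ σ h h'
    have h1 : ∀ c, κ * σ c = c := fun c => by
      have h2 := h c
      rw [h'] at h2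
      exact (pr_um_inj h2).2.2.symm
    have h2 : κ = 1 := by
      have := h1 1
      rwa [map_one, mul_one] at this
    apply RingEquiv.ext
    intro c
    have := h1 c
    rw [h2, one_mul] at this
    exact this
  have hs1 := triv a κ σ ea ha1
  have ht1 := triv b μ τ eb hb1
  rw [hs1, map_one, mul_one] at fa
  rw [ht1, map_one, mul_one] at fb
  have two : ∀ C : GL (Fin 3) F, lift (cj C) * lift (cj C) = (1 : MulAut (Y3 F)) → lift (cj C) ∈ Inn (Y3 F) := by
    intro C hC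
    apply inner_of_two (k := 1)
    rw [pow_one, pow_two, hC]
  rcases fa with rfl | rfl
  · exact na (two A ha)
  · rcases fb with rfl | rfl
    · exact nb (two B hb)
    · apply nab
      have e : lift (cj A * itr) * lift (cj B * itr) = (lift (cj (A * ctr B)) : MulAut (Y3 F)) := by
        rw [← map_mul (lift (ι := Fin 3) (F := F))]
        congr 1
        calc cj A * itr * (cj B * itr) = cj A * (itr * cj B) * itr := by group
          _ = cj A * (cj (ctr B) * itr) * itr := by rw [itr_mul_cj]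
          _ = cj A * cj (ctr B) * (itr * itr) := by group
          _ = cj (A * ctr B) := by rw [itr_mul_itr, mul_one, map_mul]
      rw [e]
      apply two
      rw [← e]
      exact habab

/-- 2-elements of `[A, B]` are inner, for subgroups `A ≤ [A, B]` -/
theorem inner_of_comm [Finite F] {A B : Subgroup (MulAut (Y3 F))} (h : A ≤ ⁅A, B⁆) {a : MulAut (Y3 F)} (ha : a ∈ A)
    {k : ℕ} (hk : a ^ 2 ^ k = 1) : a ∈ Inn (Y3 F) := by
  have h1 : ⁅A, B⁆ ≤ ((cj : GL (Fin 3) F →* _).range).map lift := by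
    rw [Subgroup.commutator_le]
    intro x _ y _
    obtain ⟨A, hA⟩ := comm_pgl x y
    exact ⟨_, ⟨A, rfl⟩, hA.symm⟩
  obtain ⟨_, ⟨C, rfl⟩, rfl⟩ := h1 (h ha)
  exact inner_of_two hk

end Cfsg.Agent.OddHalf.D4.L3
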