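import Mathlib
import Cfsg.Agent.OddHalf.D4.L3.Aut
import Cfsg.Agent.OddHalf.D4.NoBig

/-!
# ODD, D4, row `L_3(2^a)`: the subgroup `K`

`f : PSL_3(F) →* G` injective, `K = f.range`; `U f a b c` the elements of a Sylow 2-subgroup `Sf f`, `Zf f` its centre,
`Hf f` the centraliser of `Zf f` in the torus.
* `Fr K S Z H` : the facts used in the first part; `fr`.
-/

set_option autoImplicit false
set_option linter.unusedSectionVars false

namespace Cfsg.Agent.OddHalf.D4.L3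

open Cfsg.Agent.ClassicalGeometry.AutPSL.Root Cfsg.Agent.ClassicalGeometry.AutPSL.Auto
  Cfsg.Agent.ClassicalGeometry.AutPSL.Main Cfsg.Agent.OddHalf.D4.Basic
open Subgroup (normalizer centralizer mem_centralizer_iff mem_normalizer_iff zpowers)
open scoped commutatorElement

/-- The facts on `K`, its Sylow 2-subgroup `S`, `Z = Z(S)` and a group `H` of odd order. -/
structure Fr {G : Type*} [Group G] (K S Z H : Subgroup G) : Prop where
  SK : S ≤ K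
  ZS : Z ≤ S
  HK : H ≤ K
  syl : IsSyl S K
  ctr : ∀ k ∈ K, k ∈ centralizer (K : Set G) → k = 1
  zc : ∀ z ∈ Z, ∀ s ∈ S, z * s = s * z
  z2 : ∀ z ∈ Z, z * z = 1
  cm : ∀ s ∈ S, ∀ t ∈ S, s * t * s⁻¹ * t⁻¹ ∈ Z
  on : ∀ s ∈ S, s ∉ Z → ∀ z ∈ Z, ∃ t ∈ S, s * t * s⁻¹ * t⁻¹ = z
  ne : ∃ z ∈ Z, z ≠ 1
  zne : ∃ s ∈ S, s ∉ Z
  hz : ∀ h ∈ H, ∀ z ∈ Z, h * z = z * h
  hs : ∀ h ∈ H, ∀ s ∈ S, h * s * h⁻¹ ∈ S
  sh : S ≤ ⁅S, H⁆
  F1 : ∀ y : G, y ∈ normalizer (K : Set G) → (∀ s ∈ S, y * s = s * y) →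
    ∃ z ∈ Z, z⁻¹ * y ∈ centralizer (K : Set G)
  O : ∀ A B : Subgroup G, IsPGroup 2 ↥A → A ≤ normalizer (K : Set G) → B ≤ normalizer (K : Set G) → A ≤ ⁅A, B⁆ →
    ∀ a ∈ A, ∃ k ∈ K, k⁻¹ * a ∈ centralizer (K : Set G)
  inv : ∀ t ∈ K, orderOf t = 2 → ∃ k ∈ K, ∀ s ∈ S, (k * s * k⁻¹) * t = t * (k * s * k⁻¹)
  V : ∀ a b : G, a ∈ normalizer (K : Set G) → b ∈ normalizer (K : Set G) → a * a = 1 → b * b = 1 → a * b = b * a →
    (∀ v, v = a ∨ v = b ∨ v = a * b → ∀ k ∈ K, k⁻¹ * v ∉ centralizer (K : Set G)) →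
    (∀ z ∈ Z, a * z * a⁻¹ ∈ Z) → (∀ z ∈ Z, b * z * b⁻¹ ∈ Z) →
    (∀ v, v = a ∨ v = b ∨ v = a * b → (∀ z ∈ Z, v * z = z * v) → (∀ z ∈ Z, a * z = z * a) ∧ ∀ z ∈ Z, b * z = z * b) →
    False
  gen : ∀ X : Subgroup G, (∀ e ∈ S, orderOf e = 2 → ∀ k ∈ K, k * e = e * k → k ∈ X) → K ≤ X

/-! ### The action of the normalizer -/

variable {F : Type*} [Field F] {G : Type*} [Group G]

/-- conjugation by `g` on `f.range` is `α` -/
def Rel (f : Y3 F →* G) (g : G) (α : MulAut (Y3 F)) : Prop := ∀ y, f (α y) = g * f y * g⁻¹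

section rel

variable {f : Y3 F →* G} (hf : Function.Injective f)

theorem Rel.mul {g h : G} {α β : MulAut (Y3 F)} (h1 : Rel f g α) (h2 : Rel f h β) : Rel f (g * h) (α * β) := by
  intro y
  rw [MulAut.mul_apply, h1, h2]
  group

theorem Rel.inv {g : G} {α : MulAut (Y3 F)} (h1 : Rel f g α) : Rel f g⁻¹ α⁻¹ := by
  intro y
  have h2 := h1 (α⁻¹ y)
  rw [MulAut.apply_inv_self] at h2
  rw [h2]
  group

theorem Rel.one : Rel f 1 1 := by
  intro y
  rw [MulAut.one_apply, one_mul, inv_one, mul_one]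

theorem Rel.pow {g : G} {α : MulAut (Y3 F)} (h1 : Rel f g α) (n : ℕ) : Rel f (g ^ n) (α ^ n) := by
  induction n with
  | zero => rw [pow_zero, pow_zero]; exact Rel.one
  | succ n ih => rw [pow_succ, pow_succ]; exact ih.mul h1

theorem Rel.comm {g h : G} {α β : MulAut (Y3 F)} (h1 : Rel f g α) (h2 : Rel f h β) : Rel f ⁅g, h⁆ ⁅α, β⁆ := by
  rw [commutatorElement_def, commutatorElement_def]
  exact ((h1.mul h2).mul h1.inv).mul h2.inv

include hf in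
theorem Rel.ext {g : G} {α β : MulAut (Y3 F)} (h1 : Rel f g α) (h2 : Rel f g β) : α = β := by
  apply MulEquiv.ext
  intro y
  apply hf
  rw [h1, h2]

theorem Rel.mem_centralizer {g : G} {y : Y3 F} (h1 : Rel f g (MulAut.conj y)) :
    (f y)⁻¹ * g ∈ centralizer (f.range : Set G) := by
  rw [mem_centralizer_iff]
  rintro _ ⟨z, rfl⟩
  have h2 := h1 z
  rw [MulAut.conj_apply, map_mul, map_mul, map_inv] at h2
  calc f z * ((f y)⁻¹ * g) = (f y)⁻¹ * (f y * f z * (f y)⁻¹) * g := by group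
    _ = (f y)⁻¹ * g * f z := by rw [h2]; group

theorem Rel.of_centralizer {g k : G} {y : Y3 F} (hk : k = f y) (h : k⁻¹ * g ∈ centralizer (f.range : Set G)) :
    Rel f g (MulAut.conj y) := by
  intro z
  rw [MulAut.conj_apply, map_mul, map_mul, map_inv, ← hk]
  have h1 := mem_centralizer_iff.1 h (f z) ⟨z, rfl⟩
  calc k * f z * k⁻¹ = k * (f z * (k⁻¹ * g)) * g⁻¹ := by group
    _ = k * ((k⁻¹ * g) * f z) * g⁻¹ := by rw [h1]
    _ = g * f z * g⁻¹ := by group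

include hf in
theorem exists_rel {g : G} (hg : g ∈ normalizer (f.range : Set G)) : ∃ α, Rel f g α := by
  have e := MonoidHom.ofInjective hf
  have h1 : ∀ y, ∃ z, f z = g * f y * g⁻¹ := fun y =>
    ((mem_normalizer_iff.1 hg (f y)).1 ⟨y, rfl⟩)
  have h2 : ∀ y, ∃ z, f z = g⁻¹ * f y * g := fun y => by
    have := (mem_normalizer_iff.1 (inv_mem hg) (f y)).1 ⟨y, rfl⟩
    rw [inv_inv] at this
    exact this
  choose a ha using h1
  choose b hb using h2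
  refine ⟨{ toFun := a, invFun := b, left_inv := ?_, right_inv := ?_, map_mul' := ?_ }, ?_⟩
  · intro y
    apply hf
    rw [hb, ha]; group
  · intro y
    apply hf
    rw [ha, hb]; group
  · intro x y
    apply hf
    rw [ha, map_mul, map_mul, ha, ha]; group
  · intro y
    exact ha y

end rel

/-! ### The Sylow subgroup -/

section defs

variable (f : Y3 F →* G)

/-- the elements of the Sylow subgroup -/
def U (a b c : F) : G := f (pr (um a b c))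

/-- the elements of the torus -/
def Tm (x y : Fˣ) : G := f (pr (hm x y))

theorem U_mul (a b c a' b' c' : F) : U f a b c * U f a' b' c' = U f (a + a') (b + b') (c + c' + a * b') := by
  unfold U; rw [← map_mul, ← map_mul, um_mul]

theorem U_one : U f (0 : F) 0 0 = 1 := by unfold U; rw [um_zero, map_one, map_one]

theorem U_inv (a b c : F) : (U f a b c)⁻¹ = U f (-a) (-b) (a * b - c) := by
  unfold U; rw [← map_inv, ← map_inv, um_inv]

theorem Tm_mul (x y x' y' : Fˣ) : Tm f x y * Tm f x' y' = Tm f (x * x') (y * y') := by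
  unfold Tm; rw [← map_mul, ← map_mul, hm_mul]

theorem Tm_one : Tm f (1 : Fˣ) 1 = 1 := by unfold Tm; rw [hm_one, map_one, map_one]

theorem Tm_inv (x y : Fˣ) : (Tm f x y)⁻¹ = Tm f x⁻¹ y⁻¹ := by
  unfold Tm; rw [← map_inv, ← map_inv, hm_inv]

theorem Tm_U (x y : Fˣ) (a b c : F) :
    Tm f x y * U f a b c = U f ((x * y⁻¹ : Fˣ) * a) ((x * y ^ 2 : Fˣ) * b) ((x ^ 2 * y : Fˣ) * c) * Tm f x y := by
  unfold Tm U; rw [← map_mul, ← map_mul, hm_um, map_mul, map_mul]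

theorem Tm_conj (x y : Fˣ) (a b c : F) :
    Tm f x y * U f a b c * (Tm f x y)⁻¹ = U f ((x * y⁻¹ : Fˣ) * a) ((x * y ^ 2 : Fˣ) * b) ((x ^ 2 * y : Fˣ) * c) := by
  rw [Tm_U, mul_inv_cancel_right]

/-- the Sylow subgroup -/
def Sf : Subgroup G where
  carrier := {x | ∃ a b c, x = U f a b c}
  one_mem' := ⟨0, 0, 0, (U_one f).symm⟩
  mul_mem' := by
    rintro _ _ ⟨a, b, c, rfl⟩ ⟨a', b', c', rfl⟩
    exact ⟨_, _, _, U_mul f a b c a' b' c'⟩
  inv_mem' := by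
    rintro _ ⟨a, b, c, rfl⟩
    exact ⟨_, _, _, U_inv f a b c⟩

/-- its centre -/
def Zf : Subgroup G where
  carrier := {x | ∃ c, x = U f 0 0 c}
  one_mem' := ⟨0, (U_one f).symm⟩
  mul_mem' := by
    rintro _ _ ⟨c, rfl⟩ ⟨c', rfl⟩
    exact ⟨c + c', by rw [U_mul]; congr 1 <;> ring⟩
  inv_mem' := by
    rintro _ ⟨c, rfl⟩
    exact ⟨-c, by rw [U_inv]; congr 1 <;> ring⟩

/-- the torus -/
def Tf : Subgroup G where
  carrier := {t | ∃ x y, t = Tm f x y}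
  one_mem' := ⟨1, 1, (Tm_one f).symm⟩
  mul_mem' := by
    rintro _ _ ⟨x, y, rfl⟩ ⟨x', y', rfl⟩
    exact ⟨_, _, Tm_mul f x y x' y'⟩
  inv_mem' := by
    rintro _ ⟨x, y, rfl⟩
    exact ⟨_, _, Tm_inv f x y⟩

/-- the elements of the torus centralising the centre -/
def Hf : Subgroup G where
  carrier := {t | ∃ x y, x ^ 2 * y = 1 ∧ t = Tm f x y}
  one_mem' := ⟨1, 1, by simp, (Tm_one f).symm⟩
  mul_mem' := by
    rintro _ _ ⟨x, y, h, rfl⟩ ⟨x', y', h', rfl⟩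
    refine ⟨_, _, ?_, Tm_mul f x y x' y'⟩
    calc (x * x') ^ 2 * (y * y') = (x ^ 2 * y) * (x' ^ 2 * y') := by
          rw [mul_pow]; ac_rfl
      _ = 1 := by rw [h, h', one_mul]
  inv_mem' := by
    rintro _ ⟨x, y, h, rfl⟩
    refine ⟨_, _, ?_, Tm_inv f x y⟩
    rw [inv_pow, ← mul_inv, h, inv_one]

theorem mem_Sf {x : G} : x ∈ Sf f ↔ ∃ a b c, x = U f a b c := Iff.rfl
theorem mem_Zf {x : G} : x ∈ Zf f ↔ ∃ c, x = U f 0 0 c := Iff.rfl
theorem mem_Tf {t : G} : t ∈ Tf f ↔ ∃ x y, t = Tm f x y := Iff.rfl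
theorem mem_Hf {t : G} : t ∈ Hf f ↔ ∃ x y, x ^ 2 * y = 1 ∧ t = Tm f x y := Iff.rfl

theorem U_mem (a b c : F) : U f a b c ∈ Sf f := ⟨a, b, c, rfl⟩
theorem Z_mem (c : F) : U f 0 0 c ∈ Zf f := ⟨c, rfl⟩
theorem Tm_mem (x y : Fˣ) : Tm f x y ∈ Tf f := ⟨x, y, rfl⟩
theorem Sf_le : Sf f ≤ f.range := by rintro _ ⟨a, b, c, rfl⟩; exact ⟨_, rfl⟩
theorem Zf_le : Zf f ≤ Sf f := by rintro _ ⟨c, rfl⟩; exact U_mem f 0 0 c
theorem Tf_le : Tf f ≤ f.range := by rintro _ ⟨x, y, rfl⟩; exact ⟨_, rfl⟩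
theorem Hf_le : Hf f ≤ Tf f := by rintro _ ⟨x, y, _, rfl⟩; exact Tm_mem f x y

theorem commute_U (a b c a' b' c' : F) (h : a * b' = a' * b) : U f a b c * U f a' b' c' = U f a' b' c' * U f a b c := by
  rw [U_mul, U_mul, add_comm a a', add_comm b b', h]
  congr 1
  ring

theorem comm_U (a b c a' b' c' : F) :
    U f a b c * U f a' b' c' * (U f a b c)⁻¹ * (U f a' b' c')⁻¹ = U f 0 0 (a * b' - a' * b) := by
  have h1 : U f a b c * U f a' b' c' = U f 0 0 (a * b' - a' * b) * (U f a' b' c' * U f a b c) := by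
    rw [U_mul, U_mul, U_mul]
    congr 1 <;> ring
  rw [h1]
  group

end defs

section inj

variable {f : Y3 F →* G} (hf : Function.Injective f)

include hf

theorem U_inj {a b c a' b' c' : F} (h : U f a b c = U f a' b' c') : a = a' ∧ b = b' ∧ c = c' :=
  pr_um_inj (hf h)

theorem U_mem_Z {a b c : F} : U f a b c ∈ Zf f ↔ a = 0 ∧ b = 0 := by
  constructor
  · rintro ⟨c', h⟩
    have := U_inj hf h
    exact ⟨this.1, this.2.1⟩
  · rintro ⟨rfl, rfl⟩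
    exact Z_mem f c

end inj

end Cfsg.Agent.OddHalf.D4.L3
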