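import Mathlib
import Cfsg.Agent.OddHalf.D4.L3.Frame

/-!
# ODD, D4, row `L_3(2^a)`: the facts on `K`

* `K2r`, `K2s`, `K1` : elements of `N(K)` centralising two, three root groups;
* `upper_of_norm` : `N_K(Z)` is upper triangular;
* **`fr`** : `Fr f.range (Sf f) (Zf f) (Hf f)`.
-/

set_option autoImplicit false
set_option linter.unusedSectionVars false

namespace Cfsg.Agent.OddHalf.D4.L3

open Cfsg.Agent.ClassicalGeometry.AutPSL.Root Cfsg.Agent.ClassicalGeometry.AutPSL.Auto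
  Cfsg.Agent.ClassicalGeometry.AutPSL.Main Cfsg.Agent.OddHalf.D4.Basic
open Subgroup (normalizer centralizer mem_centralizer_iff mem_normalizer_iff zpowers)
open scoped commutatorElement

variable {F : Type*} [Field F] {G : Type*} [Group G]

variable {f : Y3 F →* G} (hf : Function.Injective f)

include hf in
theorem fix_of_comm {g : G} {α : MulAut (Y3 F)} (h : Rel f g α) {y : Y3 F} (hy : g * f y = f y * g) : α y = y := by
  apply hf
  rw [h y, hy, mul_inv_cancel_right]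

include hf in
/-- **(K2)** first row -/
theorem K2r [Finite F] {g : G} (hg : g ∈ normalizer (f.range : Set G)) (h1 : ∀ a c, g * U f a 0 c = U f a 0 c * g) :
    ∃ a c, (U f a 0 c)⁻¹ * g ∈ centralizer (f.range : Set G) := by
  obtain ⟨α, hα⟩ := exists_rel hf hg
  obtain ⟨a, c, rfl⟩ := fix_row (α := α) (fun a => fix_of_comm hf hα (h1 a 0)) (fun c => fix_of_comm hf hα (h1 0 c))
  exact ⟨a, c, hα.mem_centralizer⟩

include hf in
/-- **(K2)** last column -/
theorem K2s [Finite F] {g : G} (hg : g ∈ normalizer (f.range : Set G)) (h1 : ∀ b c, g * U f 0 b c = U f 0 b c * g) :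
    ∃ b c, (U f 0 b c)⁻¹ * g ∈ centralizer (f.range : Set G) := by
  obtain ⟨α, hα⟩ := exists_rel hf hg
  obtain ⟨b, c, rfl⟩ := fix_col (α := α) (fun a => fix_of_comm hf hα (h1 a 0)) (fun c => fix_of_comm hf hα (h1 0 c))
  exact ⟨b, c, hα.mem_centralizer⟩

include hf in
/-- **(K1)** -/
theorem K1 [Finite F] {g : G} (hg : g ∈ normalizer (f.range : Set G)) (h1 : ∀ a b c, g * U f a b c = U f a b c * g) :
    ∃ c, (U f 0 0 c)⁻¹ * g ∈ centralizer (f.range : Set G) := by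
  obtain ⟨a, c, h⟩ := K2r hf hg (fun a c => h1 a 0 c)
  have h2 := mem_centralizer_iff.1 h (U f 0 1 0) (Sf_le f (U_mem f 0 1 0))
  have h3 := h1 0 1 0
  have h4 : U f a 0 c * U f 0 1 0 = U f 0 1 0 * U f a 0 c := by
    calc U f a 0 c * U f 0 1 0 = U f a 0 c * (U f 0 1 0 * ((U f a 0 c)⁻¹ * g)) * g⁻¹ * U f a 0 c := by group
      _ = U f a 0 c * (((U f a 0 c)⁻¹ * g) * U f 0 1 0) * g⁻¹ * U f a 0 c := by rw [h2]
      _ = (g * U f 0 1 0) * g⁻¹ * U f a 0 c := by group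
      _ = U f 0 1 0 * U f a 0 c := by rw [h3]; group
  rw [U_mul, U_mul] at h4
  have h5 := (U_inj hf h4).2.2
  have h6 : a = 0 := by linear_combination h5
  subst h6
  exact ⟨c, h⟩

/-- the upper triangular elements of `K` -/
theorem upper_of_pr {g : SL3 F} {c c' : F} (hc : c ≠ 0) (h : pr (g * um 0 0 c * g⁻¹) = pr (um 0 0 c')) :
    ∃ (x y : Fˣ) (a b c : F), g = hm x y * um a b c := by
  have e : g * um 0 0 c * g⁻¹ = cj (Matrix.SpecialLinearGroup.toGL g) (um 0 0 c) := by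
    apply Subtype.ext
    rw [coe_cj, ← map_inv]
    rfl
  rw [e, um_eq02, um_eq02] at h
  have h1 := cj_transvection_eq h
  have h1' : g.1 * Matrix.single 0 2 c = Matrix.single 0 2 c' * g.1 := h1
  have a1 := ent h1' 1 2
  have a2 := ent h1' 2 2
  have a3 := ent h1' 0 1
  have a4 := ent h1' 0 0
  simp only [if_true, if_false, Fin.isValue, zero_ne_one, show (2 : Fin 3) ≠ 1 by decide,
    show (0 : Fin 3) ≠ 2 by decide, show (2 : Fin 3) ≠ 0 by decide] at a1 a2 a3 a4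
  have b1 : g.1 1 0 = 0 := (mul_eq_zero.1 a1).resolve_right hc
  have b2 : g.1 2 0 = 0 := (mul_eq_zero.1 a2).resolve_right hc
  have hc' : c' ≠ 0 := by
    rintro rfl
    have h2 : (g.1 * Matrix.single 0 2 c : Matrix (Fin 3) (Fin 3) F) 0 2 = 0 := by rw [h1']; simp
    rw [Matrix.mul_apply, Finset.sum_eq_single 0] at h2
    · simp only [Matrix.single_apply, and_self, if_true] at h2
      rcases mul_eq_zero.1 h2 with h3 | h3
      · have hd : g.1.det = 1 := g.2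
        rw [Matrix.det_fin_three, b1, b2, h3] at hd
        simp at hd
      · exact hc h3
    · intro b _ hb
      rw [Matrix.single_apply, if_neg (fun h => hb h.1.symm), mul_zero]
    · intro h4; exact absurd (Finset.mem_univ _) h4
  have b3 : g.1 2 1 = 0 := (mul_eq_zero.1 a3.symm).resolve_left hc'
  exact upper_decomp g b1 b2 b3

include hf in
/-- `N_K(Z)` -/
theorem upper_of_norm {k : G} (hk : k ∈ f.range) {c c' : F} (hc : c ≠ 0) (h : k * U f 0 0 c * k⁻¹ = U f 0 0 c') :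
    ∃ x y a b c, k = Tm f x y * U f a b c := by
  obtain ⟨y, rfl⟩ := hk
  obtain ⟨g, rfl⟩ := pr_surjective y
  have h1 : f (pr (g * um 0 0 c * g⁻¹)) = f (pr (um 0 0 c')) := by
    rw [map_mul, map_mul, map_mul, map_mul, map_inv, map_inv]
    exact h
  obtain ⟨x, y, a, b, c, rfl⟩ := upper_of_pr hc (hf h1)
  exact ⟨x, y, a, b, c, by unfold Tm U; rw [map_mul, map_mul]⟩

/-- unitriangular matrices -/
theorem upper_eq [Finite F] {g : SL3 F} : g ∈ Cfsg.Agent.ClassicalGeometry.AutPSL.SylowU.upper 3 F ↔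
    ∃ a b c, g = um a b c := by
  rw [Cfsg.Agent.ClassicalGeometry.AutPSL.SylowU.mem_upper]
  constructor
  · intro h
    refine ⟨g.1 0 1, g.1 1 2, g.1 0 2, ?_⟩
    apply sl3_ext
    intro i j
    have h00 := h 0 0 le_rfl
    have h11 := h 1 1 le_rfl
    have h22 := h 2 2 le_rfl
    have h10 := h 1 0 (by decide)
    have h20 := h 2 0 (by decide)
    have h21 := h 2 1 (by decide)
    simp only [if_true, if_false, Fin.isValue, one_ne_zero, show (2 : Fin 3) ≠ 1 by decide,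
      show (2 : Fin 3) ≠ 0 by decide] at h00 h11 h22 h10 h20 h21
    fin_cases i <;> fin_cases j <;> simp [um, h00, h11, h22, h10, h20, h21]
  · rintro ⟨a, b, c, rfl⟩ i j hij
    fin_cases i <;> fin_cases j <;> simp [um] at hij ⊢

/-- `K` is generated by the centralizers of the involutions of `S` -/
theorem gen_range (X : Subgroup G)
    (h1 : ∀ t, f (pr (lr t)) ∈ X) (h2 : ∀ t, f (pr (ls t)) ∈ X) (h3 : ∀ t, U f t 0 0 ∈ X) (h4 : ∀ t, U f 0 t 0 ∈ X)
    (h5 : ∀ t, U f 0 0 t ∈ X) : f.range ≤ X := by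
  rintro _ ⟨y, rfl⟩
  obtain ⟨g, rfl⟩ := pr_surjective y
  refine Cfsg.Agent.LieClassical.SLGen.transvection_induction (fun x => f (pr x) ∈ X) (fun i j hij c => ?_)
    (fun A B hA hB => ?_) g
  · fin_cases i <;> fin_cases j
    · exact absurd rfl hij
    · have := h3 c
      unfold U at this
      rw [um_eq01] at this
      exact this
    · have := h5 c
      unfold U at this
      rw [um_eq02] at this
      exact this
    · have := h2 c
      rw [ls_eq] at this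
      exact this
    · exact absurd rfl hij
    · have := h4 c
      unfold U at this
      rw [um_eq12] at this
      exact this
    · have e := l20 c
      have h6 : f (pr (lr c * ls 1 * lr (-c) * ls (-1))) ∈ X := by
        rw [map_mul, map_mul, map_mul, map_mul, map_mul, map_mul]
        exact mul_mem (mul_mem (mul_mem (h1 _) (h2 _)) (h1 _)) (h2 _)
      rw [← e] at h6
      exact h6
    · have := h1 c
      rw [lr_eq] at this
      exact this
    · exact absurd rfl hij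
  · rw [map_mul, map_mul]
    exact mul_mem hA hB

theorem exists_cube_ne [Finite F] (h8 : 8 ≤ Nat.card F) : ∃ x : Fˣ, x ^ 3 ≠ 1 := by
  by_contra hcon
  push Not at hcon
  have := Fintype.ofFinite F
  classical
  have h1 := IsCyclic.card_pow_eq_one_le (α := Fˣ) (n := 3) (by norm_num)
  rw [Finset.filter_true_of_mem (fun x _ => hcon x), Finset.card_univ, Fintype.card_units] at h1
  rw [Nat.card_eq_fintype_card] at h8
  omega

theorem char_two [Finite F] [CharP F 2] (x : F) : x + x = 0 := CharTwo.add_self_eq_zero x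

section sylow

variable [Finite F] [CharP F 2]

theorem exists_syl : ∃ P : Sylow 2 (Y3 F), ∀ y, y ∈ (P : Subgroup (Y3 F)) ↔ ∃ a b c, y = pr (um a b c) := by
  have := Fintype.ofFinite F
  have : Fact (Nat.Prime 2) := ⟨Nat.prime_two⟩
  obtain ⟨P, hP⟩ := Cfsg.Agent.ClassicalGeometry.AutPSL.SylowU.exists_sylow (F := F) 3 2
  refine ⟨P, fun y => ?_⟩
  rw [hP]
  constructor
  · rintro ⟨g, hg, rfl⟩
    obtain ⟨a, b, c, rfl⟩ := upper_eq.1 hg
    exact ⟨a, b, c, rfl⟩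
  · rintro ⟨a, b, c, rfl⟩
    exact ⟨_, upper_eq.2 ⟨a, b, c, rfl⟩, rfl⟩

include hf in
theorem isSyl : IsSyl (Sf f) f.range := by
  obtain ⟨P, hP⟩ := exists_syl (F := F)
  have e : (P : Subgroup (Y3 F)).map f = Sf f := by
    ext x
    constructor
    · rintro ⟨y, hy, rfl⟩
      obtain ⟨a, b, c, rfl⟩ := (hP y).1 hy
      exact U_mem f a b c
    · rintro ⟨a, b, c, rfl⟩
      exact ⟨_, (hP _).2 ⟨a, b, c, rfl⟩, rfl⟩
  refine ⟨?_, Sf_le f, ?_⟩
  · rw [← e]
    exact P.2.map f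
  · intro Q hQ hle hQr x hx
    have h1 : IsPGroup 2 ↥(Q.comap f) := hQ.comap_of_injective f hf
    have h2 : (P : Subgroup (Y3 F)) ≤ Q.comap f := by
      intro y hy
      rw [Subgroup.mem_comap]
      apply hle
      rw [← e]
      exact ⟨y, hy, rfl⟩
    have h3 := P.3 h1 h2
    obtain ⟨y, rfl⟩ := hQr hx
    have h4 : y ∈ Q.comap f := hx
    rw [h3] at h4
    rw [← e]
    exact ⟨y, h4, rfl⟩

/-- every involution of `K` is conjugate to an element of `Z` -/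
theorem conj_Z (a b c : F) (h : a * b = 0) : ∃ (g : SL3 F) (c' : F), g * um a b c = um 0 0 c' * g := by
  rcases mul_eq_zero.1 h with rfl | rfl
  · by_cases hc : c = 0
    · subst hc
      -- `um 0 b 0`
      refine ⟨ns, b, ns_um_b b⟩
    · refine ⟨ls (-(b / c)), c, ?_⟩
      rw [ls_um]
      congr 2
      field_simp
      ring
  · by_cases hc : c = 0
    · subst hc
      exact ⟨nr, -a, nr_um_a a⟩
    · refine ⟨lr (a / c), c, ?_⟩
      rw [lr_um]
      congr 2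
      field_simp
      ring

theorem zc {z s : G} (hz : z ∈ Zf f) (hs : s ∈ Sf f) : z * s = s * z := by
  obtain ⟨c, rfl⟩ := hz
  obtain ⟨a', b', c', rfl⟩ := hs
  exact commute_U f _ _ _ _ _ _ (by ring)

include hf in
theorem mul_zero_of_sq {a b c : F} (h : U f a b c * U f a b c = 1) : a * b = 0 := by
  rw [U_mul, char_two a, char_two b, char_two c, zero_add, ← U_one f] at h
  exact (U_inj hf h).2.2

include hf in
theorem inv_range [Finite G] : ∀ t ∈ f.range, orderOf t = 2 →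
    ∃ k ∈ f.range, ∀ s ∈ Sf f, (k * s * k⁻¹) * t = t * (k * s * k⁻¹) := by
  intro t ht h2
  have hp : IsPGroup 2 ↥(zpowers t) := by
    rw [IsPGroup.iff_card]
    exact ⟨1, by rw [Nat.card_zpowers, h2, pow_one]⟩
  obtain ⟨m, hm, hmt⟩ := (isSyl hf).conj_into hp (by rw [Subgroup.zpowers_le]; exact ht)
  obtain ⟨a, b, c, e⟩ := hmt t (Subgroup.mem_zpowers t)
  have hsq : U f a b c * U f a b c = 1 := by
    have h3 : t * t = 1 := by rw [← pow_two, ← h2, pow_orderOf_eq_one]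
    calc U f a b c * U f a b c = m * t * m⁻¹ * (m * t * m⁻¹) := by rw [e]
      _ = m * (t * t) * m⁻¹ := by group
      _ = 1 := by rw [h3]; group
  obtain ⟨g, c', hg⟩ := conj_Z a b c (mul_zero_of_sq hf hsq)
  have hg' : f (pr g) * U f a b c = U f 0 0 c' * f (pr g) := by
    unfold U
    rw [← map_mul, ← map_mul, ← map_mul, ← map_mul, hg]
  refine ⟨(f (pr g) * m)⁻¹, inv_mem (mul_mem ⟨_, rfl⟩ hm), ?_⟩
  intro s hs
  have hz := zc (Z_mem f c') hs
  have ht' : t = (f (pr g) * m)⁻¹ * U f 0 0 c' * (f (pr g) * m) := by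
    calc t = m⁻¹ * (m * t * m⁻¹) * m := by group
      _ = m⁻¹ * (f (pr g))⁻¹ * (f (pr g) * U f a b c) * m := by rw [e]; group
      _ = _ := by rw [hg']; group
  set k0 := f (pr g) * m
  rw [ht', inv_inv]
  calc k0⁻¹ * s * k0 * (k0⁻¹ * U f 0 0 c' * k0) = k0⁻¹ * (s * U f 0 0 c') * k0 := by group
    _ = k0⁻¹ * (U f 0 0 c' * s) * k0 := by rw [hz]
    _ = _ := by group

theorem gen_S : ∀ X : Subgroup G, (∀ e ∈ Sf f, orderOf e = 2 → ∀ k ∈ f.range, k * e = e * k → k ∈ X) →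
    (Function.Injective f → f.range ≤ X) := by
  intro X h hf
  have ord : ∀ a b : F, (a = 1 ∧ b = 0) ∨ (a = 0 ∧ b = 1) → orderOf (U f a b 0) = 2 := by
    intro a b hab
    apply orderOf_eq_prime
    · rw [pow_two, U_mul, char_two a, char_two b, ← U_one f]
      congr 1
      rcases hab with ⟨rfl, rfl⟩ | ⟨rfl, rfl⟩ <;> ring
    · rw [← U_one f]
      intro h0
      have h1 := U_inj hf h0
      rcases hab with ⟨rfl, rfl⟩ | ⟨rfl, rfl⟩
      · exact one_ne_zero h1.1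
      · exact one_ne_zero h1.2.1
  have hr := h _ (U_mem f 1 0 0) (ord 1 0 (Or.inl ⟨rfl, rfl⟩))
  have hs := h _ (U_mem f 0 1 0) (ord 0 1 (Or.inr ⟨rfl, rfl⟩))
  apply gen_range X
  · intro t
    apply hr _ ⟨_, rfl⟩
    unfold U
    rw [← map_mul, ← map_mul, ← map_mul, ← map_mul, lr_um, zero_mul, sub_zero]
  · intro t
    apply hs _ ⟨_, rfl⟩
    unfold U
    rw [← map_mul, ← map_mul, ← map_mul, ← map_mul, ls_um, mul_zero, add_zero]
  · intro t
    exact hr _ (Sf_le f (U_mem f _ _ _)) (commute_U f _ _ _ _ _ _ (by ring))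
  · intro t
    exact hs _ (Sf_le f (U_mem f _ _ _)) (commute_U f _ _ _ _ _ _ (by ring))
  · intro t
    exact hr _ (Sf_le f (U_mem f _ _ _)) (commute_U f _ _ _ _ _ _ (by ring))

theorem S_le_comm (h8 : 8 ≤ Nat.card F) : Sf f ≤ ⁅Sf f, Hf f⁆ := by
  obtain ⟨x, hx⟩ := exists_cube_ne h8
  have hx3 : (x : F) ^ 3 ≠ 1 := by
    intro h
    apply hx
    ext
    rw [Units.val_pow_eq_pow_val, h, Units.val_one]
  set y : Fˣ := (x ^ 2)⁻¹ with hy
  have hxy : x ^ 2 * y = 1 := by rw [hy, mul_inv_cancel]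
  have hH : Tm f x y ∈ Hf f := ⟨x, y, hxy, rfl⟩
  have e1 : ((x * y⁻¹ : Fˣ) : F) = (x : F) ^ 3 := by
    rw [hy, inv_inv, Units.val_mul, Units.val_pow_eq_pow_val]; ring
  have e2 : ((x * y ^ 2 : Fˣ) : F) = ((x : F) ^ 3)⁻¹ := by
    have h1 : x * y ^ 2 = (x ^ 3)⁻¹ := by
      rw [eq_inv_iff_mul_eq_one]
      calc x * y ^ 2 * x ^ 3 = (x ^ 2 * y) * (x ^ 2 * y) := by
            rw [show x ^ 3 = x ^ 2 * x from pow_succ x 2, pow_two y]
            calc x * (y * y) * (x ^ 2 * x) = x * x * y * (x ^ 2 * y) := by ac_rfl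
              _ = x ^ 2 * y * (x ^ 2 * y) := by rw [pow_two]
        _ = 1 := by rw [hxy, one_mul]
    rw [h1, Units.val_inv_eq_inv_val, Units.val_pow_eq_pow_val]
  have ha : ∀ a, U f a 0 0 ∈ ⁅Sf f, Hf f⁆ := by
    intro a
    have hne : (1 : F) - (x : F) ^ 3 ≠ 0 := sub_ne_zero.2 hx3.symm
    have h1 : ⁅U f (a / (1 - (x : F) ^ 3)) 0 0, Tm f x y⁆ ∈ ⁅Sf f, Hf f⁆ :=
      Subgroup.commutator_mem_commutator (U_mem f _ _ _) hH
    have h2 : ⁅U f (a / (1 - (x : F) ^ 3)) 0 0, Tm f x y⁆ = U f a 0 0 := by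
      rw [commutatorElement_def]
      have : U f (a / (1 - (x : F) ^ 3)) 0 0 * Tm f x y * (U f (a / (1 - (x : F) ^ 3)) 0 0)⁻¹ * (Tm f x y)⁻¹ =
          U f (a / (1 - (x : F) ^ 3)) 0 0 * (Tm f x y * U f (a / (1 - (x : F) ^ 3)) 0 0 * (Tm f x y)⁻¹)⁻¹ := by group
      rw [this, Tm_conj, e1, U_inv, U_mul]
      congr 1
      · field_simp
        ring
      · ring
      · ring
    rwa [h2] at h1
  have hb : ∀ a, U f 0 a 0 ∈ ⁅Sf f, Hf f⁆ := by
    intro a
    have hx3' : ((x : F) ^ 3)⁻¹ ≠ 1 := by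
      intro h
      exact hx3 (inv_eq_one.1 h)
    have hne : (1 : F) - ((x : F) ^ 3)⁻¹ ≠ 0 := sub_ne_zero.2 hx3'.symm
    have h1 : ⁅U f 0 (a / (1 - ((x : F) ^ 3)⁻¹)) 0, Tm f x y⁆ ∈ ⁅Sf f, Hf f⁆ :=
      Subgroup.commutator_mem_commutator (U_mem f _ _ _) hH
    have h2 : ⁅U f 0 (a / (1 - ((x : F) ^ 3)⁻¹)) 0, Tm f x y⁆ = U f 0 a 0 := by
      rw [commutatorElement_def]
      have : U f 0 (a / (1 - ((x : F) ^ 3)⁻¹)) 0 * Tm f x y * (U f 0 (a / (1 - ((x : F) ^ 3)⁻¹)) 0)⁻¹ * (Tm f x y)⁻¹ =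
          U f 0 (a / (1 - ((x : F) ^ 3)⁻¹)) 0 * (Tm f x y * U f 0 (a / (1 - ((x : F) ^ 3)⁻¹)) 0 * (Tm f x y)⁻¹)⁻¹ := by
        group
      rw [this, Tm_conj, e2, U_inv, U_mul]
      congr 1
      · ring
      · have h5 : a / (1 - ((x : F) ^ 3)⁻¹) + -(((x : F) ^ 3)⁻¹ * (a / (1 - ((x : F) ^ 3)⁻¹))) =
            (1 - ((x : F) ^ 3)⁻¹) * (a / (1 - ((x : F) ^ 3)⁻¹)) := by ring
        rw [h5, mul_div_cancel₀ _ hne]
      · ring
    rwa [h2] at h1
  have hc : ∀ a, U f 0 0 a ∈ ⁅Sf f, Hf f⁆ := by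
    intro a
    have h1 := mul_mem (mul_mem (mul_mem (ha a) (hb 1)) (inv_mem (ha a))) (inv_mem (hb 1))
    rw [comm_U] at h1
    have h2 : a * 1 - 0 * 0 = a := by ring
    rwa [h2] at h1
  rintro _ ⟨a, b, c, rfl⟩
  have h1 := mul_mem (mul_mem (ha a) (hb b)) (hc (c - a * b))
  rw [U_mul, U_mul] at h1
  have h2 : U f (a + 0 + 0) (0 + b + 0) (0 + 0 + a * b + (c - a * b) + (a + 0) * 0) = U f a b c := by
    congr 1 <;> ring
  rwa [h2] at h1

include hf in
theorem comm_range {A B : Subgroup G} (hA : IsPGroup 2 ↥A) (hAN : A ≤ normalizer (f.range : Set G))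
    (hBN : B ≤ normalizer (f.range : Set G)) (h : A ≤ ⁅A, B⁆) {a : G} (ha : a ∈ A) :
    ∃ k ∈ f.range, k⁻¹ * a ∈ centralizer (f.range : Set G) := by
  -- the elements acting as elements of `PGL_3`
  let D : Subgroup G :=
    { carrier := {x | ∃ C : Matrix.GeneralLinearGroup (Fin 3) F, Rel f x (lift (cj C))}
      one_mem' := ⟨1, by rw [map_one, map_one]; exact Rel.one⟩
      mul_mem' := by
        rintro x y ⟨C, hC⟩ ⟨C', hC'⟩
        exact ⟨C * C', by rw [map_mul, map_mul]; exact hC.mul hC'⟩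
      inv_mem' := by
        rintro x ⟨C, hC⟩
        exact ⟨C⁻¹, by rw [map_inv, map_inv]; exact hC.inv⟩ }
  have h1 : ⁅A, B⁆ ≤ D := by
    rw [Subgroup.commutator_le]
    intro x hx y hy
    obtain ⟨α, hα⟩ := exists_rel hf (hAN hx)
    obtain ⟨β, hβ⟩ := exists_rel hf (hBN hy)
    obtain ⟨C, hC⟩ := comm_pgl α β
    exact ⟨C, by rw [← hC]; exact hα.comm hβ⟩
  obtain ⟨C, hC⟩ := h1 (h ha)
  obtain ⟨k, hk⟩ := hA ⟨a, ha⟩
  have hk' : a ^ 2 ^ k = 1 := congrArg Subtype.val hk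
  have h2 : lift (cj C) ^ 2 ^ k = (1 : MulAut (Y3 F)) := by
    have h3 := hC.pow (2 ^ k)
    rw [hk'] at h3
    exact h3.ext hf Rel.one
  obtain ⟨y, hy⟩ := mem_Inn.1 (inner_of_two h2)
  rw [hy] at hC
  exact ⟨f y, ⟨y, rfl⟩, hC.mem_centralizer⟩

include hf in
theorem four_range {a b : G} (ha : a ∈ normalizer (f.range : Set G)) (hb : b ∈ normalizer (f.range : Set G))
    (ha2 : a * a = 1) (hb2 : b * b = 1) (hab : a * b = b * a)
    (hn : ∀ v, v = a ∨ v = b ∨ v = a * b → ∀ k ∈ f.range, k⁻¹ * v ∉ centralizer (f.range : Set G))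
    (za : ∀ z ∈ Zf f, a * z * a⁻¹ ∈ Zf f) (zb : ∀ z ∈ Zf f, b * z * b⁻¹ ∈ Zf f)
    (hc : ∀ v, v = a ∨ v = b ∨ v = a * b → (∀ z ∈ Zf f, v * z = z * v) →
      (∀ z ∈ Zf f, a * z = z * a) ∧ ∀ z ∈ Zf f, b * z = z * b) : False := by
  obtain ⟨α, hα⟩ := exists_rel hf ha
  obtain ⟨β, hβ⟩ := exists_rel hf hb
  have hαβ := hα.mul hβ
  have key : ∀ v γ, Rel f v γ → (∀ k ∈ f.range, k⁻¹ * v ∉ centralizer (f.range : Set G)) → γ ∉ Inn (Y3 F) := by
    intro v γ h h1 h2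
    obtain ⟨y, rfl⟩ := mem_Inn.1 h2
    exact h1 (f y) ⟨y, rfl⟩ h.mem_centralizer
  have hz : ∀ v γ, Rel f v γ → (∀ z ∈ Zf f, v * z * v⁻¹ ∈ Zf f) → ∀ c, ∃ c', γ (pr (um 0 0 c)) = pr (um 0 0 c') := by
    intro v γ h h1 c
    obtain ⟨c', hc'⟩ := h1 _ (Z_mem f c)
    refine ⟨c', hf ?_⟩
    rw [h]
    exact hc'
  have hfix : ∀ v γ, Rel f v γ → ((∀ z ∈ Zf f, v * z = z * v) ↔ ∀ c, γ (pr (um 0 0 c)) = pr (um 0 0 c)) := by
    intro v γ h
    constructor
    · intro h1 c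
      apply hf
      rw [h]
      have := h1 _ (Z_mem f c)
      unfold U at this
      rw [this, mul_inv_cancel_right]
    · rintro h1 _ ⟨c, rfl⟩
      have h2 := h (pr (um 0 0 c))
      rw [h1 c] at h2
      unfold U
      rw [eq_mul_inv_iff_mul_eq] at h2
      exact h2.symm
  refine no_four (a := α) (b := β) ?_ ?_ ?_ (key a α hα (hn a (Or.inl rfl))) (key b β hβ (hn b (Or.inr (Or.inl rfl))))
    (key _ _ hαβ (hn _ (Or.inr (Or.inr rfl)))) (hz a α hα za) (hz b β hβ zb) ?_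
  · have := hα.mul hα
    rw [ha2] at this
    exact this.ext hf Rel.one
  · have := hβ.mul hβ
    rw [hb2] at this
    exact this.ext hf Rel.one
  · have := hβ.mul hα
    rw [← hab] at this
    exact hαβ.ext hf this
  · intro γ hγ h1
    have h2 : ∃ v, (v = a ∨ v = b ∨ v = a * b) ∧ Rel f v γ := by
      rcases hγ with rfl | rfl | rfl
      · exact ⟨a, Or.inl rfl, hα⟩
      · exact ⟨b, Or.inr (Or.inl rfl), hβ⟩
      · exact ⟨_, Or.inr (Or.inr rfl), hαβ⟩
    obtain ⟨v, hv, hvγ⟩ := h2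
    obtain ⟨h3, h4⟩ := hc v hv ((hfix v γ hvγ).2 h1)
    exact ⟨(hfix a α hα).1 h3, (hfix b β hβ).1 h4⟩

include hf in
/-- **the facts on `K`** -/
theorem fr [Finite G] (h8 : 8 ≤ Nat.card F)
    (hctr : ∀ k ∈ f.range, k ∈ centralizer (f.range : Set G) → k = 1) : Fr f.range (Sf f) (Zf f) (Hf f) where
  SK := Sf_le f
  ZS := Zf_le f
  HK := (Hf_le f).trans (Tf_le f)
  syl := isSyl hf
  ctr := hctr
  zc := fun z hz s hs => zc hz hs
  z2 := by
    rintro _ ⟨c, rfl⟩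
    rw [U_mul, char_two c, ← U_one f]
    congr 1 <;> ring
  cm := by
    rintro _ ⟨a, b, c, rfl⟩ _ ⟨a', b', c', rfl⟩
    rw [comm_U]
    exact Z_mem f _
  on := by
    rintro _ ⟨a, b, c, rfl⟩ hn _ ⟨z, rfl⟩
    rw [U_mem_Z hf] at hn
    by_cases ha : a = 0
    · subst ha
      have hb : b ≠ 0 := fun hb => hn ⟨rfl, hb⟩
      refine ⟨U f (-(z / b)) 0 0, U_mem f _ _ _, ?_⟩
      rw [comm_U]
      congr 1
      field_simp
      ring
    · refine ⟨U f 0 (z / a) 0, U_mem f _ _ _, ?_⟩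
      rw [comm_U]
      congr 1
      field_simp
      ring
  ne := ⟨U f 0 0 1, Z_mem f 1, fun h => by
    rw [← U_one f] at h
    exact one_ne_zero (U_inj hf h).2.2⟩
  zne := ⟨U f 1 0 0, U_mem f _ _ _, fun h => by
    rw [U_mem_Z hf] at h
    exact one_ne_zero h.1⟩
  hz := by
    rintro _ ⟨x, y, hxy, rfl⟩ _ ⟨c, rfl⟩
    rw [Tm_U, hxy]
    congr 2 <;> simp
  hs := by
    rintro _ ⟨x, y, hxy, rfl⟩ _ ⟨a, b, c, rfl⟩
    rw [Tm_conj]
    exact U_mem f _ _ _
  sh := S_le_comm h8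
  F1 := by
    intro y hy h
    obtain ⟨c, hc⟩ := K1 hf hy (fun a b c => h _ (U_mem f a b c))
    exact ⟨_, Z_mem f c, hc⟩
  O := fun A B hA hAN hBN h a ha => comm_range hf hA hAN hBN h ha
  inv := inv_range hf
  V := fun a b ha hb ha2 hb2 hab hn za zb hc => four_range hf ha hb ha2 hb2 hab hn za zb hc
  gen := fun X h => gen_S X h hf

end sylow

end Cfsg.Agent.OddHalf.D4.L3
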