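import Mathlib
import Cfsg.Agent.OddHalf.D4.L3.Frame
import Cfsg.Agent.OddHalf.D4.FullPair

/-!
# ODD, D4, row `L_3(2^a)`: the element `x`

`Sit K S Z H Q E x` : `E` is a 2-group with `Q S ≤ E ≤ N(K)`, `x` normalises `E` and not `K`.
* `Sit.one` : if `S ∩ Q^x = 1` then `S^x = S` and `Q^x ≤ Q Z`;
* `Sit.two` : `S ∩ Q^x ≠ 1 ≠ S^x ∩ Q` is impossible;
* **`Sit.main`** : some `y` normalises `S` with `Q^y ≤ Q Z`, `y ∉ N(K)`.
-/

set_option autoImplicit false
set_option linter.unusedSectionVars false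

namespace Cfsg.Agent.OddHalf.D4.L3

open Cfsg.Agent.OddHalf.D4.Basic Cfsg.Agent.OddHalf.D4
open Cfsg.Agent.OddHalf.D4.CommConj (Tight cj mem_cj cj_mul card_cj cj_eq_of_mem_normalizer mem_normalizer_of_cj_eq
  mem_cj_mul)
open Subgroup (normalizer centralizer mem_centralizer_iff mem_normalizer_iff zpowers)
open scoped commutatorElement

variable {G : Type*} [Group G]

/-- a 2-element of `C` normalizing the Sylow subgroup `Q` of `C` lies in `Q` -/
theorem mem_of_syl [Finite G] {C Q : Subgroup G} (hQ : IsSyl Q C) {c : G} (hc : c ∈ C) (hc2 : ∃ k : ℕ, c ^ 2 ^ k = 1)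
    (hn : ∀ q ∈ Q, c * q * c⁻¹ ∈ Q) : c ∈ Q := by
  have h1 : IsPGroup 2 ↥(zpowers c) := by
    obtain ⟨k, hk⟩ := hc2
    rw [IsPGroup.iff_card]
    obtain ⟨m, -, hm⟩ := (Nat.dvd_prime_pow Nat.prime_two).mp (orderOf_dvd_of_pow_eq_one hk)
    exact ⟨m, by rw [Nat.card_zpowers, hm]⟩
  have h2 : zpowers c ≤ normalizer (Q : Set G) := by
    rw [Subgroup.zpowers_le]
    exact Subgroup.mem_normalizer_fintype hn
  exact hQ.max _ (hQ.two.to_sup_of_normal_left' h1 h2) le_sup_left (sup_le hQ.le (by rwa [Subgroup.zpowers_le]))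
    (Subgroup.mem_sup_right (Subgroup.mem_zpowers c))

/-- The situation. -/
structure Sit (K S Z H Q E : Subgroup G) (x : G) : Prop where
  fr : ∀ g : G, Fr (cj g K) (cj g S) (cj g Z) (cj g H)
  simple : IsSimpleGroup ↥K
  tight : TightAt K
  ncm : ∀ g : G, g ∉ normalizer (K : Set G) → ¬ ∀ a ∈ K, ∀ b ∈ cj g K, a * b = b * a
  two : IsPGroup 2 ↥E
  leN : E ≤ normalizer (K : Set G)
  SE : S ≤ E
  QE : Q ≤ E
  sylQ : IsSyl Q (centralizer (K : Set G))
  Qne : Q ≠ ⊥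
  xN : cj x E = E
  xM : x ∉ normalizer (K : Set G)

theorem cj_one (K : Subgroup G) : cj 1 K = K := by
  ext y; rw [mem_cj]; simp

theorem cj_mono' {g : G} {A B : Subgroup G} (h : A ≤ B) : cj g A ≤ cj g B := Subgroup.map_mono h

theorem cj_inf (g : G) (A B : Subgroup G) : cj g (A ⊓ B) = cj g A ⊓ cj g B := by
  ext y; rw [mem_cj, Subgroup.mem_inf, Subgroup.mem_inf, mem_cj, mem_cj]

namespace Sit

variable {K S Z H Q E : Subgroup G} {x : G}

theorem fr1 (T : Sit K S Z H Q E x) : Fr K S Z H := by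
  have := T.fr 1
  simpa only [cj_one] using this

theorem conj (T : Sit K S Z H Q E x) : Sit (cj x K) (cj x S) (cj x Z) (cj x H) (cj x Q) E x⁻¹ where
  fr := by
    intro g
    rw [← cj_mul, ← cj_mul, ← cj_mul, ← cj_mul]
    exact T.fr _
  simple := by
    have := T.simple
    exact (K.equivMapOfInjective _ (MulAut.conj x).injective).isSimpleGroup_congr.1 this
  tight := T.tight.cj x
  ncm := by
    intro g hg h
    rw [normalizer_cj, mem_cj] at hg
    apply T.ncm (x⁻¹ * g * x) hg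
    intro a ha b hb
    rw [mem_cj] at hb
    have h1 := h (x * a * x⁻¹) (mem_cj_mul ha) (x * b * x⁻¹) (by
      rw [mem_cj, mem_cj]
      have e : x⁻¹ * (g⁻¹ * (x * b * x⁻¹) * g) * x = (x⁻¹ * g * x)⁻¹ * b * (x⁻¹ * g * x) := by group
      rw [e]; exact hb)
    calc a * b = x⁻¹ * ((x * a * x⁻¹) * (x * b * x⁻¹)) * x := by group
      _ = x⁻¹ * ((x * b * x⁻¹) * (x * a * x⁻¹)) * x := by rw [h1]
      _ = b * a := by group
  two := T.two
  leN := by
    rw [normalizer_cj, ← T.xN]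
    exact cj_mono' T.leN
  SE := by
    conv_rhs => rw [← T.xN]
    exact cj_mono' T.SE
  QE := by
    conv_rhs => rw [← T.xN]
    exact cj_mono' T.QE
  sylQ := by
    rw [centralizer_cj]
    exact T.sylQ.cj x
  Qne := by
    intro h
    apply T.Qne
    have h1 := card_cj x Q
    rw [h, Subgroup.card_bot] at h1
    exact Subgroup.card_eq_one.1 h1.symm
  xN := by
    conv_lhs => rw [← T.xN]
    exact cj_inv_cj x E
  xM := by
    intro h
    rw [normalizer_cj, mem_cj] at h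
    apply T.xM
    have h2 := inv_mem h
    have e : (x⁻¹ * x⁻¹ * x)⁻¹ = x := by group
    rwa [e] at h2

theorem inv (T : Sit K S Z H Q E x) : Sit K S Z H Q E x⁻¹ :=
  { T with
    xN := by
      conv_lhs => rw [← T.xN]
      exact cj_inv_cj x E
    xM := by
      intro h
      apply T.xM
      have h2 := inv_mem h
      rwa [inv_inv] at h2 }

variable [Finite G]

/-- `E ∩ K = S` -/
theorem mem_S (T : Sit K S Z H Q E x) {k : G} (hk : k ∈ K) (hE : k ∈ E) : k ∈ S :=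
  T.fr1.syl.max (E ⊓ K) (T.two.to_le inf_le_left) (le_inf T.SE T.fr1.SK) inf_le_right ⟨hE, hk⟩

/-- `E ∩ C(K) = Q` -/
theorem mem_Q (T : Sit K S Z H Q E x) {k : G} (hk : k ∈ centralizer (K : Set G)) (hE : k ∈ E) : k ∈ Q :=
  T.sylQ.max (E ⊓ centralizer (K : Set G)) (T.two.to_le inf_le_left) (le_inf T.QE T.sylQ.le) inf_le_right ⟨hE, hk⟩

/-- the components of an element of `E` -/
theorem dec (T : Sit K S Z H Q E x) {s k : G} (hs : s ∈ E) (hk : k ∈ K) (hc : k⁻¹ * s ∈ centralizer (K : Set G)) :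
    k ∈ S ∧ k⁻¹ * s ∈ Q := by
  have hcomm : ∀ c ∈ centralizer (K : Set G), ∀ y ∈ K, y * c = c * y := fun c hc y hy => mem_centralizer_iff.1 hc y hy
  have h1 : k ∈ S := by
    apply mem_of_syl T.fr1.syl hk
    · obtain ⟨n, hn⟩ := T.two ⟨s, hs⟩
      have hn' : s ^ 2 ^ n = 1 := congrArg Subtype.val hn
      refine ⟨n, ?_⟩
      have h2 : Commute k (k⁻¹ * s) := hcomm _ hc k hk
      have h3 : k ^ 2 ^ n * (k⁻¹ * s) ^ 2 ^ n = 1 := by
        rw [← h2.mul_pow, mul_inv_cancel_left, hn']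
      have h4 : k ^ 2 ^ n ∈ centralizer (K : Set G) := by
        have h5 : k ^ 2 ^ n = ((k⁻¹ * s) ^ 2 ^ n)⁻¹ := eq_inv_of_mul_eq_one_left h3
        rw [h5]
        exact inv_mem (pow_mem hc _)
      exact T.fr1.ctr _ (pow_mem hk _) h4
    · intro q hq
      -- `k q k⁻¹ = s q s⁻¹`
      have h2 := hcomm _ hc q (T.fr1.SK hq)
      have h3 : k * q * k⁻¹ = s * q * s⁻¹ := by
        calc k * q * k⁻¹ = k * (q * (k⁻¹ * s)) * s⁻¹ := by group
          _ = k * ((k⁻¹ * s) * q) * s⁻¹ := by rw [h2]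
          _ = _ := by group
      rw [h3]
      apply T.mem_S
      · exact (mem_normalizer_iff.1 (T.leN hs) q).1 (T.fr1.SK hq)
      · exact mul_mem (mul_mem hs (T.SE hq)) (inv_mem hs)
  exact ⟨h1, T.mem_Q hc (mul_mem (inv_mem (T.SE h1)) hs)⟩

/-- an involution of `C(K)` does not centralise `K^x` -/
theorem noInv (T : Sit K S Z H Q E x) {k : G} (hk : k ∈ centralizer (K : Set G))
    (hk' : k ∈ centralizer ((cj x K : Subgroup G) : Set G)) : orderOf k ≠ 2 := fun h2 => T.xM (T.tight.eq hk h2 hk')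

theorem eq_one (T : Sit K S Z H Q E x) {k : G} (hk : k ∈ centralizer (K : Set G))
    (hk' : k ∈ centralizer ((cj x K : Subgroup G) : Set G)) (hE : k ∈ E) : k = 1 := by
  by_contra hne
  obtain ⟨n, hn⟩ := CommConj.exists_pow_involution T.two hE hne
  exact T.noInv (pow_mem hk n) (pow_mem hk' n) hn

/-- elements of `E` -/
theorem comm_mem (T : Sit K S Z H Q E x) {s u : G} (hs : s ∈ S) (hu : u ∈ cj x Q) :
    s * u * s⁻¹ * u⁻¹ ∈ S ∧ s * u * s⁻¹ * u⁻¹ ∈ cj x Q := by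
  have T' := T.conj
  have hsE := T.SE hs
  have huE := T'.QE hu
  have h := commutator_mem (K := K) (L := cj x K) (T.fr1.SK hs) (T'.leN hsE) (T'.sylQ.le hu) (T.leN huE)
  have hE : s * u * s⁻¹ * u⁻¹ ∈ E := mul_mem (mul_mem (mul_mem hsE huE) (inv_mem hsE)) (inv_mem huE)
  exact ⟨T.mem_S h.1 hE, T'.mem_Q h.2 hE⟩

/-- **the first case** -/
theorem one (T : Sit K S Z H Q E x) (h0 : S ⊓ cj x Q = ⊥) :
    cj x S = S ∧ ∀ u ∈ cj x Q, ∃ z ∈ Z, z⁻¹ * u ∈ Q := by
  have T' := T.conj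
  have h1 : ∀ u ∈ cj x Q, ∃ z ∈ Z, z⁻¹ * u ∈ Q := by
    intro u hu
    have huE := T'.QE hu
    obtain ⟨z, hz, hc⟩ := T.fr1.F1 u (T.leN huE) (by
      intro s hs
      have h2 := T.comm_mem hs hu
      have h3 : s * u * s⁻¹ * u⁻¹ ∈ S ⊓ cj x Q := h2
      rw [h0, Subgroup.mem_bot] at h3
      calc u * s = (s * u * s⁻¹ * u⁻¹)⁻¹ * (s * u) := by group
        _ = s * u := by rw [h3]; group)
    exact ⟨z, hz, T.mem_Q hc (mul_mem (inv_mem (T.SE (T.fr1.ZS hz))) huE)⟩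
  refine ⟨?_, h1⟩
  -- `H` centralises `Q^x`
  have h2 : ∀ h ∈ H, ∀ u ∈ cj x Q, h * u = u * h := by
    intro h hh u hu
    obtain ⟨z, hz, hq⟩ := h1 u hu
    have e1 := T.fr1.hz h hh z hz
    have e2 := mem_centralizer_iff.1 (T.sylQ.le hq) h (T.fr1.HK hh)
    calc h * u = (h * z) * (z⁻¹ * u) := by group
      _ = z * (h * (z⁻¹ * u)) := by rw [e1]; group
      _ = u * h := by rw [e2]; group
  obtain ⟨u0, hu0, hu02⟩ := exists_invol_of_two T'.sylQ.two T'.Qne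
  have h3 : H ≤ normalizer ((cj x K : Subgroup G) : Set G) := fun h hh =>
    T'.tight.mem (T'.sylQ.le hu0) hu02 (h2 h hh u0 hu0)
  have h4 : S ≤ cj x S := by
    refine T.fr1.sh.trans ?_
    rw [Subgroup.commutator_le]
    intro s hs h hh
    obtain ⟨l, hl, hd⟩ := T'.fr1.O S H (T.two.to_le T.SE) (T.SE.trans T'.leN) h3 T.fr1.sh s hs
    obtain ⟨hl', hd'⟩ := T'.dec (T.SE hs) hl hd
    have e1 := h2 h hh _ hd'
    have e2 : ⁅s, h⁆ = l * (h * l * h⁻¹)⁻¹ := by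
      rw [commutatorElement_def]
      calc s * h * s⁻¹ * h⁻¹ = l * ((l⁻¹ * s) * h) * (l⁻¹ * s)⁻¹ * l⁻¹ * h⁻¹ := by group
        _ = l * (h * (l⁻¹ * s)) * (l⁻¹ * s)⁻¹ * l⁻¹ * h⁻¹ := by rw [e1]
        _ = _ := by group
    have hE : ⁅s, h⁆ ∈ E := by
      rw [commutatorElement_def]
      have : s * h * s⁻¹ * h⁻¹ = s * (h * s * h⁻¹)⁻¹ := by group
      rw [this]
      exact mul_mem (T.SE hs) (inv_mem (T.SE (T.fr1.hs h hh s hs)))
    apply T'.mem_S _ hE
    rw [e2]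
    have h5 : h * l * h⁻¹ ∈ cj x K := (mem_normalizer_iff.1 (h3 hh) l).1 hl
    exact (cj x K).mul_mem hl ((cj x K).inv_mem h5)
  exact (Subgroup.eq_of_le_of_card_ge h4 (card_cj x S).le).symm

/-- one half of the second case -/
theorem half (T : Sit K S Z H Q E x) (h0 : S ⊓ cj x Q ≠ ⊥) :
    ∃ z0 ∈ Z, z0 ∈ cj x Q ∧ z0 ≠ 1 ∧ H ≤ normalizer ((cj x K : Subgroup G) : Set G) ∧
      ∀ s ∈ S, ∃ l ∈ cj x S, l⁻¹ * s ∈ cj x Q := by
  have T' := T.conj
  obtain ⟨z0, hz0, hz2, hzc⟩ := exists_central_invol (T := S) (N := S ⊓ cj x Q) (T.two.to_le T.SE) inf_le_left h0 (by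
    intro s hs n hn
    have h1 := (T.comm_mem hs hn.2).2
    refine ⟨S.mul_mem (S.mul_mem hs hn.1) (S.inv_mem hs), ?_⟩
    have e : s * n * s⁻¹ = (s * n * s⁻¹ * n⁻¹) * n := by group
    rw [e]
    exact mul_mem h1 hn.2)
  have hz1 : z0 ≠ 1 := by
    rintro rfl
    rw [orderOf_one] at hz2
    omega
  have hzZ : z0 ∈ Z := by
    by_contra hn
    obtain ⟨z, hz, hzne⟩ := T.fr1.ne
    obtain ⟨t, ht, e⟩ := T.fr1.on z0 hz0.1 hn z hz
    apply hzne
    rw [← e, ← hzc t ht]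
    group
  have h3 : H ≤ normalizer ((cj x K : Subgroup G) : Set G) := fun h hh =>
    T'.tight.mem (T'.sylQ.le hz0.2) hz2 (T.fr1.hz h hh z0 hzZ)
  refine ⟨z0, hzZ, hz0.2, hz1, h3, ?_⟩
  intro s hs
  obtain ⟨l, hl, hd⟩ := T'.fr1.O S H (T.two.to_le T.SE) (T.SE.trans T'.leN) h3 T.fr1.sh s hs
  obtain ⟨hl', hd'⟩ := T'.dec (T.SE hs) hl hd
  exact ⟨l, hl', hd'⟩

/-- commutators -/
theorem comm_left {a c s : G} (h1 : c * s = s * c) : (a * c) * s * (a * c)⁻¹ * s⁻¹ = a * s * a⁻¹ * s⁻¹ := by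
  calc (a * c) * s * (a * c)⁻¹ * s⁻¹ = a * (c * s) * c⁻¹ * a⁻¹ * s⁻¹ := by group
    _ = _ := by rw [h1]; group

/-- if both intersections are nontrivial then `S^x ≤ Z Q` -/
theorem S_le (T : Sit K S Z H Q E x) (h0 : S ⊓ cj x Q ≠ ⊥)
    (hl : ∀ l ∈ cj x S, ∃ k ∈ S, k⁻¹ * l ∈ Q) : ∀ l ∈ cj x S, ∃ k ∈ Z, k⁻¹ * l ∈ Q := by
  have T' := T.conj
  obtain ⟨z0, hz0, hz0', hz1, -, hdec⟩ := T.half h0
  intro l hl0
  obtain ⟨k, hk, hc⟩ := hl l hl0
  refine ⟨k, ?_, hc⟩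
  by_contra hn
  obtain ⟨s, hs, e⟩ := T.fr1.on k hk hn z0 hz0
  -- `[l, s] = z0`
  have hcs : (k⁻¹ * l) * s = s * (k⁻¹ * l) := (mem_centralizer_iff.1 (T.sylQ.le hc) s (T.fr1.SK hs)).symm
  have e1 : l * s * l⁻¹ * s⁻¹ = z0 := by
    have h1 := comm_left (a := k) (c := k⁻¹ * l) (s := s) hcs
    rw [mul_inv_cancel_left] at h1
    rw [h1, e]
  -- `[l, s] ∈ L`
  obtain ⟨l', hl', hd⟩ := hdec s hs
  have hdl : (l'⁻¹ * s) * l = l * (l'⁻¹ * s) := (mem_centralizer_iff.1 (T'.sylQ.le hd) l (T'.fr1.SK hl0)).symm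
  have e2 : s * l * s⁻¹ * l⁻¹ = l' * l * l'⁻¹ * l⁻¹ := by
    have h1 := comm_left (a := l') (c := l'⁻¹ * s) (s := l) hdl
    rw [mul_inv_cancel_left] at h1
    exact h1
  have e3 : z0 = (l' * l * l'⁻¹ * l⁻¹)⁻¹ := by
    rw [← e2, ← e1]; group
  have h4 : z0 ∈ cj x K := by
    rw [e3]
    have hlK := T'.fr1.SK hl0
    have hlK' := T'.fr1.SK hl'
    exact inv_mem (mul_mem (mul_mem (mul_mem hlK' hlK) (inv_mem hlK')) (inv_mem hlK))
  exact hz1 (T'.fr1.ctr z0 h4 (T'.sylQ.le hz0'))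

/-- **the second case** -/
theorem two_case (T : Sit K S Z H Q E x) (h0 : S ⊓ cj x Q ≠ ⊥) (h1 : cj x S ⊓ Q ≠ ⊥) : False := by
  have T' := T.conj
  have h1' : cj x S ⊓ cj x⁻¹ (cj x Q) ≠ ⊥ := by rw [cj_inv_cj]; exact h1
  obtain ⟨z0, hz0, hz0', hz01, hHN, hdec⟩ := T.half h0
  obtain ⟨z1, hz1, hz1', hz11, hHN', hdec'⟩ := T'.half h1'
  rw [cj_inv_cj] at hz1'
  simp only [cj_inv_cj] at hdec'
  -- both Sylow subgroups
  have hSL := T.S_le h0 hdec'
  have hLS : ∀ s ∈ S, ∃ l ∈ cj x Z, l⁻¹ * s ∈ cj x Q := by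
    have h2 := T'.S_le h1' (by simp only [cj_inv_cj]; exact hdec)
    simp only [cj_inv_cj] at h2
    exact h2
  -- `Z^x ≤ Q`
  have hZQ : cj x Z ≤ Q := by
    intro z hz
    obtain ⟨s, hs, hsn⟩ := T'.fr1.zne
    obtain ⟨t, ht, e⟩ := T'.fr1.on s hs hsn z hz
    obtain ⟨a, ha, hac⟩ := hSL s hs
    obtain ⟨b, hb, hbc⟩ := hSL t ht
    have haS := T.fr1.ZS ha
    have hbS := T.fr1.ZS hb
    set c := a⁻¹ * s with hcdef
    set d := b⁻¹ * t with hddef
    have es : s = a * c := by rw [hcdef]; group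
    have et : t = b * d := by rw [hddef]; group
    have hab : a * b = b * a := T.fr1.zc a ha b hbS
    have hcK : ∀ y ∈ K, y * c = c * y := fun y hy => mem_centralizer_iff.1 (T.sylQ.le hac) y hy
    have hdK : ∀ y ∈ K, y * d = d * y := fun y hy => mem_centralizer_iff.1 (T.sylQ.le hbc) y hy
    have ha1 := hdK a (T.fr1.SK haS)
    have hb1 := hcK b (T.fr1.SK hbS)
    have e2 : s * t * s⁻¹ * t⁻¹ = c * d * c⁻¹ * d⁻¹ := by
      have hst : s * t = (a * b) * (c * d) := by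
        rw [es, et]
        calc a * c * (b * d) = a * (c * b) * d := by group
          _ = a * (b * c) * d := by rw [hb1]
          _ = _ := by group
      have hts : t * s = (a * b) * (d * c) := by
        rw [es, et, hab]
        calc b * d * (a * c) = b * (d * a) * c := by group
          _ = b * (a * d) * c := by rw [ha1]
          _ = _ := by group
      calc s * t * s⁻¹ * t⁻¹ = (s * t) * (t * s)⁻¹ := by group
        _ = (a * b) * (c * d) * ((a * b) * (d * c))⁻¹ := by rw [hst, hts]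
        _ = (a * b) * (c * d * c⁻¹ * d⁻¹) * (a * b)⁻¹ := by group
        _ = c * d * c⁻¹ * d⁻¹ := by
          have h3 : c * d * c⁻¹ * d⁻¹ ∈ centralizer (K : Set G) := by
            have x1 := T.sylQ.le hac
            have x2 := T.sylQ.le hbc
            exact mul_mem (mul_mem (mul_mem x1 x2) (inv_mem x1)) (inv_mem x2)
          rw [mem_centralizer_iff.1 h3 (a * b) (mul_mem (T.fr1.SK haS) (T.fr1.SK hbS))]
          group
    rw [← e, e2]
    exact mul_mem (mul_mem (mul_mem hac hbc) (inv_mem hac)) (inv_mem hbc)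
  -- `S ≤ C(L)`
  have hSC : S ≤ centralizer ((cj x K : Subgroup G) : Set G) := by
    refine T.fr1.sh.trans ?_
    rw [Subgroup.commutator_le]
    intro s hs h hh
    obtain ⟨l, hl, hd⟩ := hLS s hs
    have hlh : h * l = l * h := mem_centralizer_iff.1 (T.sylQ.le (hZQ hl)) h (T.fr1.HK hh)
    have hd' := T'.sylQ.le hd
    set d := l⁻¹ * s with hddef
    have es : s = l * d := by rw [hddef]; group
    have h5 : d * (h * d * h⁻¹)⁻¹ ∈ centralizer ((cj x K : Subgroup G) : Set G) := by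
      apply mul_mem hd'
      apply inv_mem
      rw [mem_centralizer_iff]
      intro y hy
      have h6 : h⁻¹ * y * h ∈ cj x K := by
        have := (mem_normalizer_iff.1 (inv_mem (hHN hh)) y).1 hy
        rwa [inv_inv] at this
      have h7 := mem_centralizer_iff.1 hd' _ h6
      calc y * (h * d * h⁻¹) = h * ((h⁻¹ * y * h) * d) * h⁻¹ := by group
        _ = h * (d * (h⁻¹ * y * h)) * h⁻¹ := by rw [h7]
        _ = h * d * h⁻¹ * y := by group
    have e3 : ⁅s, h⁆ = d * (h * d * h⁻¹)⁻¹ := by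
      rw [commutatorElement_def, es]
      have h8 := mem_centralizer_iff.1 h5 l (T'.fr1.SK (T'.fr1.ZS hl))
      calc l * d * h * (l * d)⁻¹ * h⁻¹ = l * (d * (h * d * h⁻¹)⁻¹) * (h * l⁻¹ * h⁻¹) := by group
        _ = (d * (h * d * h⁻¹)⁻¹) * l * (h * l⁻¹ * h⁻¹) := by rw [h8]
        _ = (d * (h * d * h⁻¹)⁻¹) * l * (h * l * h⁻¹)⁻¹ := by group
        _ = (d * (h * d * h⁻¹)⁻¹) := by rw [hlh]; group
    rw [e3]
    exact h5
  -- `K ≤ N(L)`
  have hKN : K ≤ normalizer ((cj x K : Subgroup G) : Set G) := by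
    apply T.fr1.gen
    intro e he he2 k _ hke
    exact T'.tight.mem (hSC he) he2 hke
  -- `K ≤ C(L)`
  have hKC : K ≤ centralizer ((cj x K : Subgroup G) : Set G) := by
    have hn : ((centralizer ((cj x K : Subgroup G) : Set G)).subgroupOf K).Normal := by
      refine ⟨?_⟩
      intro n hn g
      rw [Subgroup.mem_subgroupOf] at hn ⊢
      rw [mem_centralizer_iff] at hn ⊢
      intro y hy
      have h6 : (g : G)⁻¹ * y * g ∈ cj x K := by
        have := (mem_normalizer_iff.1 (inv_mem (hKN g.2)) y).1 hy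
        rwa [inv_inv] at this
      have h7 := hn _ h6
      show y * ((g : G) * n * (g : G)⁻¹) = (g : G) * n * (g : G)⁻¹ * y
      calc y * ((g : G) * n * (g : G)⁻¹) = g * (((g : G)⁻¹ * y * g) * n) * (g : G)⁻¹ := by group
        _ = g * (n * ((g : G)⁻¹ * y * g)) * (g : G)⁻¹ := by rw [h7]
        _ = (g : G) * n * (g : G)⁻¹ * y := by group
    have := T.simple
    rcases hn.eq_bot_or_eq_top with h | h
    · exfalso
      have h2 : (⟨z0, T.fr1.SK (T.fr1.ZS hz0)⟩ : ↥K) ∈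
          (centralizer ((cj x K : Subgroup G) : Set G)).subgroupOf K := by
        rw [Subgroup.mem_subgroupOf]
        exact hSC (T.fr1.ZS hz0)
      rw [h, Subgroup.mem_bot] at h2
      exact hz01 (congrArg Subtype.val h2)
    · exact Subgroup.subgroupOf_eq_top.1 h
  exact T.ncm x T.xM fun a ha b hb => (mem_centralizer_iff.1 (hKC ha) b hb).symm

/-- **the conclusion of (B)** -/
theorem main (T : Sit K S Z H Q E x) : ∃ y : G, y ∉ normalizer (K : Set G) ∧ cj y S = S ∧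
    ∀ u ∈ cj y Q, ∃ z ∈ Z, z⁻¹ * u ∈ Q := by
  by_cases h0 : S ⊓ cj x Q = ⊥
  · obtain ⟨h1, h2⟩ := T.one h0
    exact ⟨x, T.xM, h1, h2⟩
  · by_cases h1 : cj x S ⊓ Q = ⊥
    · have h2 : S ⊓ cj x⁻¹ Q = ⊥ := by
        have h3 := congrArg (cj x⁻¹) h1
        rw [cj_inf, cj_inv_cj] at h3
        rw [h3]
        ext y
        rw [mem_cj, Subgroup.mem_bot, Subgroup.mem_bot]
        constructor
        · intro h
          have : y = x⁻¹ * (x⁻¹⁻¹ * y * x⁻¹) * x := by group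
          rw [this, h]; group
        · rintro rfl
          group
      obtain ⟨h3, h4⟩ := T.inv.one h2
      exact ⟨x⁻¹, T.inv.xM, h3, h4⟩
    · exact (T.two_case h0 h1).elim

end Sit

end Cfsg.Agent.OddHalf.D4.L3
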