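import Mathlib
import Cfsg.Agent.OddHalf.D4.L3.PartB
import Cfsg.Agent.OddHalf.D4.Exists

/-!
# ODD, D4, row `L_3(2^a)`: from a full pair to the situation of (B)

**`exists_sit`** : a full pair gives `Sit K (S^k) (Z^k) (H^k) Q E x` for some `k ∈ K`.
-/

set_option autoImplicit false
set_option linter.unusedSectionVars false

namespace Cfsg.Agent.OddHalf.D4.L3

open Cfsg.Agent.OddHalf.D4.Basic Cfsg.Agent.OddHalf.D4
open Cfsg.Agent.OddHalf.D4.CommConj (Tight cj mem_cj cj_mul card_cj cj_eq_of_mem_normalizer mem_normalizer_of_cj_eq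
  mem_cj_mul exists_norm_elt)
open Subgroup (normalizer centralizer mem_centralizer_iff mem_normalizer_iff zpowers)
open scoped commutatorElement

variable {G : Type*} [Group G]

theorem Fr.mem_Z_of_comm {K S Z H : Subgroup G} (T : Fr K S Z H) {s : G} (hs : s ∈ S) (h : ∀ t ∈ S, s * t = t * s) : s ∈ Z := by
  by_contra hn
  obtain ⟨z, hz, hzne⟩ := T.ne
  obtain ⟨t, ht, e⟩ := T.on s hs hn z hz
  apply hzne
  rw [← e, h t ht]
  group

/-- what normalises `S` normalises `Z` -/
theorem Fr.norm_Z {K S Z H : Subgroup G} (T : Fr K S Z H) {v : G} (h : ∀ s ∈ S, v * s * v⁻¹ ∈ S)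
    (h' : ∀ s ∈ S, v⁻¹ * s * v ∈ S) : ∀ z ∈ Z, v * z * v⁻¹ ∈ Z := by
  intro z hz
  apply T.mem_Z_of_comm (h z (T.ZS hz))
  intro t ht
  have h1 := T.zc z hz _ (h' t ht)
  calc v * z * v⁻¹ * t = v * (z * (v⁻¹ * t * v)) * v⁻¹ := by group
    _ = v * ((v⁻¹ * t * v) * z) * v⁻¹ := by rw [h1]
    _ = t * (v * z * v⁻¹) := by group

/-- two commuting involutions generate a 2-group -/
theorem isPGroup_two [Finite G] {a b : G} (ha : orderOf a = 2) (hb : orderOf b = 2) (hab : a * b = b * a) :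
    IsPGroup 2 ↥(zpowers a ⊔ zpowers b) := by
  have h1 : IsPGroup 2 ↥(zpowers a) := by
    rw [IsPGroup.iff_card]; exact ⟨1, by rw [Nat.card_zpowers, ha, pow_one]⟩
  have h2 : IsPGroup 2 ↥(zpowers b) := by
    rw [IsPGroup.iff_card]; exact ⟨1, by rw [Nat.card_zpowers, hb, pow_one]⟩
  apply h1.to_sup_of_normal_left' h2
  rw [Subgroup.zpowers_le, mem_normalizer_iff]
  intro x
  have h3 : ∀ y ∈ zpowers a, b * y * b⁻¹ = y := by
    intro y hy
    obtain ⟨n, rfl⟩ := Subgroup.mem_zpowers_iff.1 hy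
    have : Commute b (a ^ n) := (show Commute b a from hab.symm).zpow_right n
    rw [this.eq]; group
  constructor
  · intro hx
    rw [h3 x hx]; exact hx
  · intro hx
    have h4 := h3 _ hx
    have h5 : b * (b * x * b⁻¹) * b⁻¹ = b * x * b⁻¹ := h4
    have h6 : b * x * b⁻¹ = x := by
      calc b * x * b⁻¹ = b⁻¹ * (b * (b * x * b⁻¹) * b⁻¹) * b := by group
        _ = b⁻¹ * (b * x * b⁻¹) * b := by rw [h5]
        _ = x := by group
    rw [← h6]; exact hx

variable [Finite G]

theorem syl_eq {M P R : Subgroup G} (hP : IsSyl P M) (hR : IsSyl R M) : ∃ m ∈ M, R = cj m P := by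
  obtain ⟨m, hm, h⟩ := hP.conj_into hR.two hR.le
  refine ⟨m⁻¹, inv_mem hm, ?_⟩
  have h1 : R ≤ cj m⁻¹ P := by
    intro r hr
    rw [mem_cj, inv_inv]
    exact h r hr
  apply le_antisymm h1
  apply hR.max _ _ h1
  · intro y hy
    rw [mem_cj, inv_inv] at hy
    have h2 := M.mul_mem (M.mul_mem (M.inv_mem hm) (hP.le hy)) hm
    have e : m⁻¹ * (m * y * m⁻¹) * m = y := by group
    rwa [e] at h2
  · exact hP.two.map _

theorem card_syl {M P R : Subgroup G} (hP : IsSyl P M) (hR : IsSyl R M) : Nat.card ↥P = Nat.card ↥R := by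
  obtain ⟨m, -, rfl⟩ := syl_eq hP hR
  exact (card_cj m P).symm

/-- the growing step -/
theorem exists_x {K L F : Subgroup G} {g : G} (hL : L = cj g K) (hLne : L ≠ K)
    (hF : IsSyl F (normalizer (K : Set G) ⊓ normalizer (L : Set G))) :
    ∃ x : G, cj x F = F ∧ x ∉ normalizer (K : Set G) := by
  have hFK : F ≤ normalizer (K : Set G) := hF.le.trans inf_le_left
  have hFL : F ≤ normalizer (L : Set G) := hF.le.trans inf_le_right
  obtain ⟨R, hR, hFR⟩ := exists_isSyl hF.two hFL
  by_cases h : R ≤ F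
  · -- `F` is Sylow in `N(L)`
    have hRF : R = F := le_antisymm h hFR
    subst hRF
    obtain ⟨R', hR', hFR'⟩ := exists_isSyl hF.two hFK
    have h1 : IsSyl (cj g R') (normalizer (L : Set G)) := by
      rw [hL, normalizer_cj]
      exact hR'.cj g
    have h2 := card_syl h1 hR
    rw [card_cj] at h2
    have h3 : R' = R := (Subgroup.eq_of_le_of_card_ge hFR' h2.le).symm
    subst h3
    obtain ⟨m, hm, e⟩ := syl_eq h1 hR
    refine ⟨m * g, ?_, ?_⟩
    · rw [cj_mul, ← e]
    · intro hx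
      apply hLne
      have h4 := cj_eq_of_mem_normalizer hx
      have h5 := cj_eq_of_mem_normalizer hm
      rw [cj_mul, ← hL, h5] at h4
      exact h4
  · obtain ⟨b, hb, hbF, -, hbn⟩ := exists_norm_elt hR.two hFR le_rfl
      (fun s hs b hb => mul_mem (mul_mem hs hb) (inv_mem hs)) h
    refine ⟨b, cj_eq_of_mem_normalizer hbn, ?_⟩
    intro hbK
    apply hbF
    exact hF.max (R ⊓ normalizer (K : Set G)) (hR.two.to_le inf_le_left) (le_inf hFR hFK)
      (le_inf inf_le_right (inf_le_left.trans hR.le)) ⟨hb, hbK⟩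

/-- **(A)** -/
theorem exists_sit {K S Z H L Q V : Subgroup G} (fr : ∀ g : G, Fr (cj g K) (cj g S) (cj g Z) (cj g H))
    (simple : IsSimpleGroup ↥K) (tight : TightAt K)
    (ncm : ∀ g : G, g ∉ normalizer (K : Set G) → ¬ ∀ a ∈ K, ∀ b ∈ cj g K, a * b = b * a)
    (hp : FullPair K L Q V)
    (h2 : ∃ a ∈ centralizer (K : Set G), ∃ b ∈ centralizer (K : Set G), orderOf a = 2 ∧ orderOf b = 2 ∧
      a * b = b * a ∧ a ≠ b) :
    ∃ (k : G) (E : Subgroup G) (x : G), k ∈ K ∧ Sit K (cj k S) (cj k Z) (cj k H) Q E x := by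
  have frk : ∀ k ∈ K, Fr K (cj k S) (cj k Z) (cj k H) := by
    intro k hk
    have h1 := fr k
    rwa [cj_eq_of_mem_normalizer (Subgroup.le_normalizer hk)] at h1
  have fr1 : Fr K S Z H := by
    have := frk 1 (one_mem _)
    simpa only [cj_one] using this
  obtain ⟨a, ha, b, hb, ha2, hb2, hab, hne⟩ := h2
  have heven : Even (Nat.card ↥(centralizer (K : Set G))) := even_of_mem ha2 ha
  have hQN := hp.leQ tight heven
  have hVN := hp.leU tight heven
  have tightL := hp.tightL tight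
  obtain ⟨g, hg, hL⟩ := hp.conj
  -- a four-group in `V`
  obtain ⟨v, w, hv, hw, hv2, hw2, hvw, hvwne⟩ : ∃ v w : G, v ∈ V ∧ w ∈ V ∧ orderOf v = 2 ∧ orderOf w = 2 ∧
      v * w = w * v ∧ v ≠ w := by
    have ha' : g * a * g⁻¹ ∈ centralizer (L : Set G) := by
      rw [hL, centralizer_cj]; exact mem_cj_mul ha
    have hb' : g * b * g⁻¹ ∈ centralizer (L : Set G) := by
      rw [hL, centralizer_cj]; exact mem_cj_mul hb
    have hab' : g * a * g⁻¹ * (g * b * g⁻¹) = g * b * g⁻¹ * (g * a * g⁻¹) := by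
      calc g * a * g⁻¹ * (g * b * g⁻¹) = g * (a * b) * g⁻¹ := by group
        _ = _ := by rw [hab]; group
    have h3 := isPGroup_two (a := g * a * g⁻¹) (b := g * b * g⁻¹) (by rw [Basic.orderOf_conj, ha2])
      (by rw [Basic.orderOf_conj, hb2]) hab'
    obtain ⟨m, -, hmq⟩ := hp.sylU.conj_into h3 (sup_le (by rwa [Subgroup.zpowers_le]) (by rwa [Subgroup.zpowers_le]))
    refine ⟨_, _, hmq _ (Subgroup.mem_sup_left (Subgroup.mem_zpowers _)),
      hmq _ (Subgroup.mem_sup_right (Subgroup.mem_zpowers _)), by rw [Basic.orderOf_conj, Basic.orderOf_conj, ha2],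
      by rw [Basic.orderOf_conj, Basic.orderOf_conj, hb2], ?_, ?_⟩
    · calc m * (g * a * g⁻¹) * m⁻¹ * (m * (g * b * g⁻¹) * m⁻¹) = m * (g * a * g⁻¹ * (g * b * g⁻¹)) * m⁻¹ := by group
        _ = _ := by rw [hab']; group
    · intro h
      apply hne
      calc a = g⁻¹ * (m⁻¹ * (m * (g * a * g⁻¹) * m⁻¹) * m) * g := by group
        _ = g⁻¹ * (m⁻¹ * (m * (g * b * g⁻¹) * m⁻¹) * m) * g := by rw [h]
        _ = b := by group
  have sq : ∀ {y : G}, orderOf y = 2 → y * y = 1 := fun {y} h => by rw [← pow_two, ← h, pow_orderOf_eq_one]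
  have hvwV := V.mul_mem hv hw
  have hvw2 : orderOf (v * w) = 2 := by
    apply orderOf_eq_prime
    · rw [pow_two]
      calc v * w * (v * w) = v * (w * v) * w := by group
        _ = v * (v * w) * w := by rw [hvw]
        _ = (v * v) * (w * w) := by group
        _ = 1 := by rw [sq hv2, sq hw2, one_mul]
    · intro h
      apply hvwne
      calc v = (v * w) * w⁻¹ := by group
        _ = w⁻¹ := by rw [h, one_mul]
        _ = w := inv_eq_of_mul_eq_one_left (sq hw2)
  have hall : ∀ u, u = v ∨ u = w ∨ u = v * w → u ∈ V ∧ orderOf u = 2 := by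
    rintro u (rfl | rfl | rfl)
    · exact ⟨hv, hv2⟩
    · exact ⟨hw, hw2⟩
    · exact ⟨hvwV, hvw2⟩
  -- a Sylow subgroup of `K` in `N(L)`
  obtain ⟨k1, hk1, hk1L⟩ : ∃ k1 ∈ K, cj k1 S ≤ normalizer (L : Set G) := by
    by_cases hc1 : ∃ u, (u = v ∨ u = w ∨ u = v * w) ∧ ∃ k ∈ K, k⁻¹ * u ∈ centralizer (K : Set G)
    · obtain ⟨u, hu, k, hk, hc⟩ := hc1
      obtain ⟨huV, hu2⟩ := hall u hu
      have huL := hp.sylU.le huV
      have hkc : k * (k⁻¹ * u) = (k⁻¹ * u) * k := mem_centralizer_iff.1 hc k hk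
      have hkk : k * k ∈ centralizer (K : Set G) := by
        have h3 : (k * (k⁻¹ * u)) * (k * (k⁻¹ * u)) = 1 := by rw [mul_inv_cancel_left, sq hu2]
        have h4 : k * k * ((k⁻¹ * u) * (k⁻¹ * u)) = 1 := by
          calc k * k * ((k⁻¹ * u) * (k⁻¹ * u)) = k * (k * (k⁻¹ * u)) * (k⁻¹ * u) := by group
            _ = k * ((k⁻¹ * u) * k) * (k⁻¹ * u) := by rw [hkc]
            _ = (k * (k⁻¹ * u)) * (k * (k⁻¹ * u)) := by group
            _ = 1 := h3
        rw [eq_inv_of_mul_eq_one_left h4]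
        exact inv_mem (mul_mem hc hc)
      have hkk1 : k * k = 1 := fr1.ctr _ (mul_mem hk hk) hkk
      have hk1 : k ≠ 1 := by
        rintro rfl
        rw [inv_one, one_mul] at hc
        exact hp.noInv tight hc huL hu2
      have hk2 : orderOf k = 2 := orderOf_eq_prime (by rw [pow_two, hkk1]) hk1
      obtain ⟨k1, hk1, hs⟩ := fr1.inv k hk hk2
      refine ⟨k1, hk1, ?_⟩
      rintro y hy
      rw [mem_cj] at hy
      have h5 := hs _ hy
      have e : k1 * (k1⁻¹ * y * k1) * k1⁻¹ = y := by group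
      rw [e] at h5
      have hyK : y ∈ K := by
        rw [← e]
        exact mul_mem (mul_mem hk1 (fr1.SK hy)) (inv_mem hk1)
      have h6 : y * (k⁻¹ * u) = (k⁻¹ * u) * y := mem_centralizer_iff.1 hc y hyK
      apply tightL.mem huL hu2
      calc y * u = (y * k) * (k⁻¹ * u) := by group
        _ = k * (y * (k⁻¹ * u)) := by rw [h5]; group
        _ = u * y := by rw [h6]; group
    · push Not at hc1
      obtain ⟨T, hT, hVT⟩ := exists_isSyl hp.sylU.two hVN
      have hTK : IsSyl (T ⊓ K) K := hT.inf Subgroup.le_normalizer hT.le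
      obtain ⟨k, hk, hkS⟩ := syl_eq fr1.syl hTK
      have frk' := frk k hk
      by_cases hc2 : cj k S ⊓ centralizer (L : Set G) = ⊥
      · exfalso
        have hnS : ∀ u ∈ V, ∀ s ∈ cj k S, u * s * u⁻¹ ∈ cj k S := by
          intro u hu s hs
          rw [← hkS] at hs ⊢
          refine ⟨T.mul_mem (T.mul_mem (hVT hu) hs.1) (T.inv_mem (hVT hu)), ?_⟩
          exact (mem_normalizer_iff.1 (hVN hu) s).1 hs.2
        have hnZ : ∀ u ∈ V, ∀ z ∈ cj k Z, u * z * u⁻¹ ∈ cj k Z := by
          intro u hu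
          apply frk'.norm_Z (hnS u hu)
          intro s hs
          have := hnS u⁻¹ (inv_mem hu) s hs
          rwa [inv_inv] at this
        apply frk'.V v w (hVN hv) (hVN hw) (sq hv2) (sq hw2) hvw
          (fun u hu k hk => hc1 u hu k hk) (hnZ v hv) (hnZ w hw)
        intro u hu hz
        have huV := (hall u hu).1
        have key : ∀ y ∈ V, ∀ z ∈ cj k Z, y * z = z * y := by
          intro y hy z hz'
          have h7 : z ∈ normalizer (L : Set G) :=
            tightL.mem (hp.sylU.le huV) (hall u hu).2 (hz z hz').symm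
          have hyL := hp.sylU.le hy
          have h8 := (commutator_mem (K := K) (L := L) (frk'.SK (frk'.ZS hz')) h7 hyL (hVN hy)).2
          have h9 : z * y * z⁻¹ * y⁻¹ ∈ cj k S := by
            have h10 := hnS y hy _ (inv_mem (frk'.ZS hz'))
            have e : z * y * z⁻¹ * y⁻¹ = z * (y * z⁻¹ * y⁻¹) := by group
            rw [e]
            exact mul_mem (frk'.ZS hz') h10
          have h11 : z * y * z⁻¹ * y⁻¹ ∈ cj k S ⊓ centralizer (L : Set G) := ⟨h9, h8⟩
          rw [hc2, Subgroup.mem_bot] at h11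
          calc y * z = (z * y * z⁻¹ * y⁻¹)⁻¹ * (z * y) := by group
            _ = z * y := by rw [h11]; group
        exact ⟨key v hv, key w hw⟩
      · obtain ⟨t, ht, ht2⟩ := exists_invol_of_two ((hT.two.to_le inf_le_left : IsPGroup 2 ↥(T ⊓ K)).to_le
          (by rw [← hkS]; exact inf_le_left)) hc2
        obtain ⟨k1, hk1, hs⟩ := fr1.inv t (frk'.SK ht.1) ht2
        refine ⟨k1, hk1, ?_⟩
        rintro y hy
        rw [mem_cj] at hy
        have h5 := hs _ hy
        have e : k1 * (k1⁻¹ * y * k1) * k1⁻¹ = y := by group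
        rw [e] at h5
        exact tightL.mem ht.2 ht2 h5
  -- the 2-group `E`
  have frk' := frk k1 hk1
  have hSn : cj k1 S ≤ normalizer (Q : Set G) := by
    intro s hs
    apply Subgroup.mem_normalizer_fintype
    intro q hq
    have h3 := mem_centralizer_iff.1 (hp.sylQ.le hq) s (frk'.SK hs)
    rw [h3, mul_inv_cancel_right]
    exact hq
  have h3 : IsPGroup 2 ↥(Q ⊔ cj k1 S) := hp.sylQ.two.to_sup_of_normal_left' frk'.syl.two hSn
  have hQK : Q ≤ normalizer (K : Set G) := hp.sylQ.le.trans tight.le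
  obtain ⟨E, hE, hQE⟩ := exists_isSyl h3 (M := normalizer (K : Set G) ⊓ normalizer (L : Set G))
    (sup_le (le_inf hQK hQN) (le_inf (frk'.SK.trans Subgroup.le_normalizer) hk1L))
  obtain ⟨x, hx, hxK⟩ := exists_x hL hp.ne hE
  refine ⟨k1, E, x, hk1, ?_⟩
  exact
    { fr := by
        intro g
        have h4 := fr (g * k1)
        rw [cj_mul, cj_mul, cj_mul, cj_mul, cj_eq_of_mem_normalizer (Subgroup.le_normalizer hk1)] at h4
        exact h4
      simple := simple
      tight := tight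
      ncm := ncm
      two := hE.two
      leN := hE.le.trans inf_le_left
      SE := le_sup_right.trans hQE
      QE := le_sup_left.trans hQE
      sylQ := hp.sylQ
      Qne := by
        rintro rfl
        obtain ⟨q, hq, hq2⟩ := exists_inv_syl hp.sylQ heven
        rw [Subgroup.mem_bot] at hq
        rw [hq, orderOf_one] at hq2
        omega
      xN := hx
      xM := hxK }

end Cfsg.Agent.OddHalf.D4.L3
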