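import Mathlib
import Cfsg.Agent.OddHalf.D4.L3.PartA
import Cfsg.Agent.OddHalf.D4.L3.FrameK
import Cfsg.Agent.OddHalf.D4.L3.Double
import Cfsg.Agent.OddHalf.D4.Start

/-!
# ODD, D4, row `L_3(2^a)`: the core

`core` : a standard component `K ≅ L_3(q)`, `q ≥ 8` even, with `m_2(C(K)) ≥ 2` gives a doubled root group; with a
contradiction for doubled root groups (`hD`) there is no such `K`.
-/

set_option autoImplicit false
set_option linter.unusedSectionVars false

namespace Cfsg.Agent.OddHalf.D4.L3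

open Cfsg.Agent.OddHalf.D4.Basic Cfsg.Agent.OddHalf.D4 Cfsg.Agent.ClassicalGeometry.AutPSL.Root
open Cfsg.Agent.OddHalf.D4.CommConj (Tight cj mem_cj cj_mul card_cj cj_eq_of_mem_normalizer mem_normalizer_of_cj_eq
  mem_cj_mul)
open Subgroup (normalizer centralizer mem_centralizer_iff mem_normalizer_iff zpowers)
open scoped commutatorElement

universe u

section transport

variable {F : Type*} [Field F] {G : Type*} [Group G]

/-- the conjugate embedding -/
def cf (g : G) (f : Y3 F →* G) : Y3 F →* G := (MulAut.conj g).toMonoidHom.comp f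

theorem cf_apply (g : G) (f : Y3 F →* G) (y : Y3 F) : cf g f y = g * f y * g⁻¹ := rfl

theorem cf_inj {f : Y3 F →* G} (hf : Function.Injective f) (g : G) : Function.Injective (cf g f) :=
  (MulAut.conj g).injective.comp hf

theorem cf_range (g : G) (f : Y3 F →* G) : (cf g f).range = cj g f.range := by
  ext x
  rw [mem_cj]
  constructor
  · rintro ⟨y, rfl⟩
    exact ⟨y, by rw [cf_apply]; group⟩
  · rintro ⟨y, hy⟩
    exact ⟨y, by rw [cf_apply, hy]; group⟩

theorem cf_Sf (g : G) (f : Y3 F →* G) : Sf (cf g f) = cj g (Sf f) := by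
  ext x
  rw [mem_cj]
  constructor
  · rintro ⟨a, b, c, rfl⟩
    refine ⟨a, b, c, ?_⟩
    show g⁻¹ * (cf g f (pr (um a b c))) * g = _
    rw [cf_apply]
    unfold U
    group
  · rintro ⟨a, b, c, h⟩
    refine ⟨a, b, c, ?_⟩
    show _ = cf g f (pr (um a b c))
    rw [cf_apply]
    have h' : g⁻¹ * x * g = f (pr (um a b c)) := h
    rw [← h']
    group

theorem cf_Zf (g : G) (f : Y3 F →* G) : Zf (cf g f) = cj g (Zf f) := by
  ext x
  rw [mem_cj]
  constructor
  · rintro ⟨c, rfl⟩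
    refine ⟨c, ?_⟩
    show g⁻¹ * (cf g f (pr (um 0 0 c))) * g = _
    rw [cf_apply]
    unfold U
    group
  · rintro ⟨c, h⟩
    refine ⟨c, ?_⟩
    show _ = cf g f (pr (um 0 0 c))
    rw [cf_apply]
    have h' : g⁻¹ * x * g = f (pr (um 0 0 c)) := h
    rw [← h']
    group

theorem cf_Hf (g : G) (f : Y3 F →* G) : Hf (cf g f) = cj g (Hf f) := by
  ext x
  rw [mem_cj]
  constructor
  · rintro ⟨a, b, hab, rfl⟩
    refine ⟨a, b, hab, ?_⟩
    show g⁻¹ * (cf g f (pr (hm a b))) * g = _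
    rw [cf_apply]
    unfold Tm
    group
  · rintro ⟨a, b, hab, h⟩
    refine ⟨a, b, hab, ?_⟩
    show _ = cf g f (pr (hm a b))
    rw [cf_apply]
    have h' : g⁻¹ * x * g = f (pr (hm a b)) := h
    rw [← h']
    group

theorem fr_cj [Finite G] [Finite F] [CharP F 2] {f : Y3 F →* G} (hf : Function.Injective f) (h8 : 8 ≤ Nat.card F)
    (hctr : ∀ k ∈ f.range, k ∈ centralizer (f.range : Set G) → k = 1) (g : G) :
    Fr (cj g f.range) (cj g (Sf f)) (cj g (Zf f)) (cj g (Hf f)) := by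
  rw [← cf_range, ← cf_Sf, ← cf_Zf, ← cf_Hf]
  apply fr (cf_inj hf g) h8
  rw [cf_range, centralizer_cj]
  intro k hk hc
  rw [mem_cj] at hk hc
  have h1 := hctr _ hk hc
  calc k = g * (g⁻¹ * k * g) * g⁻¹ := by group
    _ = 1 := by rw [h1]; group

end transport

/-- **the abstract end of (B)** -/
structure Mover {G : Type*} [Group G] (K S Z Q : Subgroup G) (y : G) : Prop where
  fr : ∃ H, Fr K S Z H
  tight : TightAt K
  sylQ : IsSyl Q (centralizer (K : Set G))
  yK : y ∉ normalizer (K : Set G)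
  yS : cj y S = S
  yQ : ∀ u ∈ cj y Q, ∃ z ∈ Z, z⁻¹ * u ∈ Q

namespace Mover

variable {G : Type*} [Group G] [Finite G] {K S Z Q : Subgroup G} {y : G}

theorem ZK (T : Mover K S Z Q y) : Z ≤ K := by
  obtain ⟨H, h⟩ := T.fr
  exact h.ZS.trans h.SK

theorem comm (T : Mover K S Z Q y) {q k : G} (hq : q ∈ Q) (hk : k ∈ K) : q * k = k * q :=
  (mem_centralizer_iff.1 (T.sylQ.le hq) k hk).symm

theorem cjZ (T : Mover K S Z Q y) : cj y Z = Z := by
  obtain ⟨H, h⟩ := T.fr
  have h1 : ∀ z ∈ Z, y * z * y⁻¹ ∈ Z := by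
    apply h.norm_Z
    · intro s hs
      have := mem_cj_mul (g := y) hs
      rwa [T.yS] at this
    · intro s hs
      rw [← T.yS, mem_cj] at hs
      exact hs
  have h2 : cj y Z ≤ Z := by
    intro z hz
    rw [mem_cj] at hz
    have := h1 _ hz
    have e : y * (y⁻¹ * z * y) * y⁻¹ = z := by group
    rwa [e] at this
  exact Subgroup.eq_of_le_of_card_ge h2 (card_cj y Z).ge

theorem disj (T : Mover K S Z Q y) {q : G} (hq : q ∈ Q) (hq' : q ∈ cj y Q) : q = 1 := by
  by_contra hne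
  obtain ⟨n, hn⟩ := CommConj.exists_pow_involution T.sylQ.two hq hne
  apply T.yK
  apply T.tight.eq (k := q ^ n) (T.sylQ.le (pow_mem hq n)) hn
  rw [centralizer_cj]
  exact cj_mono' T.sylQ.le (pow_mem hq' n)

/-- `Q ≤ Q^y Z` -/
theorem dec (T : Mover K S Z Q y) {q : G} (hq : q ∈ Q) : ∃ u ∈ cj y Q, ∃ z ∈ Z, q = u * z := by
  have hZQ : Z ≤ normalizer (Q : Set G) := by
    intro z hz
    apply Subgroup.mem_normalizer_fintype
    intro q hq
    rw [← T.comm hq (T.ZK hz), mul_inv_cancel_right]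
    exact hq
  have h1 : cj y (Z ⊔ Q) ≤ Z ⊔ Q := by
    show (Z ⊔ Q).map (MulAut.conj y).toMonoidHom ≤ Z ⊔ Q
    rw [Subgroup.map_sup]
    refine sup_le ?_ ?_
    · have := T.cjZ
      exact (le_of_eq this).trans le_sup_left
    · intro u hu
      obtain ⟨z, hz, h⟩ := T.yQ u hu
      have e : u = z * (z⁻¹ * u) := by group
      rw [e]
      exact mul_mem (Subgroup.mem_sup_left hz) (Subgroup.mem_sup_right h)
  have h2 : cj y (Z ⊔ Q) = Z ⊔ Q := Subgroup.eq_of_le_of_card_ge h1 (card_cj y _).ge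
  have h3 : q ∈ cj y (Z ⊔ Q) := by rw [h2]; exact Subgroup.mem_sup_right hq
  rw [mem_cj] at h3
  have h4 : y⁻¹ * q * y ∈ ((Z ⊔ Q : Subgroup G) : Set G) := h3
  rw [Subgroup.coe_mul_of_left_le_normalizer_right Z Q hZQ] at h4
  obtain ⟨z, hz, r, hr, e⟩ := h4
  have e' : z * r = y⁻¹ * q * y := e
  refine ⟨y * r * y⁻¹, mem_cj_mul hr, y * z * y⁻¹, ?_, ?_⟩
  · have := mem_cj_mul (g := y) hz
    rwa [T.cjZ] at this
  · have h5 := T.comm hr (T.ZK hz)
    calc q = y * (y⁻¹ * q * y) * y⁻¹ := by group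
      _ = y * (r * z) * y⁻¹ := by rw [← e', h5]
      _ = y * r * y⁻¹ * (y * z * y⁻¹) := by group

/-- `Q` is elementary -/
theorem sq (T : Mover K S Z Q y) {q : G} (hq : q ∈ Q) : q * q = 1 := by
  obtain ⟨u, hu, z, hz, rfl⟩ := T.dec hq
  obtain ⟨H, h⟩ := T.fr
  have huz : u * z = z * u := by
    have hz' : y⁻¹ * z * y ∈ Z := by
      rw [← T.cjZ, mem_cj] at hz; exact hz
    rw [mem_cj] at hu
    have h1 := T.comm hu (T.ZK hz')
    calc u * z = y * ((y⁻¹ * u * y) * (y⁻¹ * z * y)) * y⁻¹ := by group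
      _ = y * ((y⁻¹ * z * y) * (y⁻¹ * u * y)) * y⁻¹ := by rw [h1]
      _ = z * u := by group
  have e : u * z * (u * z) = u * u := by
    calc u * z * (u * z) = u * (z * u) * z := by group
      _ = u * (u * z) * z := by rw [huz]
      _ = u * u * (z * z) := by group
      _ = u * u := by rw [h.z2 z hz, mul_one]
  apply T.disj (mul_mem hq hq)
  rw [e]
  exact mul_mem hu hu

theorem amb (T : Mover K S Z Q y) : DblR.Amb K Q where
  tt := fun t ht => T.sq ht
  comm := fun t ht k hk => T.comm ht hk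
  nor := by
    intro t ht ht1 g hg k hk
    have h2 : orderOf t = 2 := orderOf_eq_prime (by rw [pow_two, T.sq ht]) ht1
    have h3 := T.tight.mem (T.sylQ.le ht) h2 hg
    exact (mem_normalizer_iff.1 h3 k).1 hk
  ctr := by
    intro k hk h
    obtain ⟨H, hfr⟩ := T.fr
    exact hfr.ctr k hk (mem_centralizer_iff.2 fun x hx => (h x hx).symm)

theorem two (T : Mover K S Z Q y) : ∀ c ∈ DblR.C1 K Q, IsPGroup 2 ↥(zpowers c) → c ∈ Q := by
  intro c hc h2
  obtain ⟨h3, h4⟩ := DblR.mem_C1.1 hc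
  apply mem_of_syl T.sylQ (mem_centralizer_iff.2 fun k hk => (h3 k hk).symm)
  · obtain ⟨n, hn⟩ := h2 ⟨c, Subgroup.mem_zpowers c⟩
    exact ⟨n, congrArg Subtype.val hn⟩
  · intro q hq
    rw [h4 q hq, mul_inv_cancel_right]
    exact hq

theorem gR (T : Mover K S Z Q y) : ∀ a ∈ Q, ∃ b ∈ Q, ∃ z ∈ Z, y * a * y⁻¹ = b * z := by
  intro a ha
  obtain ⟨z, hz, h⟩ := T.yQ _ (mem_cj_mul ha)
  refine ⟨_, h, z, hz, ?_⟩
  rw [T.comm h (T.ZK hz)]
  group

end Mover

variable {F : Type} [Field F] [Finite F] [CharP F 2]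

/-- **no standard component `L_3(q)`, `q ≥ 8` even, with `m_2(C(K)) ≥ 2`** (modulo `hD`) -/
theorem core {G : Type u} [Group G] (hG : Iface.Ctx G) (h1173 : Start.P1173.{u}) (h8 : 8 ≤ Nat.card F)
    {f : Y3 F →* G} (hf : Function.Injective f) (S : Iface.Std G f.range)
    (hrk : ¬ PRankLE 2 1 ↥(centralizer (f.range : Set G))) (hz : Subgroup.center ↥f.range = ⊥)
    (hD : ∀ f' : Y3 F →* G, Function.Injective f' → ∀ R W : Subgroup G, DblR.Amb f'.range R →
      DblR.Base f'.range R (Sf f') (Zf f') W → ∀ t ∈ R, ∀ t' ∈ R, t ≠ 1 → t' ≠ 1 → t' ≠ t → False) : False := by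
  have := hG.fin
  have := hG.simple
  have hs : IsSimpleGroup ↥f.range := Start.isSimple_of_center S.simple hz
  have hstd := S.std
  have tight : TightAt f.range := EvenPair.tight_of_standard hstd
  obtain ⟨a, b, ha, hb, ha2, hb2, hab, hne⟩ := EvenPair.exists_two_of_not_pRankLE hrk
  have heven : Even (Nat.card ↥(centralizer (f.range : Set G))) := even_of_mem ha2 ha
  have hctr : ∀ k ∈ f.range, k ∈ centralizer (f.range : Set G) → k = 1 := by
    intro k hk hc
    have h1 : (⟨k, hk⟩ : ↥f.range) ∈ Subgroup.center ↥f.range := by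
      rw [Subgroup.mem_center_iff]
      rintro ⟨g, hg⟩
      exact Subtype.ext (mem_centralizer_iff.1 hc g hg)
    rw [hz, Subgroup.mem_bot] at h1
    exact congrArg Subtype.val h1
  have hfr := fr_cj hf h8 hctr
  have hfr1 : Fr f.range (Sf f) (Zf f) (Hf f) := fr hf h8 hctr
  have hperf : ⁅f.range, f.range⁆ = f.range := by
    have h1 : ⁅(⊤ : Subgroup ↥f.range), (⊤ : Subgroup ↥f.range)⁆ = ⊤ := hstd.1.1.commutator_eq_top
    have h2 := congrArg (Subgroup.map f.range.subtype) h1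
    rw [Subgroup.map_commutator, ← MonoidHom.range_eq_map, Subgroup.range_subtype] at h2
    exact h2
  have hKne : f.range ≠ ⊥ := by
    intro h
    obtain ⟨z, hz, hzne⟩ := hfr1.ne
    apply hzne
    have h1 := hfr1.SK (hfr1.ZS hz)
    rwa [h, Subgroup.mem_bot] at h1
  -- a full pair
  obtain ⟨g, hg, r, hr, hr2, hrg⟩ := EvenPair.exists_even (h1173 G (Start.oddCore_eq_bot ha2)) tight heven hKne hperf
    (fun k hk c hc => mem_centralizer_iff.1 hc k hk)
  obtain ⟨E, hE⟩ := tight.exists_maxE hg hr hr2 hrg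
  have inner : ∀ T : Subgroup G, IsSyl T (normalizer (f.range : Set G)) → ∀ y ∈ T,
      (∀ s ∈ T, s ∈ f.range → s * y = y * s) →
      ∃ k ∈ centralizer (f.range : Set G), ∃ s ∈ T, s ∈ f.range ∧ (∀ u ∈ T, u ∈ f.range → u * s = s * u) ∧
        y = k * s := by
    intro T hT y hy hyc
    have hTK : IsSyl (T ⊓ f.range) f.range := hT.inf Subgroup.le_normalizer hT.le
    obtain ⟨k, hk, hkS⟩ := syl_eq hfr1.syl hTK
    have hfrk : Fr f.range (cj k (Sf f)) (cj k (Zf f)) (cj k (Hf f)) := by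
      have h1 := hfr k
      rwa [cj_eq_of_mem_normalizer (Subgroup.le_normalizer hk)] at h1
    obtain ⟨z, hz, hc⟩ := hfrk.F1 y (hT.le hy) (by
      intro s hs
      rw [← hkS] at hs
      exact (hyc s hs.1 hs.2).symm)
    have hzS := hfrk.ZS hz
    rw [← hkS] at hzS
    refine ⟨z⁻¹ * y, hc, z, hzS.1, hzS.2, ?_, ?_⟩
    · intro u hu huK
      exact (hfrk.zc z hz u (by rw [← hkS]; exact ⟨hu, huK⟩)).symm
    · have h1 := mem_centralizer_iff.1 hc z hzS.2
      rw [← h1]; group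
  obtain ⟨L, Q, V, hp, -, -⟩ := Exists.fullPair_of_maxE tight (fun x hx hc => hctr x hx hc) inner hE
  have ncm : ∀ g : G, g ∉ normalizer (f.range : Set G) → ¬ ∀ a ∈ f.range, ∀ b ∈ cj g f.range, a * b = b * a := by
    intro g hg hcm
    refine hstd.2.2.1 g ?_ ?_
    · intro h
      exact hg (mem_normalizer_of_cj_eq h)
    · rw [Subgroup.commutator_eq_bot_iff_le_centralizer]
      intro a ha
      rw [mem_centralizer_iff]
      intro b hb
      exact (hcm a ha b hb).symm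
  obtain ⟨k, E', x, hk, hsit⟩ := exists_sit hfr hs tight ncm hp ⟨a, ha, b, hb, ha2, hb2, hab, hne⟩
  obtain ⟨y, hyK, hyS, hyQ⟩ := hsit.main
  -- change of coordinates
  have hf' := cf_inj hf k
  have hr' : (cf k f).range = f.range := by
    rw [cf_range]
    exact cj_eq_of_mem_normalizer (Subgroup.le_normalizer hk)
  have hS' := cf_Sf k f
  have hZ' := cf_Zf k f
  have hM : Mover (cf k f).range (Sf (cf k f)) (Zf (cf k f)) Q y := by
    rw [hr', hS', hZ']
    exact ⟨⟨_, hsit.fr1⟩, tight, hp.sylQ, hyK, hyS, hyQ⟩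
  -- two involutions of `Q`
  obtain ⟨t, t', ht, ht', ht1, ht1', htt⟩ : ∃ t t' : G, t ∈ Q ∧ t' ∈ Q ∧ t ≠ 1 ∧ t' ≠ 1 ∧ t' ≠ t := by
    obtain ⟨m, -, hm⟩ := hp.sylQ.conj_into (isPGroup_two ha2 hb2 hab)
      (sup_le (by rwa [Subgroup.zpowers_le]) (by rwa [Subgroup.zpowers_le]))
    have h1 : ∀ x : G, orderOf x = 2 → m * x * m⁻¹ ≠ 1 := by
      intro x hx h
      have h2 := Basic.orderOf_conj m x
      rw [h, orderOf_one, hx] at h2
      omega
    refine ⟨_, _, hm _ (Subgroup.mem_sup_left (Subgroup.mem_zpowers _)),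
      hm _ (Subgroup.mem_sup_right (Subgroup.mem_zpowers _)), h1 a ha2, h1 b hb2, ?_⟩
    intro h
    apply hne
    calc a = m⁻¹ * (m * a * m⁻¹) * m := by group
      _ = m⁻¹ * (m * b * m⁻¹) * m := by rw [h]
      _ = b := by group
  obtain ⟨W, hW⟩ := Double.exists_base hf' h8 hM.amb hM.two (g := y)
    (by
      intro s hs
      have := mem_cj_mul (g := y) hs
      rwa [hM.yS] at this)
    hM.gR ⟨t, ht, fun h => by
      have h1 := hM.disj h (mem_cj_mul ht)
      apply ht1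
      calc t = y⁻¹ * (y * t * y⁻¹) * y := by group
        _ = 1 := by rw [h1]; group⟩
  exact hD (cf k f) hf' Q W hM.amb hW t ht t' ht' ht1 ht1' htt

end Cfsg.Agent.OddHalf.D4.L3
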