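import Mathlib

/-!
# ODD, D4, row l3e: sums of cubes in a finite field of characteristic 2 with at least 8 elements

* `exists_cubes` : every element is a sum of nonzero cubes;
* `exists_cube_ne_one` : some `a ≠ 0` has `a ^ 3 ≠ 1`.
-/

set_option autoImplicit false

namespace Cfsg.Agent.OddHalf.D4.L3

variable {F : Type*} [Field F]

/-- sums of nonzero cubes -/
def Cb (F : Type*) [Field F] [CharP F 2] : Subring F where
  carrier := {s | ∃ l : List F, (∀ a ∈ l, a ≠ 0) ∧ (l.map fun a => a ^ 3).sum = s}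
  zero_mem' := ⟨[], by simp, rfl⟩
  one_mem' := ⟨[1], by simp, by simp⟩
  add_mem' := by
    rintro _ _ ⟨l, h1, rfl⟩ ⟨l', h1', rfl⟩
    refine ⟨l ++ l', ?_, by rw [List.map_append, List.sum_append]⟩
    intro b hb
    rcases List.mem_append.1 hb with hb | hb
    · exact h1 b hb
    · exact h1' b hb
  neg_mem' := by
    rintro _ ⟨l, h1, rfl⟩
    exact ⟨l, h1, by rw [CharTwo.neg_eq]⟩
  mul_mem' := by
    rintro _ s' ⟨l, h1, rfl⟩ ⟨l', h1', e'⟩
    induction l with
    | nil => exact ⟨[], by simp, by simp⟩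
    | cons a l ih =>
      obtain ⟨l₂, h2, e2⟩ := ih fun b hb => h1 b (List.mem_cons_of_mem _ hb)
      have ha : a ≠ 0 := h1 a List.mem_cons_self
      refine ⟨l'.map (a * ·) ++ l₂, ?_, ?_⟩
      · intro b hb
        rcases List.mem_append.1 hb with hb | hb
        · obtain ⟨c, hc, rfl⟩ := List.mem_map.1 hb
          exact mul_ne_zero ha (h1' c hc)
        · exact h2 b hb
      · rw [List.map_cons, List.sum_cons, add_mul, List.map_append, List.sum_append, e2, List.map_map]
        congr 1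
        have : ((fun a : F => a ^ 3) ∘ fun x => a * x) = fun b => a ^ 3 * b ^ 3 := by
          funext b
          exact mul_pow a b 3
        rw [this, List.sum_map_mul_left, e']

theorem cube_mem [CharP F 2] (a : F) : a ^ 3 ∈ Cb F := by
  by_cases h : a = 0
  · rw [h, zero_pow (by norm_num)]; exact zero_mem _
  · exact ⟨[a], by simpa using h, by simp⟩

theorem wp_mem [CharP F 2] (t : F) : t ^ 2 + t ∈ Cb F := by
  have h2 : (2 : F) = 0 := CharTwo.two_eq_zero
  have e : t ^ 2 + t = (t + 1) ^ 3 - t ^ 3 - 1 := by linear_combination (-t ^ 2 - t) * h2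
  rw [e]
  exact sub_mem (sub_mem (cube_mem _) (cube_mem _)) (one_mem _)

theorem exists_cube_ne_one [Finite F] (h8 : 5 ≤ Nat.card F) : ∃ a : F, a ≠ 0 ∧ a ^ 3 ≠ 1 := by
  by_contra hcon
  push Not at hcon
  obtain ⟨g, hg⟩ := IsCyclic.exists_generator (α := Fˣ)
  have h1 : Nat.card Fˣ = orderOf g := by
    rw [← Nat.card_zpowers, Subgroup.eq_top_iff' _ |>.2 hg, Subgroup.card_top]
  have h2 : g ^ 3 = 1 := by
    apply Units.ext
    rw [Units.val_pow_eq_pow_val, Units.val_one]
    exact hcon _ g.ne_zero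
  have h3 := orderOf_le_of_pow_eq_one (by norm_num) h2
  rw [Nat.card_units] at h1
  omega

theorem Cb_eq_top [CharP F 2] [Finite F] (h8 : 5 ≤ Nat.card F) : Cb F = ⊤ := by
  have h2 : (2 : F) = 0 := CharTwo.two_eq_zero
  by_contra hne
  obtain ⟨x, hx⟩ : ∃ x, x ∉ Cb F := by
    by_contra h
    push Not at h
    exact hne (Subring.eq_top_iff' _ |>.2 h)
  have hinv : ∀ r ∈ Cb F, r⁻¹ ∈ Cb F := by
    intro r hr
    by_cases h0 : r = 0
    · rw [h0, inv_zero]
      exact zero_mem _
    have := Fintype.ofFinite F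
    have h1 : r ^ (Fintype.card F - 1) = 1 := FiniteField.pow_card_sub_one_eq_one r h0
    have h2 : 1 < Fintype.card F := Fintype.one_lt_card
    have h3 : r⁻¹ = r ^ (Fintype.card F - 2) := by
      apply inv_eq_of_mul_eq_one_right
      rw [← pow_succ', show Fintype.card F - 2 + 1 = Fintype.card F - 1 by omega, h1]
    rw [h3]
    exact pow_mem hr _
  have h1 : ∀ c ∈ Cb F, c ^ 2 + c = 0 := by
    intro c hc
    by_contra h
    apply hx
    have e1 := wp_mem (c * x)
    have e2 := mul_mem (pow_mem hc 2) (wp_mem x)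
    have e3 := sub_mem e1 e2
    have e4 : (c * x) ^ 2 + c * x - c ^ 2 * (x ^ 2 + x) = (c ^ 2 + c) * x := by
      linear_combination (-c ^ 2 * x) * h2
    rw [e4] at e3
    have e5 := mul_mem (hinv _ (add_mem (pow_mem hc 2) hc)) e3
    rwa [inv_mul_cancel_left₀ h] at e5
  obtain ⟨a, ha, ha3⟩ := exists_cube_ne_one h8
  apply ha3
  have e := h1 _ (wp_mem a)
  have e2 : a * (a ^ 3 - 1) = 0 := by linear_combination e - (a ^ 3 + a ^ 2 + a) * h2
  rcases mul_eq_zero.1 e2 with h | h
  · exact absurd h ha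
  · exact sub_eq_zero.1 h

/-- **Every element is a sum of nonzero cubes.** -/
theorem exists_cubes [CharP F 2] [Finite F] (h8 : 5 ≤ Nat.card F) (s : F) :
    ∃ l : List F, (∀ a ∈ l, a ≠ 0) ∧ (l.map fun a => a ^ 3).sum = s := by
  have h : s ∈ Cb F := by rw [Cb_eq_top h8]; exact Subring.mem_top s
  exact h

end Cfsg.Agent.OddHalf.D4.L3
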