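import Cfsg.Agent.OddHalf.DblR.FamP
import Cfsg.Agent.StdRank2.OutL3Facts
import Cfsg.Agent.OddHalf.D4.L3.Cubes

/-!
# ODD, D4, row l3e (text #14806 (D)): `K = L₃(q)`, `q ≥ 8` even: the three root groups `X01`, `X12`, `X02`

* `Xg fr i j` : the root group `{x i j s}`; `Tg fr` : the torus;
* **`ktriP`** : `KTriP` with `Xr = X01`, `Xs = X12`, `Xd = X02`, `P = U` (Sylow 2-subgroup);
* **`false_of_base`** : no doubled root group `W` over `U`, invariant under `N_K(X02)`, if `R` has two involutions.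
-/

set_option autoImplicit false
set_option linter.unusedSectionVars false

namespace Cfsg.Agent.OddHalf.D4.L3

open Subgroup Cfsg.Agent.StdRank2 Cfsg.Agent.OddHalf.DblR
open Cfsg.Agent.StdRank2.OutL3Rel (u u_r u_s u_t u_mem)

local notation "cJ" => Cfsg.Agent.Nodes.Reps.cj

variable {G : Type*} [Group G] {K : Subgroup G} {F : Type*} [Field F]

/-- the root group `{x i j s}` -/
def Xg (fr : FrameL3 K F) (i j : Fin 3) : Subgroup G := closure (Set.range (fr.x i j))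

/-- the torus -/
def Tg (fr : FrameL3 K F) : Subgroup G where
  carrier := {y | ∃ c, fr.Tor y c}
  one_mem' := ⟨_, FrameL3.Tor.one fr⟩
  mul_mem' := by
    rintro a b ⟨c, h⟩ ⟨c', h'⟩
    exact ⟨_, h.mul h'⟩
  inv_mem' := by
    rintro a ⟨c, h⟩
    exact ⟨_, h.inv⟩

theorem mem_Tg {fr : FrameL3 K F} {y : G} : y ∈ Tg fr ↔ ∃ c, fr.Tor y c := Iff.rfl

theorem Tor_pow {fr : FrameL3 K F} {y : G} {c : Fin 3 → F} (h : fr.Tor y c) (n : ℕ) :
    fr.Tor (y ^ n) (fun i => c i ^ n) := by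
  induction n with
  | zero => simpa using FrameL3.Tor.one fr
  | succ n ih =>
    have := ih.mul h
    simpa only [pow_succ] using this

theorem cJ_eq {g : G} {S S' : Subgroup G} (h1 : ∀ y ∈ S, g * y * g⁻¹ ∈ S') (h2 : ∀ y ∈ S', g⁻¹ * y * g ∈ S) :
    cJ g S = S' := by
  ext y
  rw [Cfsg.Agent.Nodes.Reps.mem_cj]
  refine ⟨fun hy => ?_, h2 y⟩
  have := h1 _ hy
  have e : g * (g⁻¹ * y * g) * g⁻¹ = y := by group
  rwa [e] at this

theorem C1_of_cent {R : Subgroup G} {z c : G} (hzK : z ∈ K) (hKR : ∀ t ∈ R, ∀ k ∈ K, t * k = k * t)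
    (hc : ∀ a ∈ R, c * a = a * c) (h : z⁻¹ * c ∈ centralizer (K : Set G)) : z⁻¹ * c ∈ C1 K R := by
  rw [mem_C1]
  refine ⟨fun k hk => (mem_centralizer_iff.1 h k hk).symm, fun t ht => ?_⟩
  have h1 := hKR t ht z⁻¹ (inv_mem hzK)
  calc z⁻¹ * c * t = z⁻¹ * (c * t) := by group
    _ = (z⁻¹ * t) * c := by rw [hc t ht]; group
    _ = t * (z⁻¹ * c) := by rw [← h1]; group

theorem cases_ij : ∀ {i j : Fin 3}, i < j → (i, j) ≠ (0, 2) → (i = 0 ∧ j = 1) ∨ (i = 1 ∧ j = 2) := by decide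

theorem mem_normalizer_of_comm {R : Subgroup G} (A : Amb K R) (hR : ∃ t ∈ R, t ≠ 1) {c : G}
    (hc : ∀ a ∈ R, c * a = a * c) : c ∈ normalizer (K : Set G) := by
  obtain ⟨t, ht, ht1⟩ := hR
  rw [mem_normalizer_iff]
  intro k
  refine ⟨A.nor t ht ht1 c (hc t ht) k, fun hk => ?_⟩
  have h1 : c⁻¹ * t = t * c⁻¹ := by
    calc c⁻¹ * t = c⁻¹ * (t * c) * c⁻¹ := by group
      _ = c⁻¹ * (c * t) * c⁻¹ := by rw [hc t ht]
      _ = t * c⁻¹ := by group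
  have h2 := A.nor t ht ht1 c⁻¹ h1 _ hk
  have e : c⁻¹ * (c * k * c⁻¹) * c⁻¹⁻¹ = k := by group
  rwa [e] at h2

section Odd

variable [CharP F 2] (fr : FrameL3 K F) (hZ : Odd (Nat.card (center ↥K)))
include hZ

theorem mem_Xg {i j : Fin 3} (h : i ≠ j) {g : G} : g ∈ Xg fr i j ↔ ∃ s, g = fr.x i j s := by
  constructor
  · intro hg
    induction hg using closure_induction with
    | mem y hy => obtain ⟨s, rfl⟩ := hy; exact ⟨s, rfl⟩
    | one => exact ⟨0, (fr.x_zero hZ h).symm⟩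
    | mul y z _ _ hy hz =>
      obtain ⟨s, rfl⟩ := hy
      obtain ⟨t, rfl⟩ := hz
      exact ⟨s + t, fr.add hZ h s t⟩
    | inv y _ hy =>
      obtain ⟨s, rfl⟩ := hy
      exact ⟨s, fr.x_inv h s⟩
  · rintro ⟨s, rfl⟩
    exact subset_closure ⟨s, rfl⟩

omit [CharP F 2] hZ in
theorem x_mem_Xg (i j : Fin 3) (s : F) : fr.x i j s ∈ Xg fr i j := subset_closure ⟨s, rfl⟩

omit hZ [CharP F 2] in
theorem Xg_le_U {i j : Fin 3} (h : i < j) : Xg fr i j ≤ fr.U := by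
  unfold Xg
  rw [closure_le]
  rintro _ ⟨s, rfl⟩
  exact fr.x_mem_U h s

theorem Tor.conj_mem {y : G} {c : Fin 3 → F} (hy : fr.Tor y c) {i j : Fin 3} (h : i ≠ j) {g : G}
    (hg : g ∈ Xg fr i j) : y * g * y⁻¹ ∈ Xg fr i j := by
  obtain ⟨s, rfl⟩ := (mem_Xg fr hZ h).1 hg
  rw [hy.conj hZ h]
  exact x_mem_Xg fr _ _ _

theorem cJ_T {y : G} (hy : y ∈ Tg fr) {i j : Fin 3} (h : i ≠ j) : cJ y (Xg fr i j) = Xg fr i j := by
  obtain ⟨c, hc⟩ := hy
  refine cJ_eq (fun g hg => Tor.conj_mem fr hZ hc h hg) fun g hg => ?_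
  have := Tor.conj_mem fr hZ hc.inv h hg
  rwa [inv_inv] at this

theorem w_conj_mem {i j k l : Fin 3} (h : i ≠ j) (hkl : k ≠ l) {g : G} (hg : g ∈ Xg fr k l) :
    fr.w i j 1 * g * (fr.w i j 1)⁻¹ ∈ Xg fr (Equiv.swap i j k) (Equiv.swap i j l) := by
  obtain ⟨s, rfl⟩ := (mem_Xg fr hZ hkl).1 hg
  rw [fr.w_conj_one hZ h hkl]
  exact x_mem_Xg fr _ _ _

theorem cJ_w {i j k l k' l' : Fin 3} (h : i ≠ j) (hkl : k ≠ l) (hk : Equiv.swap i j k = k')
    (hl : Equiv.swap i j l = l') : cJ (fr.w i j 1) (Xg fr k l) = Xg fr k' l' := by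
  subst hk hl
  refine cJ_eq (fun g hg => w_conj_mem fr hZ h hkl hg) fun g hg => ?_
  have hkl' : Equiv.swap i j k ≠ Equiv.swap i j l := fun e => hkl ((Equiv.swap i j).injective e)
  have := w_conj_mem fr hZ h hkl' hg
  rw [Equiv.swap_apply_self, Equiv.swap_apply_self] at this
  rwa [fr.w_inv h] at this ⊢

/-- `X_{k l} ≤ w U w⁻¹` if `w⁻¹` carries it into `U` -/
theorem le_cJ_U {i j k l : Fin 3} (h : i ≠ j) (hkl : k ≠ l) (hlt : Equiv.swap i j k < Equiv.swap i j l) :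
    Xg fr k l ≤ cJ (fr.w i j 1) fr.U := by
  intro g hg
  rw [Cfsg.Agent.Nodes.Reps.mem_cj]
  have := Xg_le_U fr hlt (w_conj_mem fr hZ h hkl hg)
  rwa [fr.w_inv h] at this ⊢

/-! ### Fixed points of the torus -/

theorem cen_of_eq {y : G} {c : Fin 3 → F} (hy : fr.Tor y c) {i j : Fin 3} (h : i ≠ j) (hc : c i = c j) :
    ∀ x ∈ Xg fr i j, y * x = x * y := by
  intro x hx
  obtain ⟨s, rfl⟩ := (mem_Xg fr hZ h).1 hx
  have h1 := hy.conj hZ h s
  have h2 : c i * s * (c j)⁻¹ = s := by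
    rw [hc, mul_right_comm, mul_inv_cancel₀ (hy.ne_zero j), one_mul]
  rw [h2] at h1
  exact mul_inv_eq_iff_eq_mul.1 h1

theorem fpf_of_ne {y : G} {c : Fin 3 → F} (hy : fr.Tor y c) {i j : Fin 3} (h : i ≠ j) (hc : c i ≠ c j) :
    ∀ x ∈ Xg fr i j, y * x = x * y → x = 1 := by
  intro x hx e
  obtain ⟨s, rfl⟩ := (mem_Xg fr hZ h).1 hx
  have h1 := hy.conj hZ h s
  rw [e, mul_inv_cancel_right, fr.x_inj h] at h1
  rw [fr.x_eq_one hZ h]
  by_contra hs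
  apply hc
  have h2 : c i * (c j)⁻¹ * s = 1 * s := by rw [one_mul]; nth_rewrite 2 [h1]; ring
  have h3 := mul_right_cancel₀ hs h2
  exact (mul_inv_eq_one₀ (hy.ne_zero j)).1 h3

theorem comm_w {y : G} {c : Fin 3 → F} (hy : fr.Tor y c) {i j : Fin 3} (h : i ≠ j) (hc : c i = c j) :
    y * fr.w i j 1 = fr.w i j 1 * y := by
  have h1 := cen_of_eq fr hZ hy h hc _ (x_mem_Xg fr i j 1)
  have h2 := cen_of_eq fr hZ hy h.symm hc.symm _ (x_mem_Xg fr j i 1⁻¹)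
  have c1 : Commute y (fr.x i j 1) := h1
  have c2 : Commute y (fr.x j i 1⁻¹) := h2
  exact (c1.mul_right c2).mul_right c1

theorem trans_T {i j k : Fin 3} (hij : i ≠ j) (hik : i ≠ k) (hkj : k ≠ j) :
    ∀ x ∈ Xg fr i j, x ≠ 1 → ∀ x' ∈ Xg fr i j, x' ≠ 1 → ∃ h ∈ Tg fr, h * x * h⁻¹ = x' := by
  intro x hx hx1 x' hx' hx1'
  obtain ⟨s, rfl⟩ := (mem_Xg fr hZ hij).1 hx
  obtain ⟨t, rfl⟩ := (mem_Xg fr hZ hij).1 hx'
  rw [Ne, fr.x_eq_one hZ hij] at hx1 hx1'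
  have hst : t / s ≠ 0 := div_ne_zero hx1' hx1
  have h := fr.tor_w hZ hik hst
  refine ⟨_, ⟨_, h⟩, ?_⟩
  rw [h.conj hZ hij]
  congr 1
  simp only [if_true, if_neg hij.symm, if_neg hkj.symm, inv_one, mul_one]
  rw [div_mul_cancel₀ _ hx1]

/-- products of conjugates under the elements `ta a` acting by `a ^ 3` -/
theorem lact_x {ta : F → G} {i j : Fin 3} (h : i ≠ j)
    (hta : ∀ a, a ≠ 0 → ∀ s, ta a * fr.x i j s * (ta a)⁻¹ = fr.x i j (a ^ 3 * s)) (s : F) :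
    ∀ l : List F, (∀ a ∈ l, a ≠ 0) →
      lact (l.map ta) (fr.x i j s) = fr.x i j ((l.map fun a => a ^ 3).sum * s) := by
  intro l
  induction l with
  | nil => intro _; rw [List.map_nil, lact_nil, List.map_nil, List.sum_nil, zero_mul, fr.x_zero hZ h]
  | cons a l ih =>
    intro hl
    rw [List.map_cons, lact_cons, ih fun c hc => hl c (List.mem_cons_of_mem _ hc), hta a (hl a List.mem_cons_self),
      fr.add hZ h, List.map_cons, List.sum_cons, add_mul]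

end Odd

section Main

variable [Finite G] [Finite F] [CharP F 2] (fr : FrameL3 K F) (hZ : Odd (Nat.card (center ↥K)))

theorem prod_r {a : F} (ha : a ≠ 0) : (![a ^ 2, a⁻¹, a⁻¹] : Fin 3 → F) 0 * (![a ^ 2, a⁻¹, a⁻¹] : Fin 3 → F) 1 *
    (![a ^ 2, a⁻¹, a⁻¹] : Fin 3 → F) 2 = 1 := by
  show a ^ 2 * a⁻¹ * a⁻¹ = 1
  field_simp

theorem prod_s {a : F} (ha : a ≠ 0) : (![a, a, (a ^ 2)⁻¹] : Fin 3 → F) 0 * (![a, a, (a ^ 2)⁻¹] : Fin 3 → F) 1 *
    (![a, a, (a ^ 2)⁻¹] : Fin 3 → F) 2 = 1 := by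
  show a * a * (a ^ 2)⁻¹ = 1
  field_simp

theorem prod_d {a : F} (ha : a ≠ 0) : (![a, (a ^ 2)⁻¹, a] : Fin 3 → F) 0 * (![a, (a ^ 2)⁻¹, a] : Fin 3 → F) 1 *
    (![a, (a ^ 2)⁻¹, a] : Fin 3 → F) 2 = 1 := by
  show a * (a ^ 2)⁻¹ * a = 1
  field_simp

include hZ

omit [Finite G] in
/-- the torus has exponent `q - 1` -/
theorem T_pow {R : Subgroup G} (A : Amb K R) {y : G} (hy : y ∈ Tg fr) :
    ∃ l : ℕ, Odd l ∧ y ^ l = 1 := by
  obtain ⟨c, hc⟩ := hy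
  have := Fintype.ofFinite F
  have h1 : ∀ i, c i ^ (Fintype.card F - 1) = 1 := fun i => FiniteField.pow_card_sub_one_eq_one _ (hc.ne_zero i)
  refine ⟨Fintype.card F - 1, ?_, ?_⟩
  · obtain ⟨n, -, hn⟩ := FiniteField.card F 2
    have h2 : 0 < (n : ℕ) := n.pos
    have h3 : Even (Fintype.card F) := by rw [hn]; exact (Nat.even_pow.2 ⟨even_two, h2.ne'⟩)
    have h4 : 0 < Fintype.card F := Fintype.card_pos
    exact Nat.Even.sub_odd (by omega) h3 odd_one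
  · have h2 := Tor_pow hc (Fintype.card F - 1)
    exact A.ctr _ h2.mem (h2.central (by simp only [h1]) (by simp only [h1]))

omit [Finite G] [Finite F] hZ [CharP F 2] in
theorem T_comm {R : Subgroup G} (A : Amb K R) {y z : G} (hy : y ∈ Tg fr) (hz : z ∈ Tg fr) : y * z = z * y := by
  obtain ⟨c, hc⟩ := hy
  obtain ⟨d, hd⟩ := hz
  have h1 := ((hc.mul hd).mul hc.inv).mul hd.inv
  have h2 : ∀ i, c i * d i * (c i)⁻¹ * (d i)⁻¹ = 1 := by
    intro i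
    have := hc.ne_zero i
    have := hd.ne_zero i
    field_simp
  have h3 := A.ctr _ h1.mem (h1.central (by simp only [h2]) (by simp only [h2]))
  calc y * z = (y * z * y⁻¹ * z⁻¹) * (z * y) := by group
    _ = z * y := by rw [h3, one_mul]

/-- **The three root groups of `L₃(q)`.** -/
theorem ktriP (hA : _root_.commutator ↥K = ⊤) {R : Subgroup G} (A : Amb K R) (hR : ∃ t ∈ R, t ≠ 1)
    (h8 : 8 ≤ Nat.card F) :
    KTriP K R (Tg fr) (Xg fr 0 1) (Xg fr 1 2) (Xg fr 0 2) (cJ (fr.w 1 2 1) fr.U) (cJ (fr.w 0 1 1) fr.U) fr.U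
      (Xg fr 0 1 ⊔ Xg fr 0 2) (Xg fr 1 2 ⊔ Xg fr 0 2) (Xg fr 0 2) (fr.w 1 2 1) (fr.w 0 1 1) := by
  have h01 : (0 : Fin 3) ≠ 1 := by decide
  have h12 : (1 : Fin 3) ≠ 2 := by decide
  have h02 : (0 : Fin 3) ≠ 2 := by decide
  have hX01 : Xg fr 0 1 ≤ K := (Xg_le_U fr (by decide)).trans fr.U_le
  have hX12 : Xg fr 1 2 ≤ K := (Xg_le_U fr (by decide)).trans fr.U_le
  have hX02 : Xg fr 0 2 ≤ K := (Xg_le_U fr (by decide)).trans fr.U_le
  obtain ⟨a0, ha0, ha03⟩ := exists_cube_ne_one (F := F) (by omega)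
  have hex : ∀ c : Fin 3 → F, c 0 * c 1 * c 2 = 1 → ∃ y, fr.Tor y c := fun c hc => fr.exists_tor hc
  -- the elements acting on `X01`
  have hr : ∀ a : F, ∃ y, a ≠ 0 → fr.Tor y ![a ^ 2, a⁻¹, a⁻¹] := by
    intro a
    by_cases ha : a = 0
    · exact ⟨1, fun h => absurd ha h⟩
    · obtain ⟨y, hy⟩ := hex _ (prod_r ha)
      exact ⟨y, fun _ => hy⟩
  have hs : ∀ a : F, ∃ y, a ≠ 0 → fr.Tor y ![a, a, (a ^ 2)⁻¹] := by
    intro a
    by_cases ha : a = 0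
    · exact ⟨1, fun h => absurd ha h⟩
    · obtain ⟨y, hy⟩ := hex _ (prod_s ha)
      exact ⟨y, fun _ => hy⟩
  choose tr htr using hr
  choose ts hts using hs
  have hx01 : ∀ s t : F, fr.x 0 1 s * fr.x 0 2 t = u fr s 0 t := by
    intro s t
    unfold u
    rw [mul_zero, sub_zero, fr.x_zero hZ h12, mul_one]
  have hx12 : ∀ s t : F, fr.x 1 2 s * fr.x 0 2 t = u fr 0 s t := by
    intro s t
    unfold u
    rw [zero_mul, sub_zero, fr.x_zero hZ h01, one_mul]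
  have hcm : ∀ s t : F, fr.x 0 1 s * fr.x 1 2 t * (fr.x 0 1 s)⁻¹ * (fr.x 1 2 t)⁻¹ = fr.x 0 2 (s * t) := by
    intro s t
    rw [fr.conj hZ h01 h12 h02, mul_inv_cancel_right]
  have hdis : ∀ {i j : Fin 3}, i < j → (i, j) ≠ (0, 2) → ∀ x ∈ Xg fr i j, x ∈ Xg fr 0 2 → x = 1 := by
    intro i j hij hne x hx hx'
    obtain ⟨s, rfl⟩ := (mem_Xg fr hZ hij.ne).1 hx
    obtain ⟨t, ht⟩ := (mem_Xg fr hZ h02).1 hx'
    have e02 : fr.x 0 2 t = fr.el 0 0 t := by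
      rw [FrameL3.el, fr.x_zero hZ h01, fr.x_zero hZ h12, one_mul, one_mul]
    rcases cases_ij hij hne with ⟨rfl, rfl⟩ | ⟨rfl, rfl⟩
    · have e01 : fr.x 0 1 s = fr.el s 0 0 := by
        rw [FrameL3.el, fr.x_zero hZ h12, fr.x_zero hZ h02, mul_one, mul_one]
      rw [e01, e02, fr.el_inj] at ht
      rw [ht.1, fr.x_zero hZ h01]
    · have e12 : fr.x 1 2 s = fr.el 0 s 0 := by
        rw [FrameL3.el, fr.x_zero hZ h01, fr.x_zero hZ h02, one_mul, mul_one]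
      rw [e12, e02, fr.el_inj] at ht
      rw [ht.2.1, fr.x_zero hZ h12]
  have hbig : ∃ ω : F, ω ≠ 0 ∧ ω ≠ 1 := ⟨a0, ha0, fun h => ha03 (by rw [h, one_pow])⟩
  have ha0' : a0 ^ 2 ≠ a0⁻¹ := by
    intro h
    apply ha03
    rw [pow_succ, h, inv_mul_cancel₀ ha0]
  exact {
    XrPd := Xg_le_U fr (by decide)
    XsPd := Xg_le_U fr (by decide)
    XdPr := le_cJ_U fr hZ h12 h02 (by decide)
    XdPs := le_cJ_U fr hZ h01 h02 (by decide)
    TK := by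
      rintro y ⟨c, hc⟩
      exact hc.mem
    Tab := fun h hh k hk => T_comm fr A hh hk
    Todd := fun h hh => T_pow fr hZ A hh
    TXr := fun h hh => cJ_T fr hZ hh h01
    TXs := fun h hh => cJ_T fr hZ hh h12
    TXd := fun h hh => cJ_T fr hZ hh h02
    nK := fr.w_mem h12 1
    nX := cJ_w fr hZ h12 h01 (by decide) (by decide)
    mK := fr.w_mem h01 1
    mX := cJ_w fr hZ h01 h12 (by decide) (by decide)
    Ttr := trans_T fr hZ h01 h02 h12.symm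
    Tts := trans_T fr hZ h12 h01.symm h02
    trr := by
      intro x hx hx1 x' hx'
      obtain ⟨s, rfl⟩ := (mem_Xg fr hZ h01).1 hx
      obtain ⟨s', rfl⟩ := (mem_Xg fr hZ h01).1 hx'
      rw [Ne, fr.x_eq_one hZ h01] at hx1
      obtain ⟨l, hl, e⟩ := exists_cubes (F := F) (by omega) (s' * s⁻¹)
      refine ⟨l.map tr, ?_, ?_⟩
      · intro g hg
        obtain ⟨a, ha, rfl⟩ := List.mem_map.1 hg
        have h1 := htr a (hl a ha)
        exact ⟨⟨_, h1⟩, cen_of_eq fr hZ h1 h12 rfl, comm_w fr hZ h1 h12 rfl⟩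
      · rw [lact_x fr hZ h01 (fun a ha s => ?_) s l hl, e, inv_mul_cancel_right₀ hx1]
        rw [(htr a ha).conj hZ h01]
        congr 1
        show a ^ 2 * s * a⁻¹⁻¹ = a ^ 3 * s
        rw [inv_inv]; ring
    trs := by
      intro x hx hx1 x' hx'
      obtain ⟨s, rfl⟩ := (mem_Xg fr hZ h12).1 hx
      obtain ⟨s', rfl⟩ := (mem_Xg fr hZ h12).1 hx'
      rw [Ne, fr.x_eq_one hZ h12] at hx1
      obtain ⟨l, hl, e⟩ := exists_cubes (F := F) (by omega) (s' * s⁻¹)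
      refine ⟨l.map ts, ?_, ?_⟩
      · intro g hg
        obtain ⟨a, ha, rfl⟩ := List.mem_map.1 hg
        have h1 := hts a (hl a ha)
        exact ⟨⟨_, h1⟩, cen_of_eq fr hZ h1 h01 rfl, comm_w fr hZ h1 h01 rfl⟩
      · rw [lact_x fr hZ h12 (fun a ha s => ?_) s l hl, e, inv_mul_cancel_right₀ hx1]
        rw [(hts a ha).conj hZ h12]
        congr 1
        show a * s * (a ^ 2)⁻¹⁻¹ = a ^ 3 * s
        rw [inv_inv]; ring
    k1r := ⟨tr a0, ⟨_, htr a0 ha0⟩, cen_of_eq fr hZ (htr a0 ha0) h12 rfl, fpf_of_ne fr hZ (htr a0 ha0) h01 ha0',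
      fpf_of_ne fr hZ (htr a0 ha0) h02 ha0'⟩
    k1s := by
      have h1 : a0 ≠ (a0 ^ 2)⁻¹ := by
        intro h
        apply ha03
        have h2 : a0 ^ 2 * a0 = 1 := by nth_rewrite 2 [h]; exact mul_inv_cancel₀ (pow_ne_zero 2 ha0)
        rw [← h2]; ring
      exact ⟨ts a0, ⟨_, hts a0 ha0⟩, cen_of_eq fr hZ (hts a0 ha0) h01 rfl, fpf_of_ne fr hZ (hts a0 ha0) h12 h1,
        fpf_of_ne fr hZ (hts a0 ha0) h02 h1⟩
    k3r := by
      have h1 : a0 ≠ (a0 ^ 2)⁻¹ := by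
        intro h
        apply ha03
        have h2 : a0 ^ 2 * a0 = 1 := by nth_rewrite 2 [h]; exact mul_inv_cancel₀ (pow_ne_zero 2 ha0)
        rw [← h2]; ring
      obtain ⟨y, hy⟩ := hex _ (prod_d ha0)
      exact ⟨y, ⟨_, hy⟩, cen_of_eq fr hZ hy h02 rfl, fpf_of_ne fr hZ hy h01 h1⟩
    k3s := by
      have h1 : (a0 ^ 2)⁻¹ ≠ a0 := by
        intro h
        apply ha03
        have h2 : a0 ^ 2 * a0 = 1 := by nth_rewrite 2 [← h]; exact mul_inv_cancel₀ (pow_ne_zero 2 ha0)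
        rw [← h2]; ring
      obtain ⟨y, hy⟩ := hex _ (prod_d ha0)
      exact ⟨y, ⟨_, hy⟩, cen_of_eq fr hZ hy h02 rfl, fpf_of_ne fr hZ hy h12 h1⟩
    cmX := by
      intro x hx y hy
      obtain ⟨s, rfl⟩ := (mem_Xg fr hZ h01).1 hx
      obtain ⟨t, rfl⟩ := (mem_Xg fr hZ h12).1 hy
      rw [hcm]
      exact x_mem_Xg fr _ _ _
    nd := by
      intro x hx y hy hxy
      obtain ⟨s, rfl⟩ := (mem_Xg fr hZ h01).1 hx
      obtain ⟨t, rfl⟩ := (mem_Xg fr hZ h12).1 hy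
      have h1 := hcm s t
      rw [hxy, mul_inv_cancel_right, mul_inv_cancel] at h1
      rcases mul_eq_zero.1 ((fr.x_eq_one hZ h02).1 h1.symm) with h0 | h0
      · left; rw [h0, fr.x_zero hZ h01]
      · right; rw [h0, fr.x_zero hZ h12]
    big := by
      obtain ⟨ω, hω0, hω1⟩ := hbig
      refine ⟨fr.x 0 1 1, x_mem_Xg fr _ _ _, fr.x 0 1 ω, x_mem_Xg fr _ _ _, ?_, ?_, ?_⟩
      · rw [Ne, fr.x_eq_one hZ h01]; exact one_ne_zero
      · rw [Ne, fr.x_eq_one hZ h01]; exact hω0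
      · rw [Ne, fr.x_inj h01]; exact hω1.symm
    disr := hdis (by decide) (by decide)
    diss := hdis (by decide) (by decide)
    YrPr := sup_le (le_cJ_U fr hZ h12 h01 (by decide)) (le_cJ_U fr hZ h12 h02 (by decide))
    YrPd := sup_le (Xg_le_U fr (by decide)) (Xg_le_U fr (by decide))
    YrN := by
      intro x hx y hy
      obtain ⟨t, rfl⟩ := (mem_Xg fr hZ h12).1 hx
      rw [← Cfsg.Agent.Nodes.Reps.conj_mem_cj (g := (fr.x 1 2 t)⁻¹)]
      have e : (fr.x 1 2 t)⁻¹ * (fr.x 1 2 t * y * (fr.x 1 2 t)⁻¹) * (fr.x 1 2 t)⁻¹⁻¹ = y := by group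
      rw [e]
      refine (sup_le ?_ ?_ : Xg fr 0 1 ⊔ Xg fr 0 2 ≤ _) hy
      · intro z hz
        obtain ⟨s, rfl⟩ := (mem_Xg fr hZ h01).1 hz
        rw [Cfsg.Agent.Nodes.Reps.mem_cj, inv_inv, fr.conj' hZ h01 h12 h02]
        exact mul_mem (mem_sup_right (x_mem_Xg fr _ _ _)) (mem_sup_left (x_mem_Xg fr _ _ _))
      · intro z hz
        obtain ⟨s, rfl⟩ := (mem_Xg fr hZ h02).1 hz
        rw [Cfsg.Agent.Nodes.Reps.mem_cj, inv_inv, ← fr.comm hZ h02 h12 (by decide) (by decide) s t,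
          mul_inv_cancel_right]
        exact mem_sup_right (x_mem_Xg fr _ _ _)
    K2r := by
      intro c hc hcY
      obtain ⟨r, t, h⟩ := OutL3Facts.exists_of_cent_one fr hA (mem_normalizer_of_comm A hR hc) (fun r t => by
        rw [← hx01, hcY _ (mul_mem (mem_sup_left (x_mem_Xg fr _ _ _)) (mem_sup_right (x_mem_Xg fr _ _ _))),
          mul_inv_cancel_right])
      rw [← hx01] at h
      exact ⟨_, x_mem_Xg fr 0 1 r, _, x_mem_Xg fr 0 2 t,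
        C1_of_cent (mul_mem (hX01 (x_mem_Xg fr _ _ _)) (hX02 (x_mem_Xg fr _ _ _))) A.comm hc h⟩
    YsPs := sup_le (le_cJ_U fr hZ h01 h12 (by decide)) (le_cJ_U fr hZ h01 h02 (by decide))
    YsPd := sup_le (Xg_le_U fr (by decide)) (Xg_le_U fr (by decide))
    YsN := by
      intro x hx y hy
      obtain ⟨t, rfl⟩ := (mem_Xg fr hZ h01).1 hx
      rw [← Cfsg.Agent.Nodes.Reps.conj_mem_cj (g := (fr.x 0 1 t)⁻¹)]
      have e : (fr.x 0 1 t)⁻¹ * (fr.x 0 1 t * y * (fr.x 0 1 t)⁻¹) * (fr.x 0 1 t)⁻¹⁻¹ = y := by group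
      rw [e]
      refine (sup_le ?_ ?_ : Xg fr 1 2 ⊔ Xg fr 0 2 ≤ _) hy
      · intro z hz
        obtain ⟨s, rfl⟩ := (mem_Xg fr hZ h12).1 hz
        rw [Cfsg.Agent.Nodes.Reps.mem_cj, inv_inv, fr.conj hZ h01 h12 h02]
        exact mul_mem (mem_sup_right (x_mem_Xg fr _ _ _)) (mem_sup_left (x_mem_Xg fr _ _ _))
      · intro z hz
        obtain ⟨s, rfl⟩ := (mem_Xg fr hZ h02).1 hz
        rw [Cfsg.Agent.Nodes.Reps.mem_cj, inv_inv, ← fr.comm hZ h02 h01 (by decide) (by decide) s t,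
          mul_inv_cancel_right]
        exact mem_sup_right (x_mem_Xg fr _ _ _)
    K2s := by
      intro c hc hcY
      obtain ⟨r, t, h⟩ := OutL3Facts.exists_of_cent_two fr hA (mem_normalizer_of_comm A hR hc) (fun r t => by
        rw [← hx12, hcY _ (mul_mem (mem_sup_left (x_mem_Xg fr _ _ _)) (mem_sup_right (x_mem_Xg fr _ _ _))),
          mul_inv_cancel_right])
      rw [← hx12] at h
      exact ⟨_, x_mem_Xg fr 1 2 r, _, x_mem_Xg fr 0 2 t,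
        C1_of_cent (mul_mem (hX12 (x_mem_Xg fr _ _ _)) (hX02 (x_mem_Xg fr _ _ _))) A.comm hc h⟩
    YPr := le_cJ_U fr hZ h12 h02 (by decide)
    YPs := le_cJ_U fr hZ h01 h02 (by decide)
    YPd := Xg_le_U fr (by decide)
    K1 := by
      intro c hc h1 h2 h3
      -- `c` centralises `U`
      have hU : ∀ v ∈ fr.U, c * v = v * c := by
        have : fr.U ≤ centralizer {c} := by
          unfold FrameL3.U
          rw [closure_le]
          rintro _ ⟨i, j, hij, s, rfl⟩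
          rw [SetLike.mem_coe, mem_centralizer_singleton_iff]
          rcases (show (i = 0 ∧ j = 1) ∨ (i = 1 ∧ j = 2) ∨ (i = 0 ∧ j = 2) from by revert i j; decide) with
            ⟨rfl, rfl⟩ | ⟨rfl, rfl⟩ | ⟨rfl, rfl⟩
          · exact (h1 _ (x_mem_Xg fr _ _ _)).symm
          · exact (h2 _ (x_mem_Xg fr _ _ _)).symm
          · exact (h3 _ (x_mem_Xg fr _ _ _)).symm
        intro v hv
        exact (mem_centralizer_singleton_iff.1 (this hv)).symm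
      obtain ⟨v, hv, hvc⟩ := OutL3Facts.exists_of_trivial fr hZ hA (mem_normalizer_of_comm A hR hc)
        (fun r s t => ⟨t, by rw [hU _ (u_mem fr r s t), mul_inv_cancel_right]⟩)
      obtain ⟨z, hz⟩ := fr.mem_center_U hZ hv (by
        intro v' hv'
        have e1 := mem_centralizer_iff.1 hvc v' (fr.U_le hv')
        have e2 := hU v' hv'
        -- `v = c (v⁻¹ c)⁻¹`
        have e3 : v = c * (v⁻¹ * c)⁻¹ := by group
        have e4 : (v⁻¹ * c)⁻¹ * v' = v' * (v⁻¹ * c)⁻¹ := by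
          calc (v⁻¹ * c)⁻¹ * v' = (v⁻¹ * c)⁻¹ * (v' * (v⁻¹ * c)) * (v⁻¹ * c)⁻¹ := by group
            _ = v' * (v⁻¹ * c)⁻¹ := by rw [e1]; group
        rw [e3, mul_assoc, e4, ← mul_assoc, e2, mul_assoc])
      rw [hz] at hvc
      exact ⟨_, x_mem_Xg fr 0 2 z, C1_of_cent (hX02 (x_mem_Xg fr _ _ _)) A.comm hc hvc⟩ }

/-- **(D)**: no doubled root group over the Sylow 2-subgroup `U`, if `R` has two involutions. -/
theorem false_of_base (hA : _root_.commutator ↥K = ⊤) {R W : Subgroup G} (A : Amb K R) (h8 : 8 ≤ Nat.card F)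
    (B : Base K R fr.U (Xg fr 0 2) W) {t t' : G} (ht : t ∈ R) (ht1 : t ≠ 1) (ht' : t' ∈ R) (ht1' : t' ≠ 1)
    (hne : t' ≠ t) : False := by
  have h01 : (0 : Fin 3) ≠ 1 := by decide
  have h12 : (1 : Fin 3) ≠ 2 := by decide
  have h02 : (0 : Fin 3) ≠ 2 := by decide
  have H := ktriP fr hZ hA A ⟨t, ht, ht1⟩ h8
  exact hne ((H.triP A B (a := fr.w 1 2 1) (b := fr.w 0 1 1) (c := 1) (fr.w_mem h12 1) (fr.w_mem h01 1) (one_mem _)
    (cJ_w fr hZ h12 h02 (by decide) (by decide)) (cJ_w fr hZ h01 h02 (by decide) (by decide))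
    (Cfsg.Agent.Nodes.Reps.cj_one _) rfl rfl (Cfsg.Agent.Nodes.Reps.cj_one _)).eq_of_ne_one ht ht1 ht' ht1')

end Main

end Cfsg.Agent.OddHalf.D4.L3
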