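import Cfsg.Agent.S0249
import Cfsg.Agent.OddHalf.D4.L3.Double
import Cfsg.Agent.OddHalf.D4.L3.Tri

/-!
# ODD, D4, row `L_3(2^a)`, (D) over an embedding `f : PSL_3(F) →* G`

* `frOf` : the frame of `f.range`; `frOf_U`, `frOf_Xg` : its Sylow 2-subgroup and highest root group are `Sf f`, `Zf f`;
* `false_of_base_f` : **(D)**.
-/

set_option autoImplicit false
set_option linter.unusedSectionVars false

namespace Cfsg.Agent.OddHalf.D4.L3

open Subgroup
open Matrix.SpecialLinearGroup (transvection)
open Cfsg.Agent.StdRank2 Cfsg.Agent.OddHalf.DblR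
open Cfsg.Agent.ClassicalGeometry.AutPSL.Root

universe v

section

variable {F : Type*} [Field F] {G : Type*} [Group G]

/-- the isomorphism of the quotient by the trivial centre -/
noncomputable def eOf {f : Y3 F →* G} (hf : Function.Injective f) (hc : center ↥f.range = ⊥) :
    ↥f.range ⧸ center ↥f.range ≃* Y3 F :=
  (QuotientGroup.quotientMulEquivOfEq hc).trans (QuotientGroup.quotientBot.trans (MonoidHom.ofInjective hf).symm)

theorem eOf_mk {f : Y3 F →* G} (hf : Function.Injective f) (hc : center ↥f.range = ⊥) (y : Y3 F) {g : G}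
    (hg : g = f y) (hm : g ∈ f.range) : eOf hf hc (QuotientGroup.mk ⟨g, hm⟩) = y := by
  subst hg
  show (MonoidHom.ofInjective hf).symm ⟨f y, hm⟩ = y
  rw [MulEquiv.symm_apply_eq]
  rfl

open Classical in
/-- the frame of `f.range` -/
noncomputable def frOf [CharP F 2] {f : Y3 F →* G} (hf : Function.Injective f) (hc : center ↥f.range = ⊥) :
    FrameL3 f.range F where
  e := eOf hf hc
  x i j s := if h : i ≠ j then f (pr (transvection h s)) else 1
  mem := by
    intro i j h s
    rw [dif_pos h]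
    exact ⟨_, rfl⟩
  map := by
    intro i j h s
    exact eOf_mk hf hc _ (dif_pos h) _
  two := by
    intro i j h s
    rw [dif_pos h, ← map_mul, ← map_mul, ← Matrix.SpecialLinearGroup.transvection_add, CharTwo.add_self_eq_zero,
      Matrix.SpecialLinearGroup.transvection_coeff_zero, map_one, map_one]

variable [CharP F 2] {f : Y3 F →* G} (hf : Function.Injective f) (hc : center ↥f.range = ⊥)

theorem frOf_x {i j : Fin 3} (h : i ≠ j) (s : F) : (frOf hf hc).x i j s = f (pr (transvection h s)) := dif_pos h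

theorem frOf_x01 (s : F) : (frOf hf hc).x 0 1 s = U f s 0 0 := by
  rw [frOf_x hf hc (by decide), U, um_eq01]

theorem frOf_x12 (s : F) : (frOf hf hc).x 1 2 s = U f 0 s 0 := by
  rw [frOf_x hf hc (by decide), U, um_eq12]

theorem frOf_x02 (s : F) : (frOf hf hc).x 0 2 s = U f 0 0 s := by
  rw [frOf_x hf hc (by decide), U, um_eq02]

include hc in
theorem odd_center : Odd (Nat.card (center ↥f.range)) := by
  rw [hc, card_bot]
  exact odd_one

theorem frOf_el (a b c : F) : (frOf hf hc).el a b c = U f a b (c + a * b) := by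
  rw [FrameL3.el, frOf_x01, frOf_x12, frOf_x02, U_mul, U_mul]
  congr 1 <;> ring

theorem frOf_U : (frOf hf hc).U = Sf f := by
  ext g
  rw [FrameL3.mem_U _ (odd_center hc), mem_Sf]
  constructor
  · rintro ⟨a, b, c, rfl⟩
    exact ⟨a, b, _, frOf_el hf hc a b c⟩
  · rintro ⟨a, b, c, rfl⟩
    refine ⟨a, b, c - a * b, ?_⟩
    rw [frOf_el, sub_add_cancel]

theorem frOf_Xg : Xg (frOf hf hc) 0 2 = Zf f := by
  ext g
  rw [mem_Xg _ (odd_center hc) (by decide), mem_Zf]
  constructor
  · rintro ⟨s, rfl⟩
    exact ⟨s, frOf_x02 hf hc s⟩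
  · rintro ⟨s, rfl⟩
    exact ⟨s, (frOf_x02 hf hc s).symm⟩

end

section main

variable {F : Type*} [Field F] {G : Type*} [Group G] [CharP F 2] {f : Y3 F →* G}

theorem center_range {R : Subgroup G} (A : Amb f.range R) : center ↥f.range = ⊥ := by
  rw [eq_bot_iff]
  intro k hk
  rw [mem_bot]
  apply Subtype.ext
  exact A.ctr k.1 k.2 fun x hx => (congrArg Subtype.val (mem_center_iff.1 hk ⟨x, hx⟩)).symm

/-- the range is perfect -/
theorem commutator_range (hf : Function.Injective f) : _root_.commutator ↥f.range = ⊤ := by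
  have hs : IsSimpleGroup (Y3 F) := S0249.result 3 le_rfl
  have hs' : IsSimpleGroup ↥f.range := (MonoidHom.ofInjective hf).symm.isSimpleGroup
  rcases (Subgroup.commutator_normal (⊤ : Subgroup ↥f.range) ⊤).eq_bot_or_eq_top with h | h
  · exfalso
    have h1 : ∀ x y : ↥f.range, x * y = y * x := by
      intro x y
      have h2 := Subgroup.commutator_mem_commutator (mem_top x) (mem_top y)
      rw [h, mem_bot] at h2
      exact commutatorElement_eq_one_iff_mul_comm.1 h2
    have h3 := h1 ⟨U f 1 0 0, Sf_le f (U_mem f 1 0 0)⟩ ⟨U f 0 1 0, Sf_le f (U_mem f 0 1 0)⟩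
    have h4 : U f 1 0 0 * U f 0 1 0 = U f 0 1 0 * U f 1 0 0 := congrArg Subtype.val h3
    rw [U_mul, U_mul] at h4
    have h5 := (U_inj hf h4).2.2
    simp at h5
  · exact h

/-- **(D)** over `f`. -/
theorem false_of_base_f (hf : Function.Injective f) [Finite F] [Finite G] {R W : Subgroup G} (h8 : 8 ≤ Nat.card F)
    (A : Amb f.range R) (B : Base f.range R (Sf f) (Zf f) W) {t t' : G} (ht : t ∈ R) (ht1 : t ≠ 1) (ht' : t' ∈ R)
    (ht1' : t' ≠ 1) (hne : t' ≠ t) : False := by
  have hc := center_range A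
  rw [← frOf_U hf hc, ← frOf_Xg hf hc] at B
  exact false_of_base (frOf hf hc) (odd_center hc) (commutator_range hf) A h8 B ht ht1 ht' ht1' hne

end main

end Cfsg.Agent.OddHalf.D4.L3
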