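import Mathlib
import Cfsg.Agent.OddHalf.D4.L3.Core
import Cfsg.Agent.OddHalf.D4.L3.TriOf

/-!
# ODD, D4: the row `l3e`: `L_3(2^a)`, `a ≥ 3`
-/

set_option autoImplicit false

namespace Cfsg.Agent.OddHalf.D4.L3

open Cfsg.Agent.OddHalf.D4 Cfsg.Agent.ClassicalGeometry.AutPSL.Root
open Subgroup (centralizer)

universe u

theorem charP_two {F : Type} [Field F] [Fintype F] {a : ℕ} (h : Fintype.card F = 2 ^ a) : CharP F 2 := by
  apply CharTwo.of_one_ne_zero_of_two_eq_zero one_ne_zero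
  have h1 := FiniteField.cast_card_eq_zero F
  rw [h, Nat.cast_pow] at h1
  have h2 : ((2 : ℕ) : F) = 0 := by
    by_contra h3
    exact pow_ne_zero a h3 h1
  exact_mod_cast h2

/-- **D4, row `l3e`**, modulo the contradiction `hD` for doubled root groups -/
theorem row_of (h1173 : Start.P1173.{u})
    (hD : ∀ {F : Type} [Field F] [Finite F] [CharP F 2] {G : Type u} [Group G] [Finite G], 8 ≤ Nat.card F →
      ∀ f : Y3 F →* G, Function.Injective f → ∀ R W : Subgroup G, DblR.Amb f.range R →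
      DblR.Base f.range R (Sf f) (Zf f) W → ∀ t ∈ R, ∀ t' ∈ R, t ≠ 1 → t' ≠ 1 → t' ≠ t → False) :
    Cut.Row1.{u} (fun K _ => Cut.L3e K) := by
  intro G _ hG K S hrk hz hP
  have := hG.fin
  obtain ⟨F, i1, i2, a, ha, hc, ⟨e⟩⟩ := hP
  have hch : CharP F 2 := charP_two hc
  have h8 : 8 ≤ Nat.card F := by
    rw [Nat.card_eq_fintype_card, hc]
    calc 8 = 2 ^ 3 := by norm_num
      _ ≤ 2 ^ a := Nat.pow_le_pow_right (by norm_num) ha
  let f : Y3 F →* G := K.subtype.comp e.symm.toMonoidHom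
  have hf : Function.Injective f := (Subgroup.subtype_injective K).comp e.symm.injective
  have hr : f.range = K := by
    ext x
    constructor
    · rintro ⟨y, rfl⟩
      exact (e.symm y).2
    · intro hx
      refine ⟨e ⟨x, hx⟩, ?_⟩
      show ((e.symm (e ⟨x, hx⟩) : ↥K) : G) = x
      rw [e.symm_apply_apply]
  clear_value f
  subst hr
  exact core hG h1173 h8 hf S hrk hz (fun f' hf' => hD h8 f' hf')

/-- **D4, row `l3e`.** -/
theorem row (h1173 : Start.P1173.{u}) : Cut.Row1.{u} (fun K _ => Cut.L3e K) :=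
  row_of h1173 fun h8 _ hf _ _ A B _ ht _ ht' ht1 ht1' hne => false_of_base_f hf h8 A B ht ht1 ht' ht1' hne

end Cfsg.Agent.OddHalf.D4.L3
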