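import Mathlib
import Cfsg.Agent.OddHalf.D4.L3.FrameK
import Cfsg.Agent.OddHalf.DblR.FamP

/-!
# ODD, D4, row `L_3(2^a)`: sums of cubes

* `cube_sum` : for `q = 2^a ≥ 8` every element of `F` is a sum of cubes of units;
* `trr`, `trs`, `k1r`, `k1s`, `k3r`, `k3s` : the fields of `KTriP` which use cubes.
-/

set_option autoImplicit false
set_option linter.unusedSectionVars false

namespace Cfsg.Agent.OddHalf.D4.L3

open Cfsg.Agent.OddHalf.DblR

variable {F : Type*} [Field F]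

/-- the sums of cubes -/
def CubeSum (x : F) : Prop := ∃ l : List Fˣ, (l.map fun u => ((u ^ 3 : Fˣ) : F)).sum = x

theorem CubeSum.zero : CubeSum (0 : F) := ⟨[], rfl⟩

theorem CubeSum.one : CubeSum (1 : F) := ⟨[1], by simp⟩

theorem CubeSum.add {x y : F} (hx : CubeSum x) (hy : CubeSum y) : CubeSum (x + y) := by
  obtain ⟨l, rfl⟩ := hx
  obtain ⟨m, rfl⟩ := hy
  exact ⟨l ++ m, by rw [List.map_append, List.sum_append]⟩

theorem CubeSum.smul {y : F} (u : Fˣ) (hy : CubeSum y) : CubeSum (((u ^ 3 : Fˣ) : F) * y) := by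
  obtain ⟨m, rfl⟩ := hy
  refine ⟨m.map (fun v => u * v), ?_⟩
  rw [List.map_map]
  induction m with
  | nil => simp
  | cons v m ih =>
    rw [List.map_cons, List.sum_cons, ih, List.map_cons, List.sum_cons, mul_add]
    congr 1
    simp [mul_pow]

theorem CubeSum.mul {x y : F} (hx : CubeSum x) (hy : CubeSum y) : CubeSum (x * y) := by
  obtain ⟨l, rfl⟩ := hx
  induction l with
  | nil => simpa using CubeSum.zero
  | cons v l ih =>
    rw [List.map_cons, List.sum_cons, add_mul]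
    exact (hy.smul v).add ih

/-- the subfield of the sums of cubes -/
def cubes [CharP F 2] [Finite F] : Subfield F where
  carrier := {x | CubeSum x}
  zero_mem' := CubeSum.zero
  one_mem' := CubeSum.one
  add_mem' := fun hx hy => CubeSum.add hx hy
  mul_mem' := fun hx hy => CubeSum.mul hx hy
  neg_mem' := fun {x} hx => by
    have : -x = x := CharTwo.neg_eq x
    rw [Set.mem_ofPred_eq, this]; exact hx
  inv_mem' := fun x hx => by
    have := Fintype.ofFinite F
    by_cases h0 : x = 0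
    · rw [h0, inv_zero]; exact CubeSum.zero
    · have hp : ∀ n : ℕ, CubeSum (x ^ n) := by
        intro n
        induction n with
        | zero => rw [pow_zero]; exact CubeSum.one
        | succ n ih => rw [pow_succ]; exact ih.mul hx
      have h1 := FiniteField.pow_card_sub_one_eq_one x h0
      have h2 : x⁻¹ = x ^ (Fintype.card F - 1 - 1) := by
        have h3 : 1 < Fintype.card F := Fintype.one_lt_card
        have h4 : x ^ (Fintype.card F - 1 - 1) * x = 1 := by
          rw [← pow_succ, show Fintype.card F - 1 - 1 + 1 = Fintype.card F - 1 by omega, h1]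
        exact (eq_inv_of_mul_eq_one_left h4).symm
      show CubeSum x⁻¹
      rw [h2]
      exact hp _

theorem mem_cubes [CharP F 2] [Finite F] {x : F} : x ∈ cubes (F := F) ↔ CubeSum x := Iff.rfl

/-- `q - 1 ≤ 3 (q_0 - 1)` -/
theorem card_le [CharP F 2] [Finite F] : Nat.card F - 1 ≤ 3 * (Nat.card (cubes (F := F)) - 1) := by
  classical
  have := Fintype.ofFinite F
  have hF : Nat.card Fˣ = Nat.card F - 1 := Nat.card_units F
  let φ : Fˣ →* Fˣ := powMonoidHom 3
  have h1 : Nat.card φ.ker * Nat.card φ.range = Nat.card Fˣ := by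
    rw [← Subgroup.index_ker φ, Subgroup.card_mul_index]
  have h2 : Nat.card φ.ker ≤ 3 := by
    have h3 := IsCyclic.card_pow_eq_one_le (α := Fˣ) (n := 3) (by norm_num)
    have h4 : Nat.card φ.ker = (Finset.univ.filter fun a : Fˣ => a ^ 3 = 1).card := by
      rw [Nat.card_eq_fintype_card, Fintype.card_subtype]
      congr 1
      ext a
      simp [φ, MonoidHom.mem_ker]
    rw [h4]
    exact h3
  have h3 : Nat.card φ.range ≤ Nat.card (cubes (F := F)) - 1 := by
    have h4 : Nat.card (cubes (F := F)) - 1 = Nat.card (cubes (F := F))ˣ := (Nat.card_units _).symm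
    rw [h4]
    have hin : ∀ u : φ.range, ((u : Fˣ) : F) ∈ cubes (F := F) := by
      rintro ⟨_, v, rfl⟩
      exact ⟨[v], by simp [φ]⟩
    refine Nat.card_le_card_of_injective
      (fun u : φ.range => Units.mk0 (⟨((u : Fˣ) : F), hin u⟩ : cubes (F := F))
        (fun h => (u : Fˣ).ne_zero (congrArg Subtype.val h))) ?_
    intro u v h
    apply Subtype.ext
    apply Units.ext
    have h5 := congrArg (fun z : (cubes (F := F))ˣ => ((z : cubes (F := F)) : F)) h
    exact h5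
  rw [← hF, ← h1]
  exact Nat.mul_le_mul h2 h3

theorem cubes_eq_top [CharP F 2] [Finite F] (h8 : 8 ≤ Nat.card F) : cubes (F := F) = ⊤ := by
  have h1 := card_le (F := F)
  set q0 := Nat.card (cubes (F := F)) with hq
  have hq0 : 1 < q0 := Finite.one_lt_card
  have h2 : Nat.card F = q0 ^ Module.finrank (cubes (F := F)) F := Module.natCard_eq_pow_finrank
  have hpos : 0 < Module.finrank (cubes (F := F)) F := Module.finrank_pos
  by_cases hd : Module.finrank (cubes (F := F)) F = 1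
  · rw [hd, pow_one] at h2
    have h3 : ((cubes (F := F) : Subfield F) : Set F) = Set.univ := by
      apply Set.eq_of_subset_of_ncard_le (Set.subset_univ _) _ Set.finite_univ
      rw [Set.ncard_univ, h2, hq]
      exact le_of_eq (Nat.card_coe_set_eq _)
    exact SetLike.coe_injective (by rw [h3]; rfl)
  · exfalso
    have h3 : q0 ^ 2 ≤ Nat.card F := by
      rw [h2]
      exact Nat.pow_le_pow_right (by omega) (by omega)
    have h4 : q0 ^ 2 - 1 ≤ 3 * (q0 - 1) := le_trans (Nat.sub_le_sub_right h3 1) h1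
    have h5 : q0 ≤ 2 := by
      by_contra hcon
      push Not at hcon
      obtain ⟨k, hk⟩ : ∃ k, q0 = k + 3 := ⟨q0 - 3, by omega⟩
      rw [hk] at h4
      have e1 : (k + 3) ^ 2 - 1 = k * k + 6 * k + 8 := by
        have : (k + 3) ^ 2 = k * k + 6 * k + 9 := by ring
        omega
      rw [e1] at h4
      have e2 : 3 * (k + 3 - 1) = 3 * k + 6 := by omega
      rw [e2] at h4
      nlinarith
    have h6 : q0 = 2 := by omega
    rw [h6] at h1
    omega

/-- **Every element of a field with `2^a ≥ 8` elements is a sum of cubes.** -/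
theorem cube_sum [Finite F] [CharP F 2] (h8 : 8 ≤ Nat.card F) (x : F) :
    ∃ l : List Fˣ, (l.map fun u => ((u ^ 3 : Fˣ) : F)).sum = x := by
  have : x ∈ cubes (F := F) := by
    rw [cubes_eq_top h8]
    exact Subfield.mem_top x
  exact this

/-! ### The fields of `KTriP` -/

section fields

open Cfsg.Agent.ClassicalGeometry.AutPSL.Root

variable {G : Type*} [Group G] (f : Y3 F →* G)

theorem lact_cons {h : G} {l : List G} {x : G} : lact (h :: l) x = (h * x * h⁻¹) * lact l x := by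
  unfold lact
  rw [List.map_cons, List.prod_cons]

theorem lact_nil {x : G} : lact ([] : List G) x = 1 := rfl

/-- the elements centralising `X_s` -/
theorem Tm_r (u : Fˣ) (a b c : F) : Tm f (u ^ 2) u⁻¹ * U f a b c * (Tm f (u ^ 2) u⁻¹)⁻¹ =
    U f (((u ^ 3 : Fˣ) : F) * a) b (((u ^ 3 : Fˣ) : F) * c) := by
  rw [Tm_conj]
  congr 1
  · rw [inv_inv, ← pow_succ]
  · rw [inv_pow, mul_inv_cancel, Units.val_one, one_mul]
  · congr 2
    rw [← pow_mul, show 2 * 2 = 3 + 1 by rfl, pow_succ, mul_inv_cancel_right]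

/-- the elements centralising `X_r` -/
theorem Tm_s (u : Fˣ) (a b c : F) : Tm f u u * U f a b c * (Tm f u u)⁻¹ =
    U f a (((u ^ 3 : Fˣ) : F) * b) (((u ^ 3 : Fˣ) : F) * c) := by
  rw [Tm_conj]
  congr 1
  · rw [mul_inv_cancel, Units.val_one, one_mul]
  · congr 2
    rw [pow_succ' u 2]
  · congr 2
    rw [pow_succ u 2]

/-- the elements centralising `X_d` -/
theorem Tm_d (u : Fˣ) (a b c : F) : Tm f u (u ^ 2)⁻¹ * U f a b c * (Tm f u (u ^ 2)⁻¹)⁻¹ =
    U f (((u ^ 3 : Fˣ) : F) * a) ((((u ^ 3)⁻¹ : Fˣ) : F) * b) c := by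
  rw [Tm_conj]
  congr 1
  · congr 2
    rw [inv_inv, pow_succ' u 2]
  · congr 2
    rw [inv_pow, ← pow_mul, show 2 * 2 = 1 + 3 by rfl, pow_add, mul_inv, pow_one, mul_inv_cancel_left]
  · rw [mul_inv_cancel, Units.val_one, one_mul]

theorem comm_of_conj {h x : G} (e : h * x * h⁻¹ = x) : h * x = x * h := mul_inv_eq_iff_eq_mul.1 e

theorem Tm_r_n (u : Fˣ) : Tm f (u ^ 2) u⁻¹ * f (pr nr) = f (pr nr) * Tm f (u ^ 2) u⁻¹ := by
  unfold Tm
  rw [← map_mul, ← map_mul, ← map_mul, ← map_mul, hm_nr]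
  rw [inv_pow, mul_inv_cancel]

theorem Tm_s_n (u : Fˣ) : Tm f u u * f (pr ns) = f (pr ns) * Tm f u u := by
  unfold Tm
  rw [← map_mul, ← map_mul, ← map_mul, ← map_mul, hm_ns]

/-- field `trr` -/
theorem trr [Finite F] [CharP F 2] (h8 : 8 ≤ Nat.card F) {a : F} (ha : a ≠ 0) (a' : F) : ∃ l : List G,
    (∀ h ∈ l, h ∈ Tf f ∧ (∀ b, h * U f 0 b 0 = U f 0 b 0 * h) ∧ h * f (pr nr) = f (pr nr) * h) ∧
      lact l (U f a 0 0) = U f a' 0 0 := by
  obtain ⟨l, hl⟩ := cube_sum h8 (a' * a⁻¹)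
  refine ⟨l.map fun u => Tm f (u ^ 2) u⁻¹, ?_, ?_⟩
  · intro h hh
    obtain ⟨u, -, rfl⟩ := List.mem_map.1 hh
    refine ⟨Tm_mem f _ _, fun b => comm_of_conj ?_, Tm_r_n f u⟩
    rw [Tm_r, mul_zero]
  · have key : ∀ l : List Fˣ, lact (l.map fun u => Tm f (u ^ 2) u⁻¹) (U f a 0 0) =
        U f ((l.map fun u => ((u ^ 3 : Fˣ) : F)).sum * a) 0 0 := by
      intro l
      induction l with
      | nil => rw [List.map_nil, lact_nil, List.map_nil, List.sum_nil, zero_mul, U_one]
      | cons u l ih =>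
        rw [List.map_cons, lact_cons, ih, Tm_r, List.map_cons, List.sum_cons, mul_zero, U_mul, add_mul]
        simp only [mul_zero, add_zero]
    rw [key, hl, mul_assoc, inv_mul_cancel₀ ha, mul_one]

/-- field `trs` -/
theorem trs [Finite F] [CharP F 2] (h8 : 8 ≤ Nat.card F) {b : F} (hb : b ≠ 0) (b' : F) : ∃ l : List G,
    (∀ h ∈ l, h ∈ Tf f ∧ (∀ a, h * U f a 0 0 = U f a 0 0 * h) ∧ h * f (pr ns) = f (pr ns) * h) ∧
      lact l (U f 0 b 0) = U f 0 b' 0 := by
  obtain ⟨l, hl⟩ := cube_sum h8 (b' * b⁻¹)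
  refine ⟨l.map fun u => Tm f u u, ?_, ?_⟩
  · intro h hh
    obtain ⟨u, -, rfl⟩ := List.mem_map.1 hh
    refine ⟨Tm_mem f _ _, fun b => comm_of_conj ?_, Tm_s_n f u⟩
    rw [Tm_s, mul_zero]
  · have key : ∀ l : List Fˣ, lact (l.map fun u => Tm f u u) (U f 0 b 0) =
        U f 0 ((l.map fun u => ((u ^ 3 : Fˣ) : F)).sum * b) 0 := by
      intro l
      induction l with
      | nil => rw [List.map_nil, lact_nil, List.map_nil, List.sum_nil, zero_mul, U_one]
      | cons u l ih =>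
        rw [List.map_cons, lact_cons, ih, Tm_s, List.map_cons, List.sum_cons, mul_zero, U_mul, add_mul]
        simp only [zero_mul, add_zero]
    rw [key, hl, mul_assoc, inv_mul_cancel₀ hb, mul_one]

variable {f}

theorem cube_fix {u : Fˣ} (hu : u ^ 3 ≠ 1) {a : F} (h : ((u ^ 3 : Fˣ) : F) * a = a) : a = 0 := by
  by_contra h0
  apply hu
  apply Units.ext
  rw [Units.val_one]
  exact mul_right_cancel₀ h0 (by rw [h, one_mul])

theorem cube_fix' {u : Fˣ} (hu : u ^ 3 ≠ 1) {a : F} (h : (((u ^ 3)⁻¹ : Fˣ) : F) * a = a) : a = 0 := by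
  by_contra h0
  apply hu
  rw [← inv_eq_one]
  apply Units.ext
  rw [Units.val_one]
  exact mul_right_cancel₀ h0 (by rw [h, one_mul])

/-- field `k1r` -/
theorem k1r [Finite F] (hf : Function.Injective f) (h8 : 8 ≤ Nat.card F) : ∃ κ ∈ Tf f, (∀ b, κ * U f 0 b 0 = U f 0 b 0 * κ) ∧
    (∀ a, κ * U f a 0 0 = U f a 0 0 * κ → a = 0) ∧ (∀ c, κ * U f 0 0 c = U f 0 0 c * κ → c = 0) := by
  obtain ⟨u, hu⟩ := exists_cube_ne h8
  refine ⟨Tm f (u ^ 2) u⁻¹, Tm_mem f _ _, fun b => comm_of_conj ?_, ?_, ?_⟩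
  · rw [Tm_r, mul_zero]
  · intro a h
    have h1 := mul_inv_eq_iff_eq_mul.2 h
    rw [Tm_r] at h1
    exact cube_fix hu (U_inj hf h1).1
  · intro a h
    have h1 := mul_inv_eq_iff_eq_mul.2 h
    rw [Tm_r] at h1
    exact cube_fix hu (U_inj hf h1).2.2

/-- field `k1s` -/
theorem k1s [Finite F] (hf : Function.Injective f) (h8 : 8 ≤ Nat.card F) : ∃ κ ∈ Tf f, (∀ a, κ * U f a 0 0 = U f a 0 0 * κ) ∧
    (∀ b, κ * U f 0 b 0 = U f 0 b 0 * κ → b = 0) ∧ (∀ c, κ * U f 0 0 c = U f 0 0 c * κ → c = 0) := by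
  obtain ⟨u, hu⟩ := exists_cube_ne h8
  refine ⟨Tm f u u, Tm_mem f _ _, fun b => comm_of_conj ?_, ?_, ?_⟩
  · rw [Tm_s, mul_zero]
  · intro a h
    have h1 := mul_inv_eq_iff_eq_mul.2 h
    rw [Tm_s] at h1
    exact cube_fix hu (U_inj hf h1).2.1
  · intro a h
    have h1 := mul_inv_eq_iff_eq_mul.2 h
    rw [Tm_s] at h1
    exact cube_fix hu (U_inj hf h1).2.2

/-- fields `k3r` and `k3s` -/
theorem k3 [Finite F] (hf : Function.Injective f) (h8 : 8 ≤ Nat.card F) : ∃ κ ∈ Tf f, (∀ c, κ * U f 0 0 c = U f 0 0 c * κ) ∧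
    (∀ a, κ * U f a 0 0 = U f a 0 0 * κ → a = 0) ∧ (∀ b, κ * U f 0 b 0 = U f 0 b 0 * κ → b = 0) := by
  obtain ⟨u, hu⟩ := exists_cube_ne h8
  refine ⟨Tm f u (u ^ 2)⁻¹, Tm_mem f _ _, fun b => comm_of_conj ?_, ?_, ?_⟩
  · rw [Tm_d, mul_zero, mul_zero]
  · intro a h
    have h1 := mul_inv_eq_iff_eq_mul.2 h
    rw [Tm_d] at h1
    exact cube_fix hu (U_inj hf h1).1
  · intro a h
    have h1 := mul_inv_eq_iff_eq_mul.2 h
    rw [Tm_d] at h1
    exact cube_fix' hu (U_inj hf h1).2.1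

end fields

end Cfsg.Agent.OddHalf.D4.L3
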